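import Mathlib.GroupTheory.Subgroup.Centralizer
import Mathlib.LinearAlgebra.Dual.Lemmas
import Mathlib.Tactic.Group
import Mathlib.Tactic.LinearCombination

/-!
# Two abelian subgroups with commutator group a line: the form (TEXT MIX (6), bb OMEGA #12374)

`W`, `W'` abelian, `R ≤ W ∩ W'`, `[W, W'] ≤ R`, `C_W(W') = R = C_{W'}(W)`, `R = {κ c : c ∈ F}` for a field `F`.
`fm κ a b` is the commutator `[a, b]` as an element of `F`.

* `Pai.scalar` : scalars pass from a line of `W` to a line of `W'` not commuting with it;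
* `Pai.exists_rep` : every linear function on `W / R` is `a ↦ [a, b]`, `b ∈ W'`;
* `Pai.perp_perp`.
-/

set_option autoImplicit false

namespace Cfsg.Agent.Omega.Mix

open Subgroup

variable {G : Type*} [Group G] {F : Type*} [Field F]

/-- the commutator `[a, b]` in coordinates -/
noncomputable def fm (κ : F → G) (a b : G) : F :=
  open Classical in if h : ∃ c, κ c = a * b * a⁻¹ * b⁻¹ then h.choose else 0

structure Pai (κ : F → G) (W W' R : Subgroup G) : Prop where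
  κ_add : ∀ c d, κ (c + d) = κ c * κ d
  κ_inj : Function.Injective κ
  κ_mem : ∀ g, g ∈ R ↔ ∃ c, κ c = g
  comm : ∀ a ∈ W, ∀ b ∈ W, a * b = b * a
  comm' : ∀ a ∈ W', ∀ b ∈ W', a * b = b * a
  R_le : R ≤ W
  R_le' : R ≤ W'
  cm : ∀ a ∈ W, ∀ b ∈ W', a * b * a⁻¹ * b⁻¹ ∈ R
  nd : ∀ a ∈ W, (∀ b ∈ W', a * b = b * a) → a ∈ R
  nd' : ∀ b ∈ W', (∀ a ∈ W, a * b = b * a) → b ∈ R

/-- the elements with `[W, b] ≤ R`, `[R, b] = 1` -/
structure Tst (W R : Subgroup G) (b : G) : Prop where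
  cm : ∀ a ∈ W, a * b * a⁻¹ * b⁻¹ ∈ R
  cR : ∀ r ∈ R, r * b = b * r

/-- `Z` acts linearly on the line `l` of `W` -/
def Lin (κ : F → G) (Z : Set G) (l : Subgroup G) : Prop :=
  ∀ c : F, ∀ a ∈ l, ∃ a' ∈ l, ∀ b ∈ Z, fm κ a' b = c * fm κ a b

/-- the lines of `W` -/
structure Ln (κ : F → G) (W W' l : Subgroup G) (Z : Set G) : Prop where
  le : l ≤ W
  full : ∀ b ∈ W', (∃ a ∈ l, a * b ≠ b * a) → ∀ c : F, ∃ a ∈ l, fm κ a b = c
  trs : ∀ c d : F, c ≠ 0 → ∃ σ : F → F, σ c = d ∧ ∀ a ∈ l, ∃ a' ∈ l, ∀ b ∈ Z, fm κ a' b = σ (fm κ a b)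

namespace Pai

variable {κ : F → G} {W W' R : Subgroup G} (p : Pai κ W W' R)
include p

theorem κ_zero : κ 0 = 1 := by
  have := p.κ_add 0 0
  rw [add_zero] at this
  exact left_eq_mul.1 this

theorem κ_neg (c : F) : κ (-c) = (κ c)⁻¹ := by
  rw [eq_inv_iff_mul_eq_one, ← p.κ_add, neg_add_cancel, p.κ_zero]

theorem tst {b : G} (hb : b ∈ W') : Tst W R b :=
  ⟨fun a ha => p.cm a ha b hb, fun r hr => p.comm' r (p.R_le' hr) b hb⟩

theorem tst_mul {b b' : G} (h : Tst W R b) (h' : Tst W R b') : Tst W R (b * b') where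
  cm := fun a ha => by
    have e : a * (b * b') * a⁻¹ * (b * b')⁻¹ = (a * b * a⁻¹ * b⁻¹) * (b * (a * b' * a⁻¹ * b'⁻¹) * b⁻¹) := by group
    rw [e, ← h.cR _ (h'.cm a ha), mul_inv_cancel_right]
    exact mul_mem (h.cm a ha) (h'.cm a ha)
  cR := fun r hr => by rw [← mul_assoc, h.cR r hr, mul_assoc, h'.cR r hr, mul_assoc]

theorem tst_inv {b : G} (h : Tst W R b) : Tst W R b⁻¹ where
  cR := fun r hr => by
    have h1 := h.cR r hr
    calc r * b⁻¹ = b⁻¹ * (b * r) * b⁻¹ := by group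
      _ = b⁻¹ * (r * b) * b⁻¹ := by rw [h1]
      _ = b⁻¹ * r := by group
  cm := fun a ha => by
    have h1 := inv_mem (h.cm a ha)
    have h2 := h.cR _ h1
    have e : a * b⁻¹ * a⁻¹ * b⁻¹⁻¹ = b⁻¹ * ((a * b * a⁻¹ * b⁻¹)⁻¹ * b) := by group
    rw [e, h2, inv_mul_cancel_left]
    exact h1

theorem spec {a b : G} (ha : a ∈ W) (hb : Tst W R b) : κ (fm κ a b) = a * b * a⁻¹ * b⁻¹ := by
  have h : ∃ c, κ c = a * b * a⁻¹ * b⁻¹ := (p.κ_mem _).1 (hb.cm a ha)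
  rw [fm, dif_pos h]
  exact h.choose_spec

theorem spec' {a b : G} (ha : a ∈ W) (hb : Tst W R b) : κ (fm κ b a) = b * a * b⁻¹ * a⁻¹ := by
  have h : ∃ c, κ c = b * a * b⁻¹ * a⁻¹ := by
    refine (p.κ_mem _).1 ?_
    have := inv_mem (hb.cm a ha)
    have e : (a * b * a⁻¹ * b⁻¹)⁻¹ = b * a * b⁻¹ * a⁻¹ := by group
    rwa [e] at this
  rw [fm, dif_pos h]
  exact h.choose_spec

theorem symm : Pai κ W' W R where
  κ_add := p.κ_add
  κ_inj := p.κ_inj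
  κ_mem := p.κ_mem
  comm := p.comm'
  comm' := p.comm
  R_le := p.R_le'
  R_le' := p.R_le
  cm := fun b hb a ha => by
    have := inv_mem (p.cm a ha b hb)
    have e : (a * b * a⁻¹ * b⁻¹)⁻¹ = b * a * b⁻¹ * a⁻¹ := by group
    rwa [e] at this
  nd := fun b hb h => p.nd' b hb fun a ha => (h a ha).symm
  nd' := fun a ha h => p.nd a ha fun b hb => (h b hb).symm

theorem swap {a b : G} (ha : a ∈ W) (hb : Tst W R b) : fm κ b a = -fm κ a b := by
  apply p.κ_inj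
  rw [p.κ_neg, p.spec ha hb, p.spec' ha hb]
  group

theorem R_comm {r a : G} (hr : r ∈ R) (ha : a ∈ W) : r * a = a * r := p.comm r (p.R_le hr) a ha

theorem R_comm' {r a : G} (hr : r ∈ R) (ha : a ∈ W') : r * a = a * r := p.comm' r (p.R_le' hr) a ha

theorem fm_eq_zero {a b : G} (ha : a ∈ W) (hb : Tst W R b) : fm κ a b = 0 ↔ a * b = b * a := by
  rw [← p.κ_inj.eq_iff, p.spec ha hb, p.κ_zero, mul_inv_eq_one, mul_inv_eq_iff_eq_mul]

theorem mul_left {a a' b : G} (ha : a ∈ W) (ha' : a' ∈ W) (hb : Tst W R b) :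
    fm κ (a * a') b = fm κ a b + fm κ a' b := by
  apply p.κ_inj
  rw [p.κ_add, p.spec (mul_mem ha ha') hb, p.spec ha hb, p.spec ha' hb]
  have h1 := p.R_comm (hb.cm a' ha') (inv_mem ha)
  have h3 := hb.cR _ (hb.cm a' ha')
  have h2 := (p.tst_inv hb).cR _ (hb.cm a' ha')
  calc a * a' * b * (a * a')⁻¹ * b⁻¹ = a * ((a' * b * a'⁻¹ * b⁻¹) * b) * a⁻¹ * b⁻¹ := by group
    _ = a * (b * (a' * b * a'⁻¹ * b⁻¹)) * a⁻¹ * b⁻¹ := by rw [h3]
    _ = a * b * ((a' * b * a'⁻¹ * b⁻¹) * a⁻¹) * b⁻¹ := by group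
    _ = a * b * a⁻¹ * ((a' * b * a'⁻¹ * b⁻¹) * b⁻¹) := by rw [h1]; group
    _ = a * b * a⁻¹ * b⁻¹ * (a' * b * a'⁻¹ * b⁻¹) := by rw [h2]; group

theorem mul_right {a b b' : G} (ha : a ∈ W) (hb : Tst W R b) (hb' : Tst W R b') :
    fm κ a (b * b') = fm κ a b + fm κ a b' := by
  apply p.κ_inj
  rw [p.κ_add, p.spec ha (p.tst_mul hb hb'), p.spec ha hb, p.spec ha hb']
  have h1 := hb.cR _ (hb'.cm a ha)
  calc a * (b * b') * a⁻¹ * (b * b')⁻¹ = (a * b * a⁻¹ * b⁻¹) * (b * (a * b' * a⁻¹ * b'⁻¹)) * b⁻¹ := by group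
    _ = (a * b * a⁻¹ * b⁻¹) * ((a * b' * a⁻¹ * b'⁻¹) * b) * b⁻¹ := by rw [h1]
    _ = a * b * a⁻¹ * b⁻¹ * (a * b' * a⁻¹ * b'⁻¹) := by group

theorem one_left {b : G} (hb : Tst W R b) : fm κ 1 b = 0 := by
  rw [p.fm_eq_zero (one_mem _) hb, one_mul, mul_one]

theorem one_right {a : G} (ha : a ∈ W) : fm κ a 1 = 0 := by
  rw [p.fm_eq_zero ha (p.tst (one_mem _)), one_mul, mul_one]

theorem inv_left {a b : G} (ha : a ∈ W) (hb : Tst W R b) : fm κ a⁻¹ b = -fm κ a b := by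
  have := p.mul_left ha (inv_mem ha) hb
  rw [mul_inv_cancel, p.one_left hb] at this
  exact (neg_eq_of_add_eq_zero_right this.symm).symm

theorem inv_right {a b : G} (ha : a ∈ W) (hb : Tst W R b) : fm κ a b⁻¹ = -fm κ a b := by
  have := p.mul_right ha hb (p.tst_inv hb)
  rw [mul_inv_cancel, p.one_right ha] at this
  exact (neg_eq_of_add_eq_zero_right this.symm).symm

theorem R_left {r b : G} (hr : r ∈ R) (hb : Tst W R b) : fm κ r b = 0 := by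
  rw [p.fm_eq_zero (p.R_le hr) hb]
  exact hb.cR r hr

theorem R_right {a r : G} (ha : a ∈ W) (hr : r ∈ R) : fm κ a r = 0 := by
  rw [p.fm_eq_zero ha (p.tst (p.R_le' hr))]
  exact (p.R_comm hr ha).symm

/-- elements with the same values differ by an element of `R` -/
theorem eq_mod {a a' : G} (ha : a ∈ W) (ha' : a' ∈ W) (h : ∀ b ∈ W', fm κ a b = fm κ a' b) : a * a'⁻¹ ∈ R := by
  refine p.nd _ (mul_mem ha (inv_mem ha')) fun b hb => ?_
  rw [← p.fm_eq_zero (mul_mem ha (inv_mem ha')) (p.tst hb), p.mul_left ha (inv_mem ha') (p.tst hb),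
    p.inv_left ha' (p.tst hb), h b hb, add_neg_cancel]

/-- **scalars pass to a non-commuting line of the other side** -/
theorem scalar {l m : Subgroup G} {Z Z' : Set G} (hZ : (W' : Set G) ⊆ Z) (hZ' : (W : Set G) ⊆ Z') (hl : l ≤ W)
    (hL : Lin κ Z l) (hm : Ln κ W' W m Z') (hne : ∃ a ∈ l, ∃ b ∈ m, a * b ≠ b * a) {σ : F → F}
    (hσ : ∀ b ∈ m, ∃ b' ∈ m, ∀ a ∈ Z', fm κ b' a = σ (fm κ b a)) (d : F) : σ d = σ 1 * d := by
  obtain ⟨a₀, ha₀, b₀, hb₀, hne⟩ := hne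
  have ha₀W := hl ha₀
  obtain ⟨b, hb, hb1⟩ := hm.full a₀ ha₀W ⟨b₀, hb₀, fun h => hne h.symm⟩ 1
  have hbW := hm.le hb
  obtain ⟨b', hb', hbb⟩ := hσ b hb
  have hb'W := hm.le hb'
  obtain ⟨a', ha', haa⟩ := hL d a₀ ha₀
  have ha'W := hl ha'
  have h1 : fm κ b a' = d := by
    rw [p.swap ha'W (p.tst hbW), haa b (hZ hbW), ← mul_neg, ← p.swap ha₀W (p.tst hbW), hb1, mul_one]
  have h2 : fm κ b' a' = d * σ 1 := by
    rw [p.swap ha'W (p.tst hb'W), haa b' (hZ hb'W), ← mul_neg, ← p.swap ha₀W (p.tst hb'W), hbb a₀ (hZ' ha₀W), hb1]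
  have h3 := hbb a' (hZ' ha'W)
  rw [h1, h2] at h3
  rw [← h3, mul_comm]

theorem lin_of {l m : Subgroup G} {Z Z' : Set G} (hZ : (W' : Set G) ⊆ Z) (hZ' : (W : Set G) ⊆ Z') (hl : l ≤ W)
    (hL : Lin κ Z l) (hm : Ln κ W' W m Z') (hne : ∃ a ∈ l, ∃ b ∈ m, a * b ≠ b * a) : Lin κ Z' m := by
  intro c
  obtain ⟨σ, hσ1, hσ⟩ := hm.trs 1 c one_ne_zero
  intro b hb
  obtain ⟨b', hb', h⟩ := hσ b hb
  exact ⟨b', hb', fun a ha => by rw [h a ha, p.scalar hZ hZ' hl hL hm hne hσ, hσ1]⟩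

/-- if `W` is generated by lines with `F`-action then `F` acts on `W / R` -/
theorem lin_iSup {Z : Set G} (hT : ∀ b ∈ Z, Tst W R b) {ι : Type*} {l : ι → Subgroup G} (hl : ∀ i, l i ≤ W)
    (hL : ∀ i, Lin κ Z (l i)) : Lin κ Z (⨆ i, l i) := by
  intro c a ha
  have hle : (⨆ i, l i) ≤ W := iSup_le hl
  have h : a ∈ (⨆ i, l i) ∧ ∃ a' ∈ (⨆ i, l i), ∀ b ∈ Z, fm κ a' b = c * fm κ a b := by
    refine iSup_induction l (C := fun a => a ∈ (⨆ i, l i) ∧ ∃ a' ∈ (⨆ i, l i), ∀ b ∈ Z, fm κ a' b = c * fm κ a b)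
      ha ?_ ?_ ?_
    · intro i x hx
      obtain ⟨a', ha', h⟩ := hL i c x hx
      exact ⟨le_iSup l i hx, a', le_iSup l i ha', h⟩
    · exact ⟨one_mem _, 1, one_mem _, fun b hb => by rw [p.one_left (hT b hb), mul_zero]⟩
    · rintro x y ⟨hx, x', hx', h1⟩ ⟨hy, y', hy', h2⟩
      refine ⟨mul_mem hx hy, x' * y', mul_mem hx' hy', fun b hb => ?_⟩
      rw [p.mul_left (hle hx') (hle hy') (hT b hb), p.mul_left (hle hx) (hle hy) (hT b hb), h1 b hb, h2 b hb, mul_add]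
  exact h.2

/-- scalars on the second argument -/
theorem lin_right {Z' : Set G} (hL' : Lin κ Z' W') (hZ' : (W : Set G) ⊆ Z') (c : F) {b : G} (hb : b ∈ W') :
    ∃ b' ∈ W', ∀ a ∈ W, fm κ a b' = c * fm κ a b := by
  obtain ⟨b', hb', h⟩ := hL' c b hb
  refine ⟨b', hb', fun a ha => ?_⟩
  have h3 := h a (hZ' ha)
  rw [p.swap ha (p.tst hb'), p.swap ha (p.tst hb), mul_neg, neg_inj] at h3
  exact h3

/-- the double perp of a line -/
theorem perp_perp {Z' : Set G} (hL' : Lin κ Z' W') (hZ' : (W : Set G) ⊆ Z') {a₁ a : G} (h1 : a₁ ∈ W) (ha : a ∈ W)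
    (hR : a₁ ∉ R) (h : ∀ b ∈ W', a₁ * b = b * a₁ → a * b = b * a) : ∃ c : F, ∀ b ∈ W', fm κ a b = c * fm κ a₁ b := by
  obtain ⟨b₀, hb₀, hne⟩ : ∃ b ∈ W', fm κ a₁ b ≠ 0 := by
    by_contra hc
    push Not at hc
    exact hR (p.nd a₁ h1 fun b hb => (p.fm_eq_zero h1 (p.tst hb)).1 (hc b hb))
  obtain ⟨b₁, hb₁, hb⟩ := p.lin_right hL' hZ' (fm κ a₁ b₀)⁻¹ hb₀
  have e1 : fm κ a₁ b₁ = 1 := by rw [hb a₁ h1, inv_mul_cancel₀ hne]
  refine ⟨fm κ a b₁, fun b hb => ?_⟩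
  obtain ⟨b₂, hb₂, e2⟩ := p.lin_right hL' hZ' (fm κ a₁ b) hb₁
  have hbt := p.tst hb
  have hbt2 := p.tst_inv (p.tst hb₂)
  have h4 : fm κ a₁ (b * b₂⁻¹) = 0 := by
    rw [p.mul_right h1 hbt hbt2, p.inv_right h1 (p.tst hb₂), e2 a₁ h1, e1, mul_one, add_neg_cancel]
  have h5 := h _ (mul_mem hb (inv_mem hb₂)) ((p.fm_eq_zero h1 (p.tst_mul hbt hbt2)).1 h4)
  rw [← p.fm_eq_zero ha (p.tst_mul hbt hbt2), p.mul_right ha hbt hbt2, p.inv_right ha (p.tst hb₂), e2 a ha,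
    add_neg_eq_zero] at h5
  rw [h5, mul_comm]

/-- the space of the functions `b ↦ [a, b]` -/
def rows {Z : Set G} (hZ : (W' : Set G) ⊆ Z) (hL : Lin κ Z W) : Submodule F (W' → F) where
  carrier := {φ | ∃ a ∈ W, ∀ b : W', φ b = fm κ a b}
  add_mem' := by
    rintro φ ψ ⟨a, ha, h1⟩ ⟨a', ha', h2⟩
    refine ⟨a * a', mul_mem ha ha', fun b => ?_⟩
    rw [Pi.add_apply, h1, h2, p.mul_left ha ha' (p.tst b.2)]
  zero_mem' := ⟨1, one_mem _, fun b => by rw [p.one_left (p.tst b.2)]; rfl⟩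
  smul_mem' := by
    rintro c φ ⟨a, ha, h1⟩
    obtain ⟨a', ha', h⟩ := hL c a ha
    exact ⟨a', ha', fun b => by rw [Pi.smul_apply, h1, h b (hZ b.2), smul_eq_mul]⟩

/-- **duality**: every linear functional on the space of rows is the evaluation at an element of `W'` -/
theorem exists_eval [Finite G] {Z Z' : Set G} (hZ : (W' : Set G) ⊆ Z) (hZ' : (W : Set G) ⊆ Z') (hL : Lin κ Z W)
    (hL' : Lin κ Z' W') (lam : Module.Dual F (p.rows hZ hL)) :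
    ∃ b : W', ∀ φ : p.rows hZ hL, lam φ = (φ : W' → F) b := by
  have hfin : Module.Finite F (p.rows hZ hL) := inferInstance
  -- the space of evaluations
  let ev : W' → Module.Dual F (p.rows hZ hL) := fun b => (LinearMap.proj b).comp (p.rows hZ hL).subtype
  have hev : ∀ (b : W') (φ : p.rows hZ hL), ev b φ = (φ : W' → F) b := fun b φ => rfl
  let E : Submodule F (Module.Dual F (p.rows hZ hL)) :=
    { carrier := {μ | ∃ b : W', μ = ev b}
      add_mem' := by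
        rintro _ _ ⟨b, rfl⟩ ⟨b', rfl⟩
        refine ⟨b * b', LinearMap.ext fun φ => ?_⟩
        obtain ⟨a, ha, h⟩ := φ.2
        rw [LinearMap.add_apply, hev, hev, hev, h, h, h]
        exact (p.mul_right ha (p.tst b.2) (p.tst b'.2)).symm
      zero_mem' := by
        refine ⟨1, LinearMap.ext fun φ => ?_⟩
        obtain ⟨a, ha, h⟩ := φ.2
        rw [LinearMap.zero_apply, hev, h]
        exact (p.one_right ha).symm
      smul_mem' := by
        rintro c _ ⟨b, rfl⟩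
        obtain ⟨b', hb', h'⟩ := p.lin_right hL' hZ' c b.2
        refine ⟨⟨b', hb'⟩, LinearMap.ext fun φ => ?_⟩
        obtain ⟨a, ha, h⟩ := φ.2
        rw [LinearMap.smul_apply, hev, hev, h, h, smul_eq_mul]
        exact (h' a ha).symm }
  have hE : E = ⊤ := by
    have h1 : E.dualCoannihilator = ⊥ := by
      rw [eq_bot_iff]
      intro φ hφ
      rw [Submodule.mem_dualCoannihilator] at hφ
      rw [Submodule.mem_bot]
      apply Subtype.ext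
      funext b
      exact hφ (ev b) ⟨b, rfl⟩
    rw [← Subspace.dualCoannihilator_dualAnnihilator_eq (W := E), h1, Submodule.dualAnnihilator_bot]
  have : lam ∈ E := by rw [hE]; trivial
  obtain ⟨b, hb⟩ := this
  exact ⟨b, fun φ => by rw [hb, hev]⟩

/-- **duality**: a linear function on `W / R` is a commutator with an element of `W'` -/
theorem exists_rep [Finite G] {Z Z' : Set G} (hZ : (W' : Set G) ⊆ Z) (hZ' : (W : Set G) ⊆ Z') (hL : Lin κ Z W)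
    (hL' : Lin κ Z' W') (ψ : G → F) (hadd : ∀ a ∈ W, ∀ a' ∈ W, ψ (a * a') = ψ a + ψ a') (hR : ∀ r ∈ R, ψ r = 0)
    (hlin : ∀ c : F, ∀ a ∈ W, ∃ a' ∈ W, (∀ b ∈ W', fm κ a' b = c * fm κ a b) ∧ ψ a' = c * ψ a) :
    ∃ b ∈ W', ∀ a ∈ W, ψ a = fm κ a b := by
  have hmod : ∀ a ∈ W, ∀ a' ∈ W, (∀ b ∈ W', fm κ a b = fm κ a' b) → ψ a = ψ a' := by
    intro a ha a' ha' h
    have h1 := p.eq_mod ha ha' h
    have h2 := hadd _ (p.R_le h1) a' ha'
    rw [inv_mul_cancel_right, hR _ h1, zero_add] at h2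
    exact h2
  have hch : ∀ φ : p.rows hZ hL, ∃ a ∈ W, ∀ b : W', (φ : W' → F) b = fm κ a b := fun φ => φ.2
  choose α hα hα' using hch
  have hψ : ∀ φ : p.rows hZ hL, ∀ a ∈ W, (∀ b : W', (φ : W' → F) b = fm κ a b) → ψ (α φ) = ψ a := by
    intro φ a ha h
    refine hmod _ (hα φ) a ha fun b hb => ?_
    rw [← hα' φ ⟨b, hb⟩, h ⟨b, hb⟩]
  let lam : Module.Dual F (p.rows hZ hL) :=
    { toFun := fun φ => ψ (α φ)
      map_add' := by
        intro φ φ'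
        rw [← hadd _ (hα φ) _ (hα φ')]
        refine hψ _ _ (mul_mem (hα φ) (hα φ')) fun b => ?_
        rw [p.mul_left (hα φ) (hα φ') (p.tst b.2), ← hα' φ b, ← hα' φ' b]
        rfl
      map_smul' := by
        intro c φ
        obtain ⟨a', ha', h1, h2⟩ := hlin c (α φ) (hα φ)
        rw [RingHom.id_apply, smul_eq_mul, ← h2]
        refine hψ _ _ ha' fun b => ?_
        rw [h1 b b.2, ← hα' φ b]
        rfl }
  obtain ⟨b, hb⟩ := p.exists_eval hZ hZ' hL hL' lam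
  refine ⟨b, b.2, fun a ha => ?_⟩
  have h1 := hb ⟨fun b => fm κ a b, a, ha, fun b => rfl⟩
  have h2 := hψ ⟨fun b => fm κ a b, a, ha, fun b => rfl⟩ a ha fun b => rfl
  rw [← h2]
  exact h1

/-- an element of `Z` acts on `W` as an element of `W'` -/
theorem exists_mem [Finite G] {Z Z' : Set G} (hZ : (W' : Set G) ⊆ Z) (hZ' : (W : Set G) ⊆ Z')
    (hT : ∀ b ∈ Z, Tst W R b) (hL : Lin κ Z W) (hL' : Lin κ Z' W') {g : G} (hg : g ∈ Z) :
    ∃ b ∈ W', ∀ a ∈ W, (g * b⁻¹) * a = a * (g * b⁻¹) := by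
  have ht := hT g hg
  obtain ⟨b, hb, h⟩ := p.exists_rep hZ hZ' hL hL' (fun a => fm κ a g)
    (fun a ha a' ha' => p.mul_left ha ha' ht) (fun r hr => p.R_left hr ht)
    (fun c a ha => by
      obtain ⟨a', ha', h⟩ := hL c a ha
      exact ⟨a', ha', fun b hb => h b (hZ hb), h g hg⟩)
  refine ⟨b, hb, fun a ha => ?_⟩
  have h1 : fm κ a (g * b⁻¹) = 0 := by
    rw [p.mul_right ha ht (p.tst_inv (p.tst hb)), p.inv_right ha (p.tst hb), ← h a ha, add_neg_cancel]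
  exact ((p.fm_eq_zero ha (p.tst_mul ht (p.tst_inv (p.tst hb)))).1 h1).symm

end Pai

end Cfsg.Agent.Omega.Mix
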