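import Cfsg.Agent.Omega.Mix.OfFrame

/-!
# The frame gives a mixed pair (TEXT MIX, bb OMEGA #12374)

* `char2_normalizer` : `IsCharacteristicTwoType G` gives `Char2 (N_G(K))` for 2-subgroups `K ≠ 1`;
* `LL_comm` : `W = ⟨V^g : g ∈ N(R)⟩` is abelian if there is no mutual pair `(V, V^g)`;
* `exists_rmod_of_frame` : `Single`, `Free` give `RMod F (zl S P) N`, `P ≤ N`;
* `mixedN_of_mutual` : the frame gives `MixedN`;
* `natOver_restrict`, `exists_rmod_of_split` : `NatOver F P V D`, `V = N D`, `N ∩ D = 1` give `RMod F N _`.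
-/

set_option autoImplicit false
set_option linter.unusedSectionVars false

namespace Cfsg.Agent.Omega.Mix

open Subgroup Cfsg Cfsg.Agent.Lib.SL2Mat Cfsg.Agent.Omega.BTwo Cfsg.Agent.ZN
open Cfsg.Agent.Omega.NatPair (ap ap_mul ap_one ap_inv_ap ap_ap_inv)
open Cfsg.Agent.Omega.FrameFF (NatOver Single Free cv)
open Cfsg.Agent.Omega.MinPar (IsParS)
open scoped Pointwise commutatorElement

universe u

variable {G : Type u} [Group G]

theorem char2_normalizer (hG : IsCharacteristicTwoType G) {K : Subgroup G} (hK : IsPGroup 2 K) (hK1 : K ≠ ⊥) :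
    Char2 (normalizer (K : Set G)) := by
  intro x hx h
  have h1 := hG.2 K hK hK1
  have h2 : (⟨x, hx⟩ : normalizer (K : Set G)) ∈ centralizer (pCore 2 (normalizer (K : Set G)) : Set _) := by
    rw [mem_centralizer_iff]
    intro q hq
    refine Subtype.ext ?_
    have h3 : (q : G) ∈ O2 (normalizer (K : Set G)) := ⟨q, hq, rfl⟩
    exact (h _ h3).symm
  exact ⟨_, h1 h2, rfl⟩

theorem cj_le_cj {g : G} {A B : Subgroup G} : cj g A ≤ cj g B ↔ A ≤ B := by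
  refine ⟨fun h => ?_, cj_mono⟩
  have h1 : cj g⁻¹ (cj g A) ≤ cj g⁻¹ (cj g B) := cj_mono h
  rwa [cj_inv_cj, cj_inv_cj] at h1

theorem RMod.line_ne_bot {F : Type*} [Field F] {V N : Subgroup G} (M : RMod F V N) {w : Fin 2 → F} (hw : w ≠ 0) :
    M.line w ≠ ⊥ := by
  intro h
  have h1 : M.e w ∈ M.line w := M.e_mem_line.2 ⟨1, (one_smul _ _).symm⟩
  rw [h, mem_bot, M.e_eq_one] at h1
  exact hw h1

/-- `no mutual pair of one type` is invariant under conjugation -/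
theorem cj_no {V : Subgroup G} (k : G)
    (hno : ∀ n : G, V ≤ normalizer (cj n V : Set G) → cj n V ≤ normalizer (V : Set G) →
      ∀ v ∈ V, ∀ w ∈ cj n V, v * w = w * v) :
    ∀ n : G, cj k V ≤ normalizer (cj n (cj k V) : Set G) → cj n (cj k V) ≤ normalizer (cj k V : Set G) →
      ∀ v ∈ cj k V, ∀ w ∈ cj n (cj k V), v * w = w * v := by
  intro n hn1 hn2 v hv w hw
  have e1 : cj n (cj k V) = cj k (cj (k⁻¹ * n * k) V) := by
    rw [← cj_mul, ← cj_mul]; congr 1; group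
  rw [e1, normalizer_cj, cj_le_cj] at hn1
  rw [e1, normalizer_cj, cj_le_cj] at hn2
  rw [e1] at hw
  obtain ⟨v', hv', rfl⟩ := hv
  obtain ⟨w', hw', rfl⟩ := hw
  have h3 := hno _ hn1 hn2 v' hv' w' hw'
  show k * v' * k⁻¹ * (k * w' * k⁻¹) = k * w' * k⁻¹ * (k * v' * k⁻¹)
  calc k * v' * k⁻¹ * (k * w' * k⁻¹) = k * (v' * w') * k⁻¹ := by group
    _ = k * (w' * v') * k⁻¹ := by rw [h3]
    _ = k * w' * k⁻¹ * (k * v' * k⁻¹) := by group

/-- `W = ⟨V^g : g ∈ N(R)⟩` is abelian if there is no mutual pair `(V, V^n)` -/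
theorem LL_comm [Finite G] {V R : Subgroup G} (T : Sylow 2 G) (hVQ : V ≤ QQ R)
    (hTV : (T : Subgroup G) ≤ normalizer (V : Set G)) (hTR : (T : Subgroup G) ≤ normalizer (R : Set G))
    (hno : ∀ n : G, V ≤ normalizer (cj n V : Set G) → cj n V ≤ normalizer (V : Set G) →
      ∀ v ∈ V, ∀ w ∈ cj n V, v * w = w * v) :
    ∀ a ∈ LL V R R, ∀ b ∈ LL V R R, a * b = b * a := by
  have hQT : QQ R ≤ normalizer (V : Set G) := (QQ_le_sylow T hTR).trans hTV
  have hcjQ : ∀ n ∈ normalizer (R : Set G), cj n (QQ R) = QQ R := fun n hn =>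
    cj_eq_self_iff.2 (le_normalizer_O2 _ hn)
  have key : ∀ n ∈ normalizer (R : Set G), ∀ v ∈ V, ∀ w ∈ cj n V, v * w = w * v := by
    intro n hn
    refine hno n ?_ ?_
    · have h1 : QQ R ≤ normalizer (cj n V : Set G) := by
        rw [← hcjQ n hn, normalizer_cj]
        exact cj_mono hQT
      exact hVQ.trans h1
    · have h1 : cj n V ≤ QQ R := by
        rw [← hcjQ n hn]
        exact cj_mono hVQ
      exact h1.trans hQT
  have key2 : ∀ g k : G, cj g R = R → cj k R = R → ∀ a ∈ cj g V, ∀ b ∈ cj k V, a * b = b * a := by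
    rintro g k hg hk _ ⟨v, hv, rfl⟩ b hb
    have hg' : g ∈ normalizer (R : Set G) := cj_eq_self_iff.1 hg
    have hk' : k ∈ normalizer (R : Set G) := cj_eq_self_iff.1 hk
    have h1 : g⁻¹ * b * g ∈ cj (g⁻¹ * k) V := by
      have h2 : g⁻¹ * b * g⁻¹⁻¹ ∈ cj g⁻¹ (cj k V) := conj_mem_cj hb
      rwa [← cj_mul, inv_inv] at h2
    have h2 := key _ (mul_mem (inv_mem hg') hk') v hv _ h1
    show g * v * g⁻¹ * b = b * (g * v * g⁻¹)
    calc g * v * g⁻¹ * b = g * (v * (g⁻¹ * b * g)) * g⁻¹ := by group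
      _ = g * (g⁻¹ * b * g * v) * g⁻¹ := by rw [h2]
      _ = b * (g * v * g⁻¹) := by group
  have h3 : LL V R R ≤ centralizer (LL V R R : Set G) := by
    refine LL_le fun g hg => ?_
    rw [le_centralizer_iff]
    refine LL_le fun k hk => ?_
    intro b hb
    rw [mem_centralizer_iff]
    intro a ha
    exact key2 g k hg hk a ha b hb
  intro a ha b hb
  exact (mem_centralizer_iff.1 (h3 ha) b hb).symm

/-- the normal form of a mutual pair without mutual pairs of one type -/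
theorem mixedN_of_rmod [Finite G]
    (hchar : ∀ K : Subgroup G, IsPGroup 2 K → K ≠ ⊥ → Char2 (normalizer (K : Set G)))
    {F₁ F₂ : Type*} [Field F₁] [Field F₂] [Finite F₁] [Finite F₂] [CharP F₁ 2] [CharP F₂ 2]
    {V V' N N' : Subgroup G} (M : RMod F₁ V N) (M' : RMod F₂ V' N') (S S' : Sylow 2 G) (hS : (S : Subgroup G) ≤ N)
    (hS' : (S' : Subgroup G) ≤ N') (hZ : ∀ z ∈ (S : Subgroup G), z * z = 1 → (∀ s ∈ (S : Subgroup G), s * z = z * s) → z ∈ V)
    (h1 : V' ≤ normalizer (V : Set G)) (h2 : V ≤ normalizer (V' : Set G)) (hne : ∃ v ∈ V, ∃ w ∈ V', v * w ≠ w * v)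
    (hno₁ : ∀ n : G, V ≤ normalizer (cj n V : Set G) → cj n V ≤ normalizer (V : Set G) →
      ∀ v ∈ V, ∀ w ∈ cj n V, v * w = w * v)
    (hno₂ : ∀ n : G, V' ≤ normalizer (cj n V' : Set G) → cj n V' ≤ normalizer (V' : Set G) →
      ∀ v ∈ V', ∀ w ∈ cj n V', v * w = w * v) :
    Nat.card F₁ = Nat.card F₂ ∧ ∃ (k : G) (N₁ N₂ : Subgroup G) (M₁ : RMod F₁ V N₁) (M₂ : RMod F₂ (cj k V') N₂)
      (R : Subgroup G), MixedN M₁ M₂ R := by
  obtain ⟨hcard, k, N₁, N₂, M₁, M₂, T, w₁, w₂, hw₁, hw₂, hk, hl₁, hl₂, hT₁, hT₂, hTR, hZT⟩ :=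
    normal_form M M' S S' hS hS' hZ h1 h2 hne
  refine ⟨hcard, k, N₁, N₂, M₁, M₂, V ⊓ V', ?_⟩
  have hR2 : IsPGroup 2 (V ⊓ V' : Subgroup G) := fun v => ⟨1, by
    rw [pow_one, pow_two]; exact Subtype.ext (M.sq v.2.1)⟩
  have hR1 : V ⊓ V' ≠ ⊥ := by
    rw [hl₁]
    exact M₁.line_ne_bot hw₁
  have hchR := hchar _ hR2 hR1
  have hVQ : V ≤ QQ (V ⊓ V') := by
    rw [hl₁] at hTR hchR ⊢
    exact M₁.V_le_Q hw₁ T hT₁ hTR hchR
  have hVQ' : cj k V' ≤ QQ (V ⊓ V') := by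
    rw [hl₂] at hTR hchR ⊢
    exact M₂.V_le_Q hw₂ T hT₂ hTR hchR
  refine ⟨⟨w₁, hw₁, hl₁⟩, ⟨w₂, hw₂, hl₂⟩, ⟨T, hT₁, hT₂, hTR, hZT⟩, hchar, ?_, ?_, ?_⟩
  · exact LL_comm T hVQ (hT₁.trans M₁.le) hTR hno₁
  · exact LL_comm T hVQ' (hT₂.trans M₂.le) hTR (cj_no k hno₂)
  · obtain ⟨v, hv, w, hw, hvw⟩ := hne
    refine ⟨v, V_le_LL _ _ hv, w, ?_, hvw⟩
    have h3 : cj k⁻¹ (cj k V') ≤ LL (cj k V') (V ⊓ V') (V ⊓ V') :=
      cj_le_LL (cj_eq_self_iff.2 (inv_mem hk))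
    rw [← cj_mul, inv_mul_cancel, cj_one] at h3
    exact h3 hw

/-! ### The frame -/

section frame

variable [Finite G]

theorem exists_rmod_of_frame {S P : Subgroup G} (hs : Single S P) (hf : Free S P) :
    ∃ (F : Type) (_ : Field F) (_ : Finite F) (_ : CharP F 2) (N : Subgroup G), P ≤ N ∧
      Nonempty (RMod F (zl S P) N) := by
  obtain ⟨F, i1, i2, i3, ⟨o⟩⟩ := hs
  have hf' : cv S P = ⊥ := hf
  rw [hf'] at o
  obtain ⟨N, h1, h2⟩ := exists_rmod o (MinSimple.VModule.le_normalizer_zl S P)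
  exact ⟨F, i1, i2, i3, N, h1, h2⟩

theorem mem_zl_of_central (S : Subgroup G) (P : Subgroup G) : ∀ z ∈ S, z * z = 1 → (∀ s ∈ S, s * z = z * s) →
    z ∈ zl S P := fun z hz h1 h2 =>
  MinSimple.VModule.zc_le_zl S P (MinSimple.VModule.mem_zc.2 ⟨hz, h2, by rw [pow_two]; exact h1⟩)

/-- no mutual pair of one type -/
theorem comm_of_not_mutual {S P : Subgroup G} (hP : IsParS S P) (hno : ∀ g : G, ¬ Mutual S P P g) {n : G}
    (h1 : zl S P ≤ normalizer (cj n (zl S P) : Set G)) (h2 : cj n (zl S P) ≤ normalizer (zl S P : Set G)) :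
    ∀ v ∈ zl S P, ∀ w ∈ cj n (zl S P), v * w = w * v := by
  by_contra hcon
  refine hno n ⟨hP, hP, h1, h2, fun h3 => hcon ?_⟩
  intro v hv w hw
  have h4 : ⁅v, w⁆ ∈ ⁅zl S P, MulAut.conj n • zl S P⁆ := commutator_mem_commutator hv hw
  rw [h3, mem_bot] at h4
  exact commutatorElement_eq_one_iff_mul_comm.1 h4

/-- **The frame gives a mixed pair.** -/
theorem mixedN_of_mutual (hG : IsCharacteristicTwoType G) (S : Sylow 2 G) {P₁ P₂ : Subgroup G} {x : G}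
    (h : Mutual (S : Subgroup G) P₁ P₂ x) (hs₁ : Single (S : Subgroup G) P₁) (hs₂ : Single (S : Subgroup G) P₂)
    (hf₁ : Free (S : Subgroup G) P₁) (hf₂ : Free (S : Subgroup G) P₂)
    (hsame : ∀ (P : Subgroup G) (g : G), ¬ Mutual (S : Subgroup G) P P g) :
    ∃ (F₁ : Type) (_ : Field F₁) (_ : Finite F₁) (_ : CharP F₁ 2) (F₂ : Type) (_ : Field F₂) (_ : Finite F₂)
      (_ : CharP F₂ 2) (k : G) (N₁ N₂ : Subgroup G) (M₁ : RMod F₁ (zl (S : Subgroup G) P₁) N₁)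
      (M₂ : RMod F₂ (cj k (zl (S : Subgroup G) P₂)) N₂) (R : Subgroup G),
      MixedN M₁ M₂ R ∧ Nat.card F₁ = Nat.card F₂ := by
  obtain ⟨F₁, i1, i2, i3, N, hPN, ⟨M⟩⟩ := exists_rmod_of_frame hs₁ hf₁
  obtain ⟨F₂, j1, j2, j3, N', hPN', ⟨M'⟩⟩ := exists_rmod_of_frame hs₂ hf₂
  have hSN : (S : Subgroup G) ≤ N := h.star₁.le.trans hPN
  have hSN' : ((x • S : Sylow 2 G) : Subgroup G) ≤ cj x N' := by
    rw [coe_smul_eq]
    exact cj_mono (h.star₂.le.trans hPN')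
  have hne : ∃ v ∈ zl (S : Subgroup G) P₁, ∃ w ∈ cj x (zl (S : Subgroup G) P₂), v * w ≠ w * v := by
    by_contra hcon
    push Not at hcon
    refine h.ne ((commutator_eq_bot_iff_le_centralizer).2 fun v hv => mem_centralizer_iff.2 fun w hw => ?_)
    exact (hcon v hv w hw).symm
  have hno₂ := cj_no x fun n h1 h2 => comm_of_not_mutual h.star₂ (hsame P₂) (n := n) h1 h2
  obtain ⟨hcard, k, N₁, N₂, M₁, M₂, R, hm⟩ :=
    mixedN_of_rmod (fun K h1 h2 => char2_normalizer hG h1 h2) M (M'.conj x) S (x • S) hSN hSN'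
      (mem_zl_of_central _ _) h.le₂ h.le₁ hne (fun n h1 h2 => comm_of_not_mutual h.star₁ (hsame P₁) h1 h2) hno₂
  have e2 : cj k (NatPair.cj x (zl (S : Subgroup G) P₂)) = cj (k * x) (zl (S : Subgroup G) P₂) := by
    rw [cj_mul]; rfl
  refine ⟨F₁, i1, i2, i3, F₂, j1, j2, j3, k * x, N₁, N₂, M₁, ?_⟩
  rw [← e2]
  exact ⟨M₂, R, hm, hcard⟩

end frame

/-! ### Split extensions -/

section split

variable {F : Type} [Field F] {P V D N : Subgroup G}

/-- `V = N D`, `N ∩ D = 1` : `N` is a natural module for `P`. -/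
def natOverSplit (o : NatOver F P V D) (hVa : ∀ v ∈ V, ∀ w ∈ V, v * w = w * v) (hNV : N ≤ V) (hDV : D ≤ V)
    (hPN : P ≤ normalizer (N : Set G)) (hPD : P ≤ normalizer (D : Set G)) (hND : N ⊓ D = ⊥) (hV : V ≤ N ⊔ D) :
    NatOver F P N ⊥ :=
  have h0 : ∀ d ∈ D, o.e d = 0 := fun d hd => (o.ker d (hDV hd)).2 hd
  have hdec : ∀ v ∈ V, ∃ n ∈ N, ∃ d ∈ D, v = n * d := fun v hv => by
    have h1 : N ≤ normalizer (D : Set G) := by
      intro n hn
      exact centralizer_le_normalizer _ (mem_centralizer_iff.2 fun d hd => hVa d (hDV hd) n (hNV hn))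
    have h2 : v ∈ (N ⊔ D : Subgroup G) := hV hv
    rw [← SetLike.mem_coe, coe_mul_of_left_le_normalizer_right N D h1] at h2
    obtain ⟨n, hn, d, hd, h⟩ := Set.mem_mul.1 h2
    exact ⟨n, hn, d, hd, h.symm⟩
  { e := o.e
    mul := fun v hv w hw => o.mul v (hNV hv) w (hNV hw)
    surj := fun x => by
      obtain ⟨v, hv, hx⟩ := o.surj x
      obtain ⟨n, hn, d, hd, rfl⟩ := hdec v hv
      rw [o.mul n (hNV hn) d (hDV hd), h0 d hd, add_zero] at hx
      exact ⟨n, hn, hx⟩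
    ker := fun v hv => by
      rw [o.ker v (hNV hv), mem_bot]
      constructor
      · intro h
        have h1 : v ∈ N ⊓ D := ⟨hv, h⟩
        rwa [hND, mem_bot] at h1
      · rintro rfl
        exact one_mem _
    lift := fun A => by
      obtain ⟨g, hg, h1, -⟩ := o.lift A
      refine ⟨g, hg, fun v hv => h1 v (hNV hv), fun d hd => ?_⟩
      rw [mem_bot.1 hd, mul_one, one_mul]
    norm := fun g hg h hh A hA => by
      have key : ∀ v ∈ V, o.e (h * v * h⁻¹) = ap A (o.e v) := by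
        intro v hv
        obtain ⟨n, hn, d, hd, rfl⟩ := hdec v hv
        have h1 : h * n * h⁻¹ ∈ N := conj_mem_of_normalizer (hPN hh) hn
        have h2 : h * d * h⁻¹ ∈ D := conj_mem_of_normalizer (hPD hh) hd
        have e1 : h * (n * d) * h⁻¹ = h * n * h⁻¹ * (h * d * h⁻¹) := by group
        rw [e1, o.mul _ (hNV h1) _ (hDV h2), o.mul _ (hNV hn) _ (hDV hd), h0 _ h2, h0 _ hd, add_zero, add_zero,
          hA n hn]
      obtain ⟨B, hB⟩ := o.norm g hg h hh A key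
      exact ⟨B, fun v hv => hB v (hNV hv)⟩ }

theorem exists_rmod_of_split [Finite G] (o : NatOver F P V D) (hVa : ∀ v ∈ V, ∀ w ∈ V, v * w = w * v) (hNV : N ≤ V)
    (hDV : D ≤ V) (hPN : P ≤ normalizer (N : Set G)) (hPD : P ≤ normalizer (D : Set G)) (hND : N ⊓ D = ⊥)
    (hV : V ≤ N ⊔ D) : ∃ K : Subgroup G, P ≤ K ∧ Nonempty (RMod F N K) :=
  exists_rmod (natOverSplit o hVa hNV hDV hPN hPD hND hV) hPN

end split

end Cfsg.Agent.Omega.Mix
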