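import Cfsg.Agent.Omega.Mix.Side

/-!
# TEXT MIX (8), field-free form (bb OMEGA #12374 (8), #12407 (7))

`Side.C_eq` : if some `h ∈ B i ⊔ B j` normalises `R i` and `R j` and acts without fixed points on `T i / R i` and
`T j / R j` (`T = C_B(V)`), and `C k ∩ B k ≤ R k`, then `C i = C j`: `W₁` is the same for all the points of the line `V`.
-/

set_option autoImplicit false
set_option linter.unusedSectionVars false
set_option linter.unusedVariables false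

namespace Cfsg.Agent.Omega.Mix

open Subgroup Cfsg.Agent.Omega.BTwo

variable {G : Type*} [Group G] {ι : Type*}

/-- the product of two subgroups which commute elementwise -/
def NN (T U : Subgroup G) (h : ∀ t ∈ T, ∀ u ∈ U, t * u = u * t) : Subgroup G where
  carrier := {x | ∃ t ∈ T, ∃ u ∈ U, x = t * u}
  one_mem' := ⟨1, one_mem _, 1, one_mem _, (one_mul 1).symm⟩
  mul_mem' := by
    rintro _ _ ⟨t, ht, u, hu, rfl⟩ ⟨t', ht', u', hu', rfl⟩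
    refine ⟨t * t', mul_mem ht ht', u * u', mul_mem hu hu', ?_⟩
    calc t * u * (t' * u') = t * (u * t') * u' := by group
      _ = t * (t' * u) * u' := by rw [h t' ht' u hu]
      _ = t * t' * (u * u') := by group
  inv_mem' := by
    rintro _ ⟨t, ht, u, hu, rfl⟩
    refine ⟨t⁻¹, inv_mem ht, u⁻¹, inv_mem hu, ?_⟩
    rw [h t ht u hu, mul_inv_rev]

theorem mem_NN {T U : Subgroup G} {h : ∀ t ∈ T, ∀ u ∈ U, t * u = u * t} {x : G} :
    x ∈ NN T U h ↔ ∃ t ∈ T, ∃ u ∈ U, x = t * u := Iff.rfl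

/-- the elements of `N(V)` which act trivially on `C(V)` modulo `N` -/
def KK (V N : Subgroup G) : Subgroup G where
  carrier := {x | x ∈ normalizer (V : Set G) ∧ ∀ c ∈ centralizer (V : Set G), x * c * x⁻¹ * c⁻¹ ∈ N}
  one_mem' := ⟨one_mem _, fun c _ => by
    have e : 1 * c * 1⁻¹ * c⁻¹ = 1 := by group
    rw [e]; exact one_mem _⟩
  mul_mem' := by
    rintro x y ⟨hx, hx'⟩ ⟨hy, hy'⟩
    refine ⟨mul_mem hx hy, fun c hc => ?_⟩
    have h1 : y * c * y⁻¹ ∈ centralizer (V : Set G) :=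
      conj_mem_of_normalizer (normalizer_le_normalizer_centralizer V hy) hc
    have e : x * y * c * (x * y)⁻¹ * c⁻¹ =
        (x * (y * c * y⁻¹) * x⁻¹ * (y * c * y⁻¹)⁻¹) * (y * c * y⁻¹ * c⁻¹) := by group
    rw [e]
    exact mul_mem (hx' _ h1) (hy' c hc)
  inv_mem' := by
    rintro x ⟨hx, hx'⟩
    refine ⟨inv_mem hx, fun c hc => ?_⟩
    have h1 : x⁻¹ * c * x⁻¹⁻¹ ∈ centralizer (V : Set G) :=
      conj_mem_of_normalizer (normalizer_le_normalizer_centralizer V (inv_mem hx)) hc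
    have e : x⁻¹ * c * x⁻¹⁻¹ * c⁻¹ =
        (x * (x⁻¹ * c * x⁻¹⁻¹) * x⁻¹ * (x⁻¹ * c * x⁻¹⁻¹)⁻¹)⁻¹ := by group
    rw [e]
    exact inv_mem (hx' _ h1)

namespace Side

variable {V : Subgroup G} {R B C : ι → Subgroup G} (s : Side V R B C)
include s

theorem R_TT (i : ι) : R i ≤ TT V (B i) := fun r hr =>
  mem_TT.2 ⟨s.R_B i hr, fun v hv => s.V_comm (s.R_V i hr) hv i⟩

theorem mem_cV {x : G} (hx : ∀ v ∈ V, x * v = v * x) : x ∈ centralizer (V : Set G) :=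
  mem_centralizer_iff.2 fun v hv => (hx v hv).symm

theorem C_le_cV (i : ι) : C i ≤ centralizer (V : Set G) := fun _ hc => s.mem_cV (s.C_V hc)

/-- `T_i T_j` -/
def N (i j : ι) : Subgroup G := NN (TT V (B i)) (TT V (B j)) fun _ ht _ hu => s.T_comm ht hu

theorem mem_N {i j : ι} {x : G} : x ∈ s.N i j ↔ ∃ t ∈ TT V (B i), ∃ u ∈ TT V (B j), x = t * u := Iff.rfl

theorem T_le_N_left (i j : ι) : TT V (B i) ≤ s.N i j := fun t ht => ⟨t, ht, 1, one_mem _, (mul_one t).symm⟩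

theorem T_le_N_right (i j : ι) : TT V (B j) ≤ s.N i j := fun t ht => ⟨1, one_mem _, t, ht, (one_mul t).symm⟩

theorem N_comm {i j : ι} {x y : G} (hx : x ∈ s.N i j) (hy : y ∈ s.N i j) : x * y = y * x := by
  obtain ⟨t, ht, u, hu, rfl⟩ := hx
  obtain ⟨t', ht', u', hu', rfl⟩ := hy
  calc t * u * (t' * u') = t * (u * t') * u' := by group
    _ = t * (t' * u) * u' := by rw [s.T_comm ht' hu]
    _ = (t * t') * (u * u') := by group
    _ = (t' * t) * (u' * u) := by rw [s.T_comm ht ht', s.T_comm hu hu']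
    _ = t' * (t * u') * u := by group
    _ = t' * (u' * t) * u := by rw [s.T_comm ht hu']
    _ = t' * u' * (t * u) := by group

theorem B_le_KK (i j : ι) : B i ⊔ B j ≤ KK V (s.N i j) := by
  refine sup_le ?_ ?_
  · intro b hb
    refine ⟨s.B_NV i hb, fun c hc => s.T_le_N_left i j ?_⟩
    exact s.comm_mem_T' (fun v hv => (mem_centralizer_iff.1 hc v hv).symm) hb
  · intro b hb
    refine ⟨s.B_NV j hb, fun c hc => s.T_le_N_right i j ?_⟩
    exact s.comm_mem_T' (fun v hv => (mem_centralizer_iff.1 hc v hv).symm) hb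

theorem card_R [Finite G] (i j : ι) : Nat.card (R i) = Nat.card (R j) := by
  obtain ⟨m, -, -, x, hx, e⟩ := s.trans_B i j
  rw [← e, card_cj]

/-- the commutator map `T j → T i` of `b ∈ B i` outside `C(V)` maps `R j` onto `R i` -/
theorem mem_R_of_comm [Finite G] {i j : ι} (hij : i ≠ j) {b : G} (hb : b ∈ B i)
    (hbV : ¬ ∀ v ∈ V, b * v = v * b) {t : G} (ht : t ∈ TT V (B j)) (h : b * t * b⁻¹ * t⁻¹ ∈ R i) : t ∈ R j := by
  have key : ∀ r ∈ R j, b * r * b⁻¹ * r⁻¹ ∈ R i := by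
    intro r hr
    have h1 := s.CB i r (s.V_C i (s.R_V j hr)) b hb
    have e : b * r * b⁻¹ * r⁻¹ = (r * b * r⁻¹ * b⁻¹)⁻¹ := by group
    rw [e]; exact inv_mem h1
  let f : R j → R i := fun r => ⟨b * (r : G) * b⁻¹ * (r : G)⁻¹, key r r.2⟩
  have hf : Function.Injective f := by
    intro x y hxy
    have h1 : b * (x : G) * b⁻¹ * (x : G)⁻¹ = b * (y : G) * b⁻¹ * (y : G)⁻¹ := congrArg Subtype.val hxy
    have h2 : b * ((y : G)⁻¹ * x) = (y : G)⁻¹ * x * b := comm_of_comm_eq h1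
    have h4 := s.inj hij hb hbV (mul_mem (inv_mem (s.R_B j y.2)) (s.R_B j x.2)) h2
    exact Subtype.ext (inv_mul_eq_one.1 h4).symm
  have hfs : Function.Surjective f := (Nat.bijective_iff_injective_and_card f).2 ⟨hf, s.card_R j i⟩ |>.2
  obtain ⟨r, hr⟩ := hfs ⟨_, h⟩
  have h1 : b * (r : G) * b⁻¹ * (r : G)⁻¹ = b * t * b⁻¹ * t⁻¹ := congrArg Subtype.val hr
  have h2 : b * (t⁻¹ * r) = t⁻¹ * r * b := comm_of_comm_eq h1
  have h4 := s.inj hij hb hbV (mul_mem (inv_mem (TT_le _ _ ht)) (s.R_B j r.2)) h2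
  rw [inv_mul_eq_one.1 h4]
  exact r.2

/-- `C j ∩ T i T j = V` -/
theorem C_inf_N [Finite G] {i j : ι} (hij : i ≠ j) (hY : C j ⊓ B j ≤ R j) {t u : G} (ht : t ∈ TT V (B i))
    (hu : u ∈ TT V (B j)) (h : t * u ∈ C j) : t ∈ R i ∧ u ∈ R j := by
  obtain ⟨b, hb, hbV⟩ := s.exists_move (Ne.symm hij)
  have h1 : t * u * b * (t * u)⁻¹ * b⁻¹ ∈ R j := s.CB j _ h b hb
  have hub : u * b = b * u := s.B_comm j u (TT_le _ _ hu) b hb
  have e : t * u * b * (t * u)⁻¹ * b⁻¹ = (b * t * b⁻¹ * t⁻¹)⁻¹ := by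
    calc t * u * b * (t * u)⁻¹ * b⁻¹ = t * (u * b) * u⁻¹ * t⁻¹ * b⁻¹ := by group
      _ = t * (b * u) * u⁻¹ * t⁻¹ * b⁻¹ := by rw [hub]
      _ = (b * t * b⁻¹ * t⁻¹)⁻¹ := by group
  rw [e] at h1
  have h2 : t ∈ R i := s.mem_R_of_comm (Ne.symm hij) hb hbV ht (by simpa using inv_mem h1)
  refine ⟨h2, hY ⟨?_, TT_le _ _ hu⟩⟩
  have h3 : t⁻¹ * (t * u) ∈ C j := mul_mem (inv_mem (s.V_C j (s.R_V i h2))) h
  rwa [inv_mul_cancel_left] at h3

theorem C_le [Finite G] {i j : ι} (hij : i ≠ j) (hYi : C i ⊓ B i ≤ R i) (hYj : C j ⊓ B j ≤ R j) {h : G}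
    (hX : h ∈ B i ⊔ B j) (hi : cj h (R i) = R i) (hj : cj h (R j) = R j)
    (fi : ∀ t ∈ TT V (B i), h * t * h⁻¹ * t⁻¹ ∈ R i → t ∈ R i)
    (fj : ∀ t ∈ TT V (B j), h * t * h⁻¹ * t⁻¹ ∈ R j → t ∈ R j) : C i ≤ C j := by
  have hV : h ∈ normalizer (V : Set G) := (s.B_le_KK i j hX).1
  -- `C i ≤ (T i T j) C j`
  obtain ⟨x, hxX, hx⟩ : ∃ x ∈ B i ⊔ B j, cj x (R i) = R j := by
    obtain ⟨m, -, -, x, hx, e⟩ := s.trans_B i j
    exact ⟨x, s.B_le hij m hx, e⟩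
  intro c hc
  have hcV : c ∈ centralizer (V : Set G) := s.C_le_cV i hc
  have h1 : x * c * x⁻¹ * c⁻¹ ∈ s.N i j := (s.B_le_KK i j hxX).2 c hcV
  have h2 : x * c * x⁻¹ ∈ C j := by
    rw [← s.cC x i j hx]; exact conj_mem_cj hc
  -- `c = n c'`
  obtain ⟨n, hn, c', hc', hcn⟩ : ∃ n ∈ s.N i j, ∃ c' ∈ C j, c = n * c' :=
    ⟨(x * c * x⁻¹ * c⁻¹)⁻¹, inv_mem h1, _, h2, by group⟩
  -- `[h, c] ∈ V`
  have h3 : h * c * h⁻¹ * c⁻¹ ∈ V := by
    have h4 : h * c * h⁻¹ * c⁻¹ ∈ s.N i j := (s.B_le_KK i j hX).2 c hcV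
    have h5 : h * c * h⁻¹ * c⁻¹ ∈ C i := by
      refine mul_mem ?_ (inv_mem hc)
      have := conj_mem_cj (g := h) hc
      rwa [s.cC h i i hi] at this
    obtain ⟨t, ht, u, hu, e⟩ := h4
    rw [e, s.T_comm ht hu] at h5
    obtain ⟨h6, h7⟩ := s.C_inf_N (Ne.symm hij) hYi hu ht h5
    rw [e]
    exact mul_mem (s.R_V i h7) (s.R_V j h6)
  obtain ⟨t, ht, u, hu, rfl⟩ := hn
  have hht : h * t * h⁻¹ ∈ TT V (B i) := by
    have := conj_mem_cj (g := h) ht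
    rwa [s.cj_T hV hi] at this
  have hhu : h * u * h⁻¹ ∈ TT V (B j) := by
    have := conj_mem_cj (g := h) hu
    rwa [s.cj_T hV hj] at this
  have hhc' : h * c' * h⁻¹ ∈ C j := by
    have := conj_mem_cj (g := h) hc'
    rwa [s.cC h j j hj] at this
  -- the element `(h t h⁻¹ t⁻¹) (h u h⁻¹ u⁻¹)` lies in `C j`
  have h4 : (h * t * h⁻¹ * t⁻¹) * (h * u * h⁻¹ * u⁻¹) ∈ C j := by
    set v := h * c * h⁻¹ * c⁻¹ with hv
    have hvc : h * c * h⁻¹ = v * c := by rw [hv]; group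
    have e1 : (h * t * h⁻¹) * (h * u * h⁻¹) * (h * c' * h⁻¹) = v * (t * u * c') := by
      rw [← hcn, ← hvc, hcn]; group
    have e2 : (h * t * h⁻¹) * (h * u * h⁻¹) = v * (t * u) * (c' * (h * c' * h⁻¹)⁻¹) := by
      calc (h * t * h⁻¹) * (h * u * h⁻¹)
          = (h * t * h⁻¹) * (h * u * h⁻¹) * (h * c' * h⁻¹) * (h * c' * h⁻¹)⁻¹ := by group
        _ = v * (t * u) * (c' * (h * c' * h⁻¹)⁻¹) := by rw [e1]; group
    have hvtu : v * (t * u) = t * u * v := by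
      have h5 : v * t = t * v := ((mem_TT.1 ht).2 v h3).symm
      have h6 : v * u = u * v := ((mem_TT.1 hu).2 v h3).symm
      calc v * (t * u) = v * t * u := by group
        _ = t * (v * u) := by rw [h5]; group
        _ = t * u * v := by rw [h6]; group
    have e3 : (h * t * h⁻¹ * t⁻¹) * (h * u * h⁻¹ * u⁻¹) = v * (c' * (h * c' * h⁻¹)⁻¹) := by
      have h7 : t⁻¹ * (h * u * h⁻¹) = (h * u * h⁻¹) * t⁻¹ := s.T_comm (inv_mem ht) hhu
      have hNa : (t * u)⁻¹ * ((h * t * h⁻¹) * (h * u * h⁻¹)) = ((h * t * h⁻¹) * (h * u * h⁻¹)) * (t * u)⁻¹ :=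
        s.N_comm (i := i) (j := j) (inv_mem ⟨t, ht, u, hu, rfl⟩) ⟨_, hht, _, hhu, rfl⟩
      calc (h * t * h⁻¹ * t⁻¹) * (h * u * h⁻¹ * u⁻¹)
          = (h * t * h⁻¹) * (t⁻¹ * (h * u * h⁻¹)) * u⁻¹ := by group
        _ = (h * t * h⁻¹) * ((h * u * h⁻¹) * t⁻¹) * u⁻¹ := by rw [h7]
        _ = ((h * t * h⁻¹) * (h * u * h⁻¹)) * (u * t)⁻¹ := by group
        _ = ((h * t * h⁻¹) * (h * u * h⁻¹)) * (t * u)⁻¹ := by rw [s.T_comm ht hu]
        _ = (t * u)⁻¹ * ((h * t * h⁻¹) * (h * u * h⁻¹)) := hNa.symm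
        _ = (t * u)⁻¹ * (v * (t * u) * (c' * (h * c' * h⁻¹)⁻¹)) := by rw [e2]
        _ = (t * u)⁻¹ * (t * u * v * (c' * (h * c' * h⁻¹)⁻¹)) := by rw [hvtu]
        _ = v * (c' * (h * c' * h⁻¹)⁻¹) := by group
    rw [e3]
    exact mul_mem (s.V_C j h3) (mul_mem hc' (inv_mem hhc'))
  obtain ⟨h5, h6⟩ := s.C_inf_N hij hYj (mul_mem hht (inv_mem ht)) (mul_mem hhu (inv_mem hu)) h4
  rw [hcn]
  exact mul_mem (mul_mem (s.V_C j (s.R_V i (fi t ht h5))) (s.V_C j (s.R_V j (fj u hu h6)))) hc'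

/-- **TEXT MIX (8)**: `W₁` is the same for all points of the line -/
theorem C_eq [Finite G] {i j : ι} (hij : i ≠ j) (hYi : C i ⊓ B i ≤ R i) (hYj : C j ⊓ B j ≤ R j) {h : G}
    (hX : h ∈ B i ⊔ B j) (hi : cj h (R i) = R i) (hj : cj h (R j) = R j)
    (fi : ∀ t ∈ TT V (B i), h * t * h⁻¹ * t⁻¹ ∈ R i → t ∈ R i)
    (fj : ∀ t ∈ TT V (B j), h * t * h⁻¹ * t⁻¹ ∈ R j → t ∈ R j) : C i = C j :=
  le_antisymm (s.C_le hij hYi hYj hX hi hj fi fj)
    (s.C_le (Ne.symm hij) hYj hYi (by rwa [sup_comm]) hj hi fj fi)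

end Side

end Cfsg.Agent.Omega.Mix
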