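import Cfsg.Agent.Omega.Mix.Defs

/-!
# The points of a relative natural module (`RMod F V N`) and the situation at `V` with `B i ≤ N`

* `Pt M`, `pt M` : the points of `V`;
* `RMod.le_ST` : `N` stabilises the set of points;
* `SideM M B C` : `Side V (pt M) B C` and `B i ≤ N`.
-/

set_option autoImplicit false
set_option linter.unusedSectionVars false

namespace Cfsg.Agent.Omega.Mix

open Subgroup Cfsg.Agent.Omega.BTwo
open Cfsg.Agent.Omega.NatPair (dt dt_add dt_smul exists_smul_of_dt exists_comb)

variable {G : Type*} [Group G] {F : Type*} [Field F] {V N : Subgroup G}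

/-- the points of `V` -/
def Pt (M : RMod F V N) : Type _ := {R : Subgroup G // ∃ w, w ≠ 0 ∧ R = M.line w}

/-- the points of `V`, as subgroups -/
def pt (M : RMod F V N) (i : Pt M) : Subgroup G := i.1

theorem line_eq_iff_dt (M : RMod F V N) {w u : Fin 2 → F} (hw : w ≠ 0) (hu : u ≠ 0) :
    M.line u = M.line w ↔ dt w u = 0 := by
  rw [M.line_eq_iff hu]
  constructor
  · rintro ⟨c, rfl⟩
    rw [dt_smul, dt_self, mul_zero]
  · exact fun h => exists_smul_of_dt hw h

theorem RMod.cj_pt [Finite F] (M : RMod F V N) {g : G} (hg : g ∈ N) (i : Pt M) : ∃ j : Pt M, cj g (pt M i) = pt M j := by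
  obtain ⟨w, hw, hi⟩ := i.2
  refine ⟨⟨M.line (M.act g w), M.act g w, M.act_ne_zero hg hw, rfl⟩, ?_⟩
  show cj g i.1 = M.line (M.act g w)
  rw [hi]
  exact M.cj_line hg w

/-- `N` stabilises `V` and the set of its points -/
theorem RMod.le_ST [Finite F] (M : RMod F V N) : N ≤ ST V (pt M) := by
  intro g hg
  exact ⟨cj_eq_self_iff.2 (M.le hg), fun i => M.cj_pt hg i, fun i => M.cj_pt (inv_mem hg) i⟩

/-- the situation at `V`, with `B i ≤ N` -/
structure SideM (M : RMod F V N) (B C : Pt M → Subgroup G) : Prop extends Side V (pt M) B C where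
  B_N : ∀ i, B i ≤ N

end Cfsg.Agent.Omega.Mix
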