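import Cfsg.Agent.Omega.Mix.Core

/-!
# Mixed mutual pairs (TEXT MIX, bb OMEGA #12374), step (3), global part: `C_G(W₁ W₂)` is a 2-group

`OD Y` : the subgroup generated by the elements of odd order of `Y`.
-/

set_option autoImplicit false

namespace Cfsg.Agent.Omega.Mix

open Subgroup Cfsg.Agent.Omega.BTwo

variable {G : Type*} [Group G] {ι κ : Type*}

/-- the subgroup generated by the elements of odd order -/
def OD (Y : Subgroup G) : Subgroup G := closure {y | y ∈ Y ∧ Odd (orderOf y)}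

theorem OD_le (Y : Subgroup G) : OD Y ≤ Y := (closure_le _).2 fun _ hy => hy.1

theorem orderOf_conj' (g y : G) : orderOf (g * y * g⁻¹) = orderOf y :=
  orderOf_injective (MulAut.conj g).toMonoidHom (MulAut.conj g).injective y

theorem cj_OD_le (g : G) (Y : Subgroup G) : cj g (OD Y) ≤ OD (cj g Y) := by
  rw [OD, cj, MonoidHom.map_closure, closure_le]
  rintro _ ⟨y, ⟨hy, ho⟩, rfl⟩
  refine subset_closure ⟨conj_mem_cj hy, ?_⟩
  change Odd (orderOf (g * y * g⁻¹))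
  rw [orderOf_conj']
  exact ho

theorem cj_OD (g : G) (Y : Subgroup G) : cj g (OD Y) = OD (cj g Y) := by
  refine le_antisymm (cj_OD_le g Y) ?_
  have := cj_mono (g := g) (cj_OD_le g⁻¹ (cj g Y))
  rwa [cj_cj_inv, cj_inv_cj] at this

theorem OD_le_of_mem {Y Y' : Subgroup G} (h : ∀ y ∈ Y, Odd (orderOf y) → y ∈ Y') : OD Y ≤ OD Y' := by
  rw [OD, closure_le]
  rintro y ⟨hy, ho⟩
  exact subset_closure ⟨h y hy ho, ho⟩

theorem isPGroup_of_OD [Finite G] {Y : Subgroup G} (h : OD Y = ⊥) : IsPGroup 2 Y := by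
  intro y
  obtain ⟨k, m, hm, hkm⟩ := Nat.exists_eq_two_pow_mul_odd (n := orderOf (y : G)) (orderOf_pos _).ne'
  refine ⟨k, ?_⟩
  apply Subtype.ext
  have h1 : orderOf ((y : G) ^ 2 ^ k) = m := by
    rw [orderOf_pow' _ (by positivity), hkm, Nat.gcd_eq_right (Dvd.intro _ rfl),
      Nat.mul_div_cancel_left _ (by positivity)]
  have h2 : (y : G) ^ 2 ^ k ∈ OD Y := subset_closure ⟨pow_mem y.2 _, by rw [h1]; exact hm⟩
  rw [h] at h2
  exact mem_bot.1 h2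

theorem Side.OD_eq [Finite G] {V : Subgroup G} {R B C : ι → Subgroup G} (s : Side V R B C) (i j : ι) :
    OD (YY (B i) (C i)) = OD (YY (B j) (C j)) :=
  le_antisymm (OD_le_of_mem fun _ hy ho => s.odd_mem j hy ho) (OD_le_of_mem fun _ hy ho => s.odd_mem i hy ho)

/-- `OD Y` is normalised by the stabiliser of the set of points of `V` -/
theorem Side.nOD [Finite G] {V : Subgroup G} {R B C : ι → Subgroup G} (s : Side V R B C) (i : ι) :
    ST V R ≤ normalizer (OD (YY (B i) (C i)) : Set G) := by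
  intro g hg
  rw [← cj_eq_self_iff, cj_OD]
  obtain ⟨j, hj⟩ := hg.2.1 i
  rw [s.cY hj]
  exact s.OD_eq j i

/-- **(3)** `C_G(W₁ W₂)` is a 2-group -/
theorem Y_isPGroup [Finite G] {V₁ V₂ : Subgroup G} {R₁ B₁ C₁ : ι → Subgroup G} {R₂ B₂ C₂ : κ → Subgroup G}
    (s₁ : Side V₁ R₁ B₁ C₁) (s₂ : Side V₂ R₂ B₂ C₂) {i : ι} {j : κ} (hR : R₁ i = R₂ j) (hB : B₁ i = C₂ j)
    (hC : C₁ i = B₂ j) (hch : Char2 (normalizer (R₁ i : Set G)))
    (hNL : ∀ K : Subgroup G, IsPGroup 2 K → ST V₁ R₁ ≤ normalizer (K : Set G) →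
      ST V₂ R₂ ≤ normalizer (K : Set G) → normalizer (R₁ i : Set G) ≤ normalizer (K : Set G) → K = ⊥) :
    IsPGroup 2 (YY (B₁ i) (C₁ i)) := by
  have hYY : YY (B₁ i) (C₁ i) = YY (B₂ j) (C₂ j) := by
    rw [YY, YY, hB, hC, sup_comm]
  set D := OD (YY (B₁ i) (C₁ i)) with hD
  have h1 : ST V₁ R₁ ≤ normalizer (D : Set G) := s₁.nOD i
  have h2 : ST V₂ R₂ ≤ normalizer (D : Set G) := by
    rw [hD, hYY]; exact s₂.nOD j
  have h3 : normalizer (R₁ i : Set G) ≤ normalizer (D : Set G) := by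
    intro g hg
    rw [← cj_eq_self_iff, hD, cj_OD, cj_eq_self_iff.2 (s₁.nY i hg)]
  have hN : normalizer (D : Set G) ≤ normalizer (O2 D : Set G) := by
    intro g hg
    rw [← cj_eq_self_iff, cj_O2, cj_eq_self_iff.2 hg]
  have h4 : O2 D = ⊥ := hNL _ (O2_isPGroup D) (h1.trans hN) (h2.trans hN) (h3.trans hN)
  have hDR : D ≤ normalizer (R₁ i : Set G) := by
    intro x hx
    exact s₁.cV_le_NR (s₁.Y_V (OD_le _ hx)) i
  set Q := O2 (normalizer (R₁ i : Set G)) with hQ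
  have hQR : Q ≤ normalizer (R₁ i : Set G) := O2_le _
  have h5 : D ⊓ Q ≤ O2 D := by
    refine le_O2_of_normal inf_le_left ((O2_isPGroup _).to_le inf_le_right) ?_
    rintro g hg a ⟨haD, haQ⟩
    exact ⟨D.mul_mem (D.mul_mem hg haD) (D.inv_mem hg),
      conj_mem_of_normalizer (le_normalizer_O2 _ (hDR hg)) haQ⟩
  rw [h4] at h5
  have h6 : D ≤ Q := by
    intro d hd
    refine hch d (hDR hd) fun q hq => ?_
    apply comm_of_eq_one
    have : d * q * d⁻¹ * q⁻¹ ∈ D ⊓ Q := by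
      refine ⟨?_, Q.mul_mem (conj_mem_of_normalizer (le_normalizer_O2 _ (hDR hd)) hq) (Q.inv_mem hq)⟩
      have e : d * q * d⁻¹ * q⁻¹ = d * (q * d⁻¹ * q⁻¹) := by group
      rw [e]
      exact D.mul_mem hd (conj_mem_of_normalizer (h3 (hQR hq)) (D.inv_mem hd))
    exact mem_bot.1 (h5 this)
  have h7 : D = ⊥ := by
    rw [eq_bot_iff]
    exact fun d hd => h5 ⟨hd, h6 hd⟩
  exact isPGroup_of_OD h7

/-- **(3)-(5)** `C_G(W₁ W₂) = R` -/
theorem center_eq [Finite G] {V₁ V₂ : Subgroup G} {R₁ B₁ C₁ : ι → Subgroup G} {R₂ B₂ C₂ : κ → Subgroup G}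
    (s₁ : Side V₁ R₁ B₁ C₁) (s₂ : Side V₂ R₂ B₂ C₂) {i : ι} {j : κ} (hR : R₁ i = R₂ j) (hB : B₁ i = C₂ j)
    (hC : C₁ i = B₂ j) (hch : Char2 (normalizer (R₁ i : Set G)))
    (hNL : ∀ K : Subgroup G, IsPGroup 2 K → ST V₁ R₁ ≤ normalizer (K : Set G) →
      ST V₂ R₂ ≤ normalizer (K : Set G) → normalizer (R₁ i : Set G) ≤ normalizer (K : Set G) → K = ⊥)
    (hQ : ∀ i, ∀ g ∈ QQ (R₁ i), ∀ b ∈ B₁ i, g * b * g⁻¹ * b⁻¹ ∈ R₁ i) (k : ι) :
    YY (B₁ k) (C₁ k) = R₁ k := by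
  refine s₁.Y_eq (fun k => ?_) hQ k
  have h := Y_isPGroup s₁ s₂ hR hB hC hch hNL
  obtain ⟨m, -, -, x, hx, e⟩ := s₁.trans_B i k
  rw [← s₁.cY e]
  exact isPGroup_cj h

end Cfsg.Agent.Omega.Mix
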