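import Cfsg.Agent.Omega.Mix.Side
import Cfsg.Agent.Omega.BTwo.Entry
import Cfsg.Agent.Omega.Mix.RelPair

/-!
# Mixed mutual pairs (TEXT MIX, bb OMEGA #12374): the global structure

`LL V R r` : the subgroup generated by the lines of the type of `V` on the point `r` (`r` conjugate to `R`), i.e.
`W(r) = ⟨V^g : R^g = r⟩`.  `W₁ r = LL V₁ R r`, `W₂ r = LL V₂ R r`.
-/

set_option autoImplicit false

namespace Cfsg.Agent.Omega.Mix

open Subgroup Cfsg.Agent.Omega.BTwo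
open Cfsg.Agent.Omega.NatPair (NatMod)

variable {G : Type*} [Group G]

/-- `⟨V^g : R^g = r⟩` -/
def LL (V R r : Subgroup G) : Subgroup G := ⨆ g : {g : G // cj g R = r}, cj (g : G) V

theorem cj_le_LL {V R r : Subgroup G} {g : G} (h : cj g R = r) : cj g V ≤ LL V R r :=
  le_iSup (fun g : {g : G // cj g R = r} => cj (g : G) V) ⟨g, h⟩

theorem V_le_LL (V R : Subgroup G) : V ≤ LL V R R := by
  have := cj_le_LL (V := V) (R := R) (cj_one R)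
  rwa [cj_one] at this

theorem LL_le {V R r K : Subgroup G} (h : ∀ g, cj g R = r → cj g V ≤ K) : LL V R r ≤ K :=
  iSup_le fun g => h g g.2

/-- `W(r)^g = W(r^g)` -/
theorem cj_LL {V R r r' : Subgroup G} {g : G} (h : cj g r = r') : cj g (LL V R r) = LL V R r' := by
  have key : ∀ (g : G) (r r' : Subgroup G), cj g r = r' → cj g (LL V R r) ≤ LL V R r' := by
    intro g r r' h
    rw [LL, cj_iSup]
    refine iSup_le fun k => ?_
    rw [← cj_mul]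
    exact cj_le_LL (by rw [cj_mul, k.2, h])
  refine le_antisymm (key g r r' h) ?_
  have h2 := cj_mono (g := g) (key g⁻¹ r' r (by rw [← h, cj_inv_cj]))
  rwa [cj_cj_inv] at h2

theorem normalizer_le_LL (V R r : Subgroup G) :
    normalizer (r : Set G) ≤ normalizer (LL V R r : Set G) := by
  intro g hg
  rw [← cj_eq_self_iff] at hg ⊢
  exact cj_LL hg

/-- `C_H(O₂(H)) ≤ O₂(H)` -/
def Char2 (H : Subgroup G) : Prop := ∀ x ∈ H, (∀ q ∈ O2 H, x * q = q * x) → x ∈ O2 H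

/-- A mixed mutual pair `(V₁, V₂)`, normal form: `V₁`, `V₂` natural `SL₂`-modules with the common line `R`, `S` a Sylow
2-subgroup of `G` normalising `V₁`, `V₂`, `R`; `W₁ R`, `W₂ R` abelian, not commuting. -/
structure Mixed {F₁ F₂ : Type*} [Field F₁] [Field F₂] {V₁ V₂ : Subgroup G} (M₁ : NatMod F₁ V₁) (M₂ : NatMod F₂ V₂)
    (R : Subgroup G) : Prop where
  line₁ : ∃ w, w ≠ 0 ∧ R = M₁.line w
  line₂ : ∃ w, w ≠ 0 ∧ R = M₂.line w
  sylow : ∃ S : Sylow 2 G, (S : Subgroup G) ≤ normalizer (V₁ : Set G) ∧ (S : Subgroup G) ≤ normalizer (V₂ : Set G) ∧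
    (S : Subgroup G) ≤ normalizer (R : Set G)
  char₁ : Char2 (normalizer (V₁ : Set G))
  char₂ : Char2 (normalizer (V₂ : Set G))
  charR : Char2 (normalizer (R : Set G))
  comm₁ : ∀ a ∈ LL V₁ R R, ∀ b ∈ LL V₁ R R, a * b = b * a
  comm₂ : ∀ a ∈ LL V₂ R R, ∀ b ∈ LL V₂ R R, a * b = b * a
  ne : ∃ a ∈ LL V₁ R R, ∃ b ∈ LL V₂ R R, a * b ≠ b * a

theorem Mixed.symm {F₁ F₂ : Type*} [Field F₁] [Field F₂] {V₁ V₂ : Subgroup G} {M₁ : NatMod F₁ V₁} {M₂ : NatMod F₂ V₂}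
    {R : Subgroup G} (m : Mixed M₁ M₂ R) : Mixed M₂ M₁ R where
  line₁ := m.line₂
  line₂ := m.line₁
  sylow := by
    obtain ⟨S, h1, h2, h3⟩ := m.sylow
    exact ⟨S, h2, h1, h3⟩
  char₁ := m.char₂
  char₂ := m.char₁
  charR := m.charR
  comm₁ := m.comm₂
  comm₂ := m.comm₁
  ne := by
    obtain ⟨a, ha, b, hb, h⟩ := m.ne
    exact ⟨b, hb, a, ha, fun h1 => h h1.symm⟩

/-- A mixed mutual pair `(V₁, V₂)`, normal form, relative to subgroups `N₁ ≤ N(V₁)`, `N₂ ≤ N(V₂)` (for `q = 4` the full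
normaliser may induce `A₇` on `V₁`): `V₁`, `V₂` natural `SL₂`-modules with the common line `R`, `S` a Sylow 2-subgroup of `G`
inside `N₁ ∩ N₂ ∩ N(R)` with `Ω₁(Z(S)) ≤ R`; all 2-local subgroups have characteristic 2; `W₁ = LL V₁ R R`,
`W₂ = LL V₂ R R` abelian, not commuting. -/
structure MixedN {F₁ F₂ : Type*} [Field F₁] [Field F₂] {V₁ V₂ N₁ N₂ : Subgroup G} (M₁ : RMod F₁ V₁ N₁)
    (M₂ : RMod F₂ V₂ N₂) (R : Subgroup G) : Prop where
  line₁ : ∃ w, w ≠ 0 ∧ R = M₁.line w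
  line₂ : ∃ w, w ≠ 0 ∧ R = M₂.line w
  sylow : ∃ S : Sylow 2 G, (S : Subgroup G) ≤ N₁ ∧ (S : Subgroup G) ≤ N₂ ∧ (S : Subgroup G) ≤ normalizer (R : Set G) ∧
    ∀ z ∈ S, z * z = 1 → (∀ s ∈ S, s * z = z * s) → z ∈ R
  char : ∀ K : Subgroup G, IsPGroup 2 K → K ≠ ⊥ → Char2 (normalizer (K : Set G))
  comm₁ : ∀ a ∈ LL V₁ R R, ∀ b ∈ LL V₁ R R, a * b = b * a
  comm₂ : ∀ a ∈ LL V₂ R R, ∀ b ∈ LL V₂ R R, a * b = b * a
  ne : ∃ a ∈ LL V₁ R R, ∃ b ∈ LL V₂ R R, a * b ≠ b * a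

theorem MixedN.symm {F₁ F₂ : Type*} [Field F₁] [Field F₂] {V₁ V₂ N₁ N₂ : Subgroup G} {M₁ : RMod F₁ V₁ N₁}
    {M₂ : RMod F₂ V₂ N₂} {R : Subgroup G} (m : MixedN M₁ M₂ R) : MixedN M₂ M₁ R where
  line₁ := m.line₂
  line₂ := m.line₁
  sylow := by
    obtain ⟨S, h1, h2, h3, h4⟩ := m.sylow
    exact ⟨S, h2, h1, h3, h4⟩
  char := m.char
  comm₁ := m.comm₂
  comm₂ := m.comm₁
  ne := by
    obtain ⟨a, ha, b, hb, h⟩ := m.ne
    exact ⟨b, hb, a, ha, fun h1 => h h1.symm⟩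

end Cfsg.Agent.Omega.Mix
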