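import Cfsg.Agent.Omega.Mix.TI
import Cfsg.Agent.Omega.Lin.TIClose

/-!
# A mixed pair, `q ≥ 4`, `W₁ ≠ V₁`: `G` is known (S1179)
-/

set_option autoImplicit false

namespace Cfsg.Agent.Omega.Mix

open Subgroup Cfsg.Agent.Omega.BTwo Cfsg.Agent.WeakTI.ReduceMain Cfsg.Agent.WeakTI.ReduceComponent

universe u

variable {G : Type u} [Group G] [Finite G] {F₁ F₂ : Type*} [Field F₁] [Field F₂] {V₁ V₂ N₁ N₂ : Subgroup G}
  {M₁ : RMod F₁ V₁ N₁} {M₂ : RMod F₂ V₂ N₂} {R : Subgroup G}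

/-- closing -/
theorem TIOut.known (Main : ∀ A : Subgroup G, Red A → InList G) [IsSimpleGroup G] (hna : ¬ IsMulCommutative G)
    {A : Subgroup G} (h : TIOut A) : Cfsg.IsKnownSimple' G := by
  obtain ⟨a, haA, ha1, hca⟩ := h.ctl
  exact TIClose.known_of_trans Main hna h.elem h.cent h.trans haA ha1 hca

/-- **a mixed pair, `q ≥ 4`, `W₁ ≠ V₁`** -/
theorem MixedN.known (Main : ∀ A : Subgroup G, Red A → InList G) [IsSimpleGroup G] (hna : ¬ IsMulCommutative G)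
    (m : MixedN M₁ M₂ R) [Finite F₁] [Finite F₂] [CharP F₁ 2] [CharP F₂ 2] (hF : ∃ l : F₁, l ≠ 0 ∧ l ≠ 1)
    (hW : ¬ LL V₁ R R ≤ V₁) : Cfsg.IsKnownSimple' G := by
  obtain ⟨A, -, h⟩ := m.exists_ti hF hW
  exact h.known Main hna

end Cfsg.Agent.Omega.Mix
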