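import Cfsg.Agent.Omega.Mix.Tensor
import Cfsg.Agent.Omega.Mix.Pts

/-!
# TEXT MIX (2): the field structure at a line `V`

`s : SideM M B C` (`M : RMod F V H₀`), two points `i`, `j` of `V` with coordinate vectors `w`, `u`.
`AtV M B i j w u U` : `N = T i × T j` is `F² ⊗ U`, `X = B i ⊔ B j` acts on the first factor as `SL₂(F)`,
`V = F² ⊗ f₀`.  `Side.exists_atV` : it exists.

Consequences: `AtV.torus` (elements of `X` normalising `R i` and `R j`), `AtV.exists_torus`,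
`AtV.lin` (elements of `C(V)` act `F`-linearly), `AtV.exists_f` (the function `f` of (8)).
-/

set_option autoImplicit false
set_option linter.unusedSectionVars false

namespace Cfsg.Agent.Omega.Mix

open Subgroup Cfsg.Agent.Omega.BTwo Cfsg.Agent.Omega.Mix.Tensor
open Cfsg.Agent.Omega.NatPair (dt dt_add dt_smul exists_smul_of_dt exists_comb)

universe u

variable {G : Type u} [Group G] {F : Type*} [Field F] {V H₀ : Subgroup G}

/-- the coefficient of `w` in `g u` (basis `w`, `u`) -/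
noncomputable def pp (M : RMod F V H₀) (w u : Fin 2 → F) (g : G) : F := dt (M.act g u) u / dt w u

theorem dt_add_left (w x y : Fin 2 → F) : dt (x + y) w = dt x w + dt y w := by
  simp only [dt, Pi.add_apply]; ring

theorem dt_swap (w x : Fin 2 → F) : dt w x = - dt x w := by unfold dt; ring

theorem pp_eq (M : RMod F V H₀) {w u : Fin 2 → F} (h : dt w u ≠ 0) {g : G} {c : F}
    (hg : M.act g u = u + c • w) : pp M w u g = c := by
  rw [pp, hg, dt_add_left, dt_self, zero_add, dt_smul_left, mul_div_assoc, div_self h, mul_one]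

/-- `AtV`: `N = T i × T j = F² ⊗ U`, `V = F² ⊗ f₀` -/
structure AtV (M : RMod F V H₀) (B : Pt M → Subgroup G) (i j : Pt M) (w u : Fin 2 → F) (U : Type*)
    [AddCommGroup U] [Module F U] extends Ten F (B i) (B j) (pp M w u) (pp M u w) U where
  hi : i.1 = M.line w
  hj : j.1 = M.line u
  hwu : dt w u ≠ 0
  f₀ : U
  f₀_ne : f₀ ≠ 0
  e_eq : ∀ x y : F, M.e (x • w + y • u) = n (x • f₀) (y • f₀)

namespace SideM

variable [Finite F] {M : RMod F V H₀} {B C : Pt M → Subgroup G}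

/-- an element of `B i` acts as a transvection with centre `R i` -/
theorem act_w (s : SideM M B C) {i : Pt M} {w : Fin 2 → F} (hi : i.1 = M.line w) {b : G}
    (hb : b ∈ B i) : M.act b w = w := by
  rw [← M.commute_e (s.B_N i hb)]
  refine s.B_comm i b hb _ (s.R_B i ?_)
  show M.e w ∈ i.1
  rw [hi]
  exact ⟨1, by rw [one_smul]⟩

theorem act_smul (s : SideM M B C) {i : Pt M} {w : Fin 2 → F} (hw : w ≠ 0) (hi : i.1 = M.line w)
    {b : G} (hb : b ∈ B i) (c : F) (x : Fin 2 → F) : M.act b (c • x) = c • M.act b x := by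
  obtain ⟨σ, hσ⟩ := M.exists_semi (s.B_N i hb)
  have h1 : ∀ c : F, σ c = c := by
    intro c
    have h2 : M.act b (c • w) = c • w := by
      rw [← M.commute_e (s.B_N i hb)]
      refine s.B_comm i b hb _ (s.R_B i ?_)
      show M.e (c • w) ∈ i.1
      rw [hi]
      exact ⟨c, rfl⟩
    rw [hσ, s.act_w hi hb] at h2
    exact smul_left_injective F hw h2
  rw [hσ, h1]

theorem act_u (s : SideM M B C) {i : Pt M} {w u : Fin 2 → F} (hi : i.1 = M.line w)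
    (hwu : dt w u ≠ 0) {b : G} (hb : b ∈ B i) : M.act b u = u + pp M w u b • w := by
  have h1 := s.CB i (M.e u) (s.V_C i (M.e_mem u)) b hb
  have h1' : M.e u * b * (M.e u)⁻¹ * b⁻¹ ∈ i.1 := h1
  rw [hi] at h1'
  have h2 := inv_mem h1'
  have e1 : (M.e u * b * (M.e u)⁻¹ * b⁻¹)⁻¹ = M.e (M.act b u) * (M.e u)⁻¹ := by
    rw [M.e_act (s.B_N i hb)]; group
  rw [e1, ← M.e_sub, M.e_mem_line] at h2
  obtain ⟨c, hc⟩ := h2
  have h3 : M.act b u = u + c • w := by rw [← hc]; abel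
  rw [pp_eq M hwu h3, h3]

theorem act_comb (s : SideM M B C) {i : Pt M} {w u : Fin 2 → F} (hw : w ≠ 0)
    (hi : i.1 = M.line w) (hwu : dt w u ≠ 0) {b : G} (hb : b ∈ B i) (x y : F) :
    M.act b (x • w + y • u) = (x + pp M w u b * y) • w + y • u := by
  rw [M.act_add (s.B_N i hb), s.act_smul hw hi hb, s.act_smul hw hi hb, s.act_w hi hb,
    s.act_u hi hwu hb]
  module

theorem pp_mul (s : SideM M B C) {i : Pt M} {w u : Fin 2 → F} (hw : w ≠ 0) (hi : i.1 = M.line w)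
    (hwu : dt w u ≠ 0) {b c : G} (hb : b ∈ B i) (hc : c ∈ B i) :
    pp M w u (b * c) = pp M w u b + pp M w u c := by
  apply pp_eq M hwu
  rw [M.act_mul (s.B_N i hb) (s.B_N i hc), s.act_u hi hwu hc, M.act_add (s.B_N i hb),
    s.act_smul hw hi hb, s.act_w hi hb, s.act_u hi hwu hb]
  module

theorem pp_eq_zero (s : SideM M B C) {i : Pt M} {w u : Fin 2 → F} (hw : w ≠ 0)
    (hi : i.1 = M.line w) (hwu : dt w u ≠ 0) {b : G} (hb : b ∈ B i) :
    pp M w u b = 0 ↔ ∀ v ∈ V, b * v = v * b := by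
  constructor
  · intro h v hv
    obtain ⟨x, rfl⟩ := (M.mem_iff v).1 hv
    obtain ⟨a, c, rfl⟩ := exists_comb hwu x
    rw [M.commute_e (s.B_N i hb), s.act_comb hw hi hwu hb, h, zero_mul, add_zero]
  · intro h
    apply pp_eq M hwu
    rw [zero_smul, add_zero, ← M.commute_e (s.B_N i hb)]
    exact h _ (M.e_mem _)

theorem mem_T_iff (s : SideM M B C) {i : Pt M} {w u : Fin 2 → F} (hw : w ≠ 0)
    (hi : i.1 = M.line w) (hwu : dt w u ≠ 0) {g : G} :
    g ∈ TT V (B i) ↔ g ∈ B i ∧ pp M w u g = 0 := by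
  rw [mem_TT]
  exact and_congr_right fun hg => (s.pp_eq_zero hw hi hwu hg).symm

theorem cj_line_eq (s : SideM M B C) {g : G} (hg : g ∈ H₀) (w : Fin 2 → F) :
    cj g (M.line w) = M.line (M.act g w) := by
  have _ := s
  exact M.cj_line hg w

theorem pp_surj (s : SideM M B C) {i j : Pt M} {w u : Fin 2 → F}
    (hi : i.1 = M.line w) (hj : j.1 = M.line u) (hwu : dt w u ≠ 0) (a : F) :
    ∃ b ∈ B i, pp M w u b = a := by
  have hw : w ≠ 0 := by
    rintro rfl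
    apply hwu
    unfold dt
    simp
  have hk0 : dt w (u + a • w) ≠ 0 := by
    rwa [dt_add, dt_smul, dt_self, mul_zero, add_zero]
  have hk : u + a • w ≠ 0 := ne_zero_of_dt hk0
  have hu : u ≠ 0 := ne_zero_of_dt hwu
  obtain ⟨b, hb, e⟩ := s.trans i j ⟨_, u + a • w, hk, rfl⟩ (by
      intro h
      apply hwu
      rw [← line_eq_iff_dt M hw hu, ← hi, ← hj, h]) (by
      intro h
      apply hk0
      rw [← line_eq_iff_dt M hw hk, ← hi]
      exact congrArg Subtype.val h)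
  refine ⟨b, hb, ?_⟩
  have e' : cj b (j.1) = M.line (u + a • w) := e
  rw [hj, s.cj_line_eq (s.B_N i hb), s.act_u hi hwu hb] at e'
  have h1 : u + pp M w u b • w ≠ 0 := by
    refine ne_zero_of_dt (w := w) ?_
    rwa [dt_add, dt_smul, dt_self, mul_zero, add_zero]
  rw [line_eq_iff_dt M hk h1, dt_add_left, dt_add, dt_add, dt_self, dt_smul, dt_smul_left,
    dt_smul_left, dt_smul, dt_self, dt_swap u w] at e'
  have h2 : (a - pp M w u b) * dt w u = 0 := by linear_combination e'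
  rcases mul_eq_zero.1 h2 with h3 | h3
  · exact (sub_eq_zero.1 h3).symm
  · exact absurd h3 hwu

theorem pp_conj (s : SideM M B C) {i : Pt M} {w u : Fin 2 → F} (hi : i.1 = M.line w)
    (hwu : dt w u ≠ 0) {t b : G} (ht : ∀ v ∈ V, t * v = v * t) (hb : b ∈ B i) :
    t * b * t⁻¹ ∈ B i ∧ pp M w u (t * b * t⁻¹) = pp M w u b := by
  have h1 : t * b * t⁻¹ ∈ B i := conj_mem_of_normalizer (s.nB i (s.cV_le_NR ht i)) hb
  refine ⟨h1, ?_⟩
  apply pp_eq M hwu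
  rw [← s.act_u hi hwu hb]
  apply M.e_inj
  rw [M.e_act (s.B_N i h1), M.e_act (s.B_N i hb)]
  have h2 : t⁻¹ * M.e u * t = M.e u := by
    have h3 := ht _ (M.e_mem u)
    rw [mul_assoc, ← h3]; group
  have h4 : b * M.e u * b⁻¹ ∈ V := conj_mem_of_normalizer (s.B_NV i hb) (M.e_mem u)
  calc t * b * t⁻¹ * M.e u * (t * b * t⁻¹)⁻¹ = t * (b * (t⁻¹ * M.e u * t) * b⁻¹) * t⁻¹ := by group
    _ = t * (b * M.e u * b⁻¹) * t⁻¹ := by rw [h2]
    _ = (b * M.e u * b⁻¹) * t * t⁻¹ := by rw [ht _ h4]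
    _ = b * M.e u * b⁻¹ := by group

variable [CharP F 2]

theorem blk (s : SideM M B C) {i j : Pt M} {w u : Fin 2 → F}
    (hi : i.1 = M.line w) (hj : j.1 = M.line u) (hwu : dt w u ≠ 0) :
    Blk F (B i) (B j) (pp M w u) (pp M u w) := by
  have hw : w ≠ 0 := by
    rintro rfl
    apply hwu
    unfold dt
    simp
  have hu : u ≠ 0 := ne_zero_of_dt hwu
  have huw : dt u w ≠ 0 := by rw [dt_swap]; exact neg_ne_zero.2 hwu
  have hij : i ≠ j := by
    intro h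
    apply hwu
    rw [← line_eq_iff_dt M hw hu, ← hi, ← hj, h]
  have key : ∀ b ∈ B i, ∀ c ∈ B j, pp M w u b ≠ 0 → pp M u w c = (pp M w u b)⁻¹ →
      b * c * b ∈ H₀ ∧ cj (b * c * b) (pt M i) = pt M j ∧
        cj (b * c * b) (pt M j) = pt M i := by
    intro b hb c hc hb0 hcb
    have hbN := s.B_N i hb
    have hcN := s.B_N j hc
    have hN : b * c * b ∈ H₀ := mul_mem (mul_mem hbN hcN) hbN
    set a := pp M w u b with ha
    have hca : a * pp M u w c = 1 := by rw [hcb, mul_inv_cancel₀ hb0]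
    have hc1 : ∀ x y : F, M.act c (x • w + y • u) = x • w + (y + pp M u w c * x) • u := by
      intro x y
      rw [add_comm (x • w), s.act_comb hu hj huw hc, add_comm]
    have hb1 : ∀ x y : F, M.act b (x • w + y • u) = (x + a * y) • w + y • u := fun x y =>
      s.act_comb hw hi hwu hb x y
    have hall : ∀ x y : F, M.act (b * c * b) (x • w + y • u) =
        (a * y) • w + (pp M u w c * x) • u := by
      intro x y
      rw [M.act_mul (mul_mem hbN hcN) hbN, M.act_mul hbN hcN, hb1, hc1, hb1]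
      have h2 : (y : F) + y = 0 := CharTwo.add_self_eq_zero y
      have h2x : (x : F) + x = 0 := CharTwo.add_self_eq_zero x
      congr 1
      · congr 1
        linear_combination h2x + (a * y + x) * hca + a * h2
      · congr 1
        linear_combination h2 + y * hca
    refine ⟨hN, ?_, ?_⟩
    · show cj (b * c * b) i.1 = j.1
      have h3 := hall 1 0
      rw [one_smul, zero_smul, add_zero, mul_zero, zero_smul, zero_add, mul_one] at h3
      have h4 : pp M u w c ≠ 0 := by rw [hcb]; exact inv_ne_zero hb0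
      rw [hi, hj, s.cj_line_eq hN, h3, M.line_smul h4]
    · show cj (b * c * b) j.1 = i.1
      have h3 := hall 0 1
      rw [one_smul, zero_smul, zero_add, mul_zero, zero_smul, add_zero, mul_one] at h3
      rw [hi, hj, s.cj_line_eq hN, h3, M.line_smul hb0]
  exact
    { ab₁ := s.B_comm i
      ab₂ := s.B_comm j
      sq₁ := s.B_sq i
      sq₂ := s.B_sq j
      mul₁ := fun b hb c hc => s.pp_mul hw hi hwu hb hc
      mul₂ := fun b hb c hc => s.pp_mul hu hj huw hb hc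
      sur₁ := s.pp_surj hi hj hwu
      sur₂ := s.pp_surj hj hi huw
      nor₁ := fun t ht h0 b hb => s.pp_conj hi hwu ((s.pp_eq_zero hu hj huw ht).1 h0) hb
      nor₂ := fun t ht h0 b hb => s.pp_conj hj huw ((s.pp_eq_zero hw hi hwu ht).1 h0) hb
      inf := fun g h1 h2 => s.B_eq_one hij h1 h2
      swap₁ := fun b hb c hc h1 h2 t ht _ => by
        obtain ⟨_, h4, _⟩ := key b hb c hc h1 h2
        rw [← s.cB _ i j h4]
        exact conj_mem_cj ht
      swap₂ := fun b hb c hc h1 h2 t ht _ => by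
        obtain ⟨_, _, h5⟩ := key b hb c hc h1 h2
        rw [← s.cB _ j i h5]
        exact conj_mem_cj ht }

/-- **The field structure at `V`.** -/
theorem exists_atV (s : SideM M B C) {i j : Pt M} {w u : Fin 2 → F}
    (hi : i.1 = M.line w) (hj : j.1 = M.line u) (hwu : dt w u ≠ 0) :
    ∃ (U : Type u) (_ : AddCommGroup U) (_ : Module F U), Nonempty (AtV M B i j w u U) := by
  have hw : w ≠ 0 := by
    rintro rfl
    apply hwu
    unfold dt
    simp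
  have hu : u ≠ 0 := ne_zero_of_dt hwu
  have huw : dt u w ≠ 0 := by rw [dt_swap]; exact neg_ne_zero.2 hwu
  obtain ⟨U, i1, i2, ⟨N⟩⟩ := exists_ten (s.blk hi hj hwu)
  have hR : ∀ x : F, M.e (x • w) ∈ B i := fun x => s.R_B i (by
    show M.e (x • w) ∈ i.1
    rw [hi]; exact ⟨x, rfl⟩)
  have hR' : ∀ x : F, M.e (x • u) ∈ B j := fun x => s.R_B j (by
    show M.e (x • u) ∈ j.1
    rw [hj]; exact ⟨x, rfl⟩)
  obtain ⟨f₀, hf⟩ := N.exists_f₀ (fun x y => M.e (x • w + y • u))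
    (by
      intro x
      rw [zero_smul, add_zero]
      exact ⟨hR x, (s.pp_eq_zero hw hi hwu (hR x)).2 fun v hv => M.comm (M.e_mem _) hv⟩)
    (by
      intro y
      rw [zero_smul, zero_add]
      exact ⟨hR' y, (s.pp_eq_zero hu hj huw (hR' y)).2 fun v hv => M.comm (M.e_mem _) hv⟩)
    (by
      intro x y
      rw [zero_smul, add_zero, zero_smul, zero_add, M.e_add])
    (by
      intro b hb x y
      rw [← M.e_act (s.B_N i hb), s.act_comb hw hi hwu hb])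
    (s.pp_surj hi hj hwu)
  refine ⟨U, i1, i2, ⟨⟨N, hi, hj, hwu, f₀, ?_, hf⟩⟩⟩
  intro h0
  have h1 := hf 1 0
  rw [h0, smul_zero, smul_zero, N.n_zero, one_smul, zero_smul, add_zero, M.e_eq_one] at h1
  exact hw h1

end SideM

/-! ### Consequences -/

namespace AtV

variable {M : RMod F V H₀} {B C : Pt M → Subgroup G} {i j : Pt M} {w u : Fin 2 → F} {U : Type*}
  [AddCommGroup U] [Module F U] (N : AtV M B i j w u U)

include N

theorem huw : dt u w ≠ 0 := by rw [dt_swap]; exact neg_ne_zero.2 N.hwu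

theorem hw : w ≠ 0 := by
  intro h
  apply N.hwu
  rw [h]
  unfold dt
  simp

theorem hu : u ≠ 0 := ne_zero_of_dt N.hwu

theorem hij : i ≠ j := by
  intro h
  apply N.hwu
  rw [← line_eq_iff_dt M N.hw N.hu, ← N.hi, ← N.hj, h]

theorem smul_f₀ {x y : F} (h : x • N.f₀ = y • N.f₀) : x = y := smul_left_injective F N.f₀_ne h

theorem mem_Ri {g : G} : g ∈ pt M i ↔ ∃ r : F, g = N.n (r • N.f₀) 0 := by
  have h1 : g ∈ pt M i ↔ g ∈ M.line w := by
    show g ∈ i.1 ↔ _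
    rw [N.hi]
  rw [h1]
  constructor
  · rintro ⟨r, rfl⟩
    refine ⟨r, ?_⟩
    have := N.e_eq r 0
    rwa [zero_smul, add_zero, zero_smul] at this
  · rintro ⟨r, rfl⟩
    refine ⟨r, ?_⟩
    have := N.e_eq r 0
    rwa [zero_smul, add_zero, zero_smul] at this

theorem mem_Rj {g : G} : g ∈ pt M j ↔ ∃ r : F, g = N.n 0 (r • N.f₀) := by
  have h1 : g ∈ pt M j ↔ g ∈ M.line u := by
    show g ∈ j.1 ↔ _
    rw [N.hj]
  rw [h1]
  constructor
  · rintro ⟨r, rfl⟩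
    refine ⟨r, ?_⟩
    have := N.e_eq 0 r
    rwa [zero_smul, zero_add, zero_smul] at this
  · rintro ⟨r, rfl⟩
    refine ⟨r, ?_⟩
    have := N.e_eq 0 r
    rwa [zero_smul, zero_add, zero_smul] at this

theorem mem_V {g : G} : g ∈ V ↔ ∃ x y : F, g = N.n (x • N.f₀) (y • N.f₀) := by
  rw [M.mem_iff]
  constructor
  · rintro ⟨v, rfl⟩
    obtain ⟨x, y, rfl⟩ := exists_comb N.hwu v
    exact ⟨x, y, N.e_eq x y⟩
  · rintro ⟨x, y, rfl⟩
    exact ⟨_, N.e_eq x y⟩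

/-- `X` acts as `SL₂(F)` on `N = F² ⊗ U` and on `V`. -/
theorem act_X {g : G} (hg : g ∈ B i ⊔ B j) : ∃ a b c d : F, a * d - b * c = 1 ∧
    (∀ s t, g * N.n s t * g⁻¹ = N.n (a • s + b • t) (c • s + d • t)) ∧
    ∀ x y : F, g * M.e (x • w + y • u) * g⁻¹ = M.e ((a * x + b * y) • w + (c * x + d * y) • u) := by
  obtain ⟨a, b, c, d, h1, h2⟩ := N.act_closure hg
  refine ⟨a, b, c, d, h1, h2, fun x y => ?_⟩
  rw [N.e_eq, N.e_eq, h2]
  congr 1 <;> module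

/-- elements of `X` normalising `R i` and `R j` -/
theorem torus {g : G} (hg : g ∈ B i ⊔ B j) (hgi : cj g (pt M i) = pt M i)
    (hgj : cj g (pt M j) = pt M j) : ∃ l : F, l ≠ 0 ∧
    (∀ s t, g * N.n s t * g⁻¹ = N.n (l • s) (l⁻¹ • t)) ∧
    ∀ x y : F, g * M.e (x • w + y • u) * g⁻¹ = M.e ((l * x) • w + (l⁻¹ * y) • u) := by
  obtain ⟨a, b, c, d, h1, h2, h3⟩ := N.act_X hg
  have hc : c = 0 := by
    have h4 : g * N.n ((1 : F) • N.f₀) 0 * g⁻¹ ∈ pt M i := by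
      rw [← hgi]
      exact conj_mem_cj (N.mem_Ri.2 ⟨1, rfl⟩)
    rw [h2, smul_zero, smul_zero, add_zero, add_zero, one_smul] at h4
    obtain ⟨r, hr⟩ := N.mem_Ri.1 h4
    have h5 := (N.n_inj _ _ _ _ hr).2
    exact (smul_eq_zero.1 h5).resolve_right N.f₀_ne
  have hb : b = 0 := by
    have h4 : g * N.n 0 ((1 : F) • N.f₀) * g⁻¹ ∈ pt M j := by
      rw [← hgj]
      exact conj_mem_cj (N.mem_Rj.2 ⟨1, rfl⟩)
    rw [h2, smul_zero, smul_zero, zero_add, zero_add, one_smul] at h4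
    obtain ⟨r, hr⟩ := N.mem_Rj.1 h4
    have h5 := (N.n_inj _ _ _ _ hr).1
    exact (smul_eq_zero.1 h5).resolve_right N.f₀_ne
  rw [hb, zero_mul, sub_zero] at h1
  have ha : a ≠ 0 := left_ne_zero_of_mul_eq_one h1
  have hd : d = a⁻¹ := eq_inv_of_mul_eq_one_right h1
  refine ⟨a, ha, fun s t => ?_, fun x y => ?_⟩
  · rw [h2, hb, hc, hd, zero_smul, zero_smul, add_zero, zero_add]
  · rw [h3, hb, hc, hd, zero_mul, zero_mul, add_zero, zero_add]

/-- the torus of `X` normalising `R i` and `R j` -/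
theorem exists_torus [CharP F 2] (hsi : ∀ a, ∃ b ∈ B i, pp M w u b = a)
    (hsj : ∀ a, ∃ b ∈ B j, pp M u w b = a) {l : F} (hl : l ≠ 0) : ∃ g ∈ B i ⊔ B j,
    (∀ s t, g * N.n s t * g⁻¹ = N.n (l • s) (l⁻¹ • t)) ∧
    ∀ x y : F, g * M.e (x • w + y • u) * g⁻¹ = M.e ((l * x) • w + (l⁻¹ * y) • u) := by
  have wa : ∀ a : F, a ≠ 0 → ∃ g ∈ B i ⊔ B j, ∀ s t, g * N.n s t * g⁻¹ = N.n (a • t) (a⁻¹ • s) := by
    intro a ha
    obtain ⟨b, hb, hba⟩ := hsi a
    obtain ⟨c, hc, hca⟩ := hsj a⁻¹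
    have hb' : b ∈ B i ⊔ B j := (le_sup_left : B i ≤ _) hb
    have hc' : c ∈ B i ⊔ B j := (le_sup_right : B j ≤ _) hc
    refine ⟨b * c * b, mul_mem (mul_mem hb' hc') hb', fun s t => ?_⟩
    have e : b * c * b * N.n s t * (b * c * b)⁻¹ = b * (c * (b * N.n s t * b⁻¹) * c⁻¹) * b⁻¹ := by
      group
    rw [e, N.act₁ b hb, hba, N.act₂ c hc, hca, N.act₁ b hb, hba]
    have h1 : t + t = 0 := N.two_smul_eq_zero t
    have h2 : s + s = 0 := N.two_smul_eq_zero s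
    have e1 : t + a⁻¹ • (s + a • t) = a⁻¹ • s := by
      rw [smul_add, smul_smul, inv_mul_cancel₀ ha, one_smul, add_comm (a⁻¹ • s), ← add_assoc, h1,
        zero_add]
    rw [e1]
    congr 1
    rw [smul_smul, mul_inv_cancel₀ ha, one_smul, add_comm s, add_assoc, h2, add_zero]
  obtain ⟨g, hg, hg'⟩ := wa l hl
  obtain ⟨g', hg1, hg2⟩ := wa 1 one_ne_zero
  have key : ∀ s t, g * g' * N.n s t * (g * g')⁻¹ = N.n (l • s) (l⁻¹ • t) := by
    intro s t
    have e : g * g' * N.n s t * (g * g')⁻¹ = g * (g' * N.n s t * g'⁻¹) * g⁻¹ := by group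
    rw [e, hg2, hg', inv_one, one_smul, one_smul]
  refine ⟨g * g', mul_mem hg hg1, key, fun x y => ?_⟩
  rw [N.e_eq, N.e_eq, key]
  congr 1 <;> module

variable [Finite F]

/-- elements of `C(V)` act `F`-linearly -/
theorem lin [CharP F 2] (s : SideM M B C) {c : G} (hc : ∀ v ∈ V, c * v = v * c) :
    ∃ φ : U →ₗ[F] U, Function.Injective φ ∧ φ N.f₀ = N.f₀ ∧
      ∀ s t, c * N.n s t * c⁻¹ = N.n (φ s) (φ t) := by
  obtain ⟨φ, h1, h2⟩ := N.exists_lin (y := c) (fun b hb => s.pp_conj N.hi N.hwu hc hb)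
    (fun b hb => s.pp_conj N.hj N.huw hc hb) (s.pp_surj N.hi N.hj N.hwu)
  refine ⟨φ, h1, ?_, h2⟩
  have h3 := h2 N.f₀ 0
  have h4 : N.n N.f₀ 0 ∈ V := N.mem_V.2 ⟨1, 0, by rw [one_smul, zero_smul]⟩
  rw [hc _ h4, mul_inv_cancel_right] at h3
  exact ((N.n_inj _ _ _ _ h3).1).symm

/-- `N` is normalised by `X` -/
theorem conj_N {g : G} (hg : g ∈ B i ⊔ B j) (s t : U) : ∃ s' t', g * N.n s t * g⁻¹ = N.n s' t' := by
  obtain ⟨a, b, c, d, -, h2, -⟩ := N.act_X hg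
  exact ⟨_, _, h2 s t⟩

/-- `[X, C(V)] ≤ N` -/
theorem comm_N [CharP F 2] (s : SideM M B C) {g c : G} (hg : g ∈ B i ⊔ B j)
    (hc : ∀ v ∈ V, c * v = v * c) : ∃ s t, g * c * g⁻¹ * c⁻¹ = N.n s t := by
  have hT : ∀ b ∈ B i, ∃ s t, b * c * b⁻¹ * c⁻¹ = N.n s t := by
    intro b hb
    have h1 := s.comm_mem_T' hc hb
    rw [s.mem_T_iff N.hw N.hi N.hwu] at h1
    obtain ⟨x, hx⟩ := (N.mem₁ _).1 h1
    exact ⟨x, 0, hx⟩
  have hT' : ∀ b ∈ B j, ∃ s t, b * c * b⁻¹ * c⁻¹ = N.n s t := by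
    intro b hb
    have h1 := s.comm_mem_T' hc hb
    rw [s.mem_T_iff N.hu N.hj N.huw] at h1
    obtain ⟨x, hx⟩ := (N.mem₂ _).1 h1
    exact ⟨0, x, hx⟩
  rw [Subgroup.sup_eq_closure] at hg
  have hcl : ∀ x, x ∈ Subgroup.closure ((B i : Set G) ∪ (B j : Set G)) → x ∈ B i ⊔ B j := by
    intro x hx
    rwa [Subgroup.sup_eq_closure]
  induction hg using Subgroup.closure_induction with
  | mem x hx =>
    rcases hx with hx | hx
    · exact hT x hx
    · exact hT' x hx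
  | one =>
    refine ⟨0, 0, ?_⟩
    rw [N.n_zero]; group
  | mul x y hx hy h1 h2 =>
    obtain ⟨s1, t1, e1⟩ := h1
    obtain ⟨s2, t2, e2⟩ := h2
    obtain ⟨s3, t3, e3⟩ := N.conj_N (hcl x hx) s2 t2
    refine ⟨s3 + s1, t3 + t1, ?_⟩
    rw [N.n_add, ← e3, ← e2, ← e1]
    group
  | inv x hx h1 =>
    obtain ⟨s1, t1, e1⟩ := h1
    obtain ⟨s3, t3, e3⟩ := N.conj_N (inv_mem (hcl x hx)) (-s1) (-t1)
    refine ⟨s3, t3, ?_⟩
    rw [← e3, ← N.n_inv, ← e1]
    group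

/-- `C i ≤ C j N` -/
theorem C_le [CharP F 2] (s : SideM M B C) {c : G} (hc : c ∈ C i) :
    ∃ c' ∈ C j, ∃ s t, c = N.n s t * c' := by
  obtain ⟨m, hm1, hm2, x, hx, e⟩ := s.trans_B i j
  have hx' : x ∈ B i ⊔ B j := s.B_le N.hij m hx
  have h1 : x * c * x⁻¹ ∈ C j := by
    rw [← s.cC x i j e]
    exact conj_mem_cj hc
  obtain ⟨a, b, hab⟩ := N.comm_N s hx' (s.C_V hc)
  refine ⟨_, h1, -a, -b, ?_⟩
  rw [← N.n_inv, ← hab]
  group

/-- **the function `f` of (8)**: `[b,c] = n(0, p(b) f)` modulo `R j`, for `c ∈ C i`, `b ∈ B j` -/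
theorem exists_f [CharP F 2] (s : SideM M B C) {c : G} (hc : c ∈ C i) :
    ∃ f : U, ∀ b ∈ B j, ∃ r : F, b * c * b⁻¹ * c⁻¹ = N.n 0 (pp M u w b • f + r • N.f₀) := by
  obtain ⟨c', hc', x, t, rfl⟩ := N.C_le s hc
  obtain ⟨φ, -, hφ0, hφ⟩ := N.lin s (s.C_V hc')
  refine ⟨x, fun b hb => ?_⟩
  have h1 : b * c' * b⁻¹ * c'⁻¹ ∈ pt M j := by
    have h2 := inv_mem (s.CB j c' hc' b hb)
    have e : (c' * b * c'⁻¹ * b⁻¹)⁻¹ = b * c' * b⁻¹ * c'⁻¹ := by group
    rwa [e] at h2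
  obtain ⟨r, hr⟩ := N.mem_Rj.1 h1
  refine ⟨r, ?_⟩
  have e : b * (N.n x t * c') * b⁻¹ * (N.n x t * c')⁻¹ =
      (b * N.n x t * b⁻¹) * (b * c' * b⁻¹ * c'⁻¹) * (N.n x t)⁻¹ := by group
  rw [e, N.act₂ b hb, hr, N.n_inv, ← N.n_add, ← N.n_add]
  congr 1 <;> abel

omit [Finite F] in
theorem pp_torus [CharP F 2] {g b : G} (hgV : g ∈ H₀) (hb : b ∈ H₀)
    {l p : F} (hl : l ≠ 0)
    (hg : ∀ x y : F, g * M.e (x • w + y • u) * g⁻¹ = M.e ((l * x) • w + (l⁻¹ * y) • u))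
    (hbp : M.act b w = w + p • u) (hbl : ∀ (c : F) (x : Fin 2 → F), M.act b (c • x) = c • M.act b x) :
    M.act (g * b * g⁻¹) w = w + (l⁻¹ * l⁻¹ * p) • u := by
  have h1 : M.act g⁻¹ w = l⁻¹ • w := by
    have h2 : M.act g (l⁻¹ • w) = w := by
      apply M.e_inj
      rw [M.e_act hgV]
      have := hg l⁻¹ 0
      rw [zero_smul, add_zero, mul_zero, zero_smul, add_zero, mul_inv_cancel₀ hl, one_smul] at this
      exact this
    have h3 := M.act_inv_act hgV (l⁻¹ • w)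
    rw [h2] at h3
    exact h3
  have h4 : M.act g (l⁻¹ • (w + p • u)) = w + (l⁻¹ * l⁻¹ * p) • u := by
    apply M.e_inj
    rw [M.e_act hgV]
    have := hg l⁻¹ (l⁻¹ * p)
    rw [mul_inv_cancel₀ hl, one_smul] at this
    rw [smul_add, smul_smul, this, mul_assoc]
  rw [M.act_mul (mul_mem hgV hb) (inv_mem hgV), M.act_mul hgV hb, h1, hbl, hbp, h4]

end AtV

namespace SideM

variable [Finite F] [CharP F 2] {M : RMod F V H₀} {B C : Pt M → Subgroup G}

/-- **(8)**: for `q ≥ 4`, `[B j, C i] ≤ R j`. -/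
theorem comm_mem_R_of (s : SideM M B C) (hF : ∃ l : F, l ≠ 0 ∧ l ≠ 1)
    (hcen : ∀ i, ∀ f ∈ B i, f ∈ C i → f ∈ pt M i) {i j : Pt M} (hij : i ≠ j) {b c : G}
    (hb : b ∈ B j) (hc : c ∈ C i) : b * c * b⁻¹ * c⁻¹ ∈ pt M j := by
  obtain ⟨w, hw, hi⟩ := i.2
  obtain ⟨u, hu, hj⟩ := j.2
  have hwu : dt w u ≠ 0 := by
    intro h
    apply hij
    apply Subtype.ext
    rw [hi, hj]
    exact ((line_eq_iff_dt M hw hu).2 h).symm
  obtain ⟨U, i1, i2, ⟨N⟩⟩ := s.exists_atV hi hj hwu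
  obtain ⟨l, hl0, hl1⟩ := hF
  obtain ⟨h, hX, hn, he⟩ := N.exists_torus (s.pp_surj hi hj hwu) (s.pp_surj hj hi N.huw) hl0
  obtain ⟨f, hf⟩ := N.exists_f s hc
  -- `h` normalises `V`, `R i`, `R j`
  have hhV : h ∈ H₀ := (sup_le (s.B_N i) (s.B_N j)) hX
  have hhi : cj h (pt M i) = pt M i := by
    show cj h i.1 = i.1
    rw [hi, s.cj_line_eq hhV]
    have : M.act h w = l • w := by
      apply M.e_inj
      rw [M.e_act hhV]
      have := he 1 0
      rwa [one_smul, zero_smul, add_zero, mul_zero, zero_smul, add_zero, mul_one] at this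
    rw [this, M.line_smul hl0]
  have hhj : cj h (pt M j) = pt M j := by
    show cj h j.1 = j.1
    rw [hj, s.cj_line_eq hhV]
    have : M.act h u = l⁻¹ • u := by
      apply M.e_inj
      rw [M.e_act hhV]
      have := he 0 1
      rwa [one_smul, zero_smul, zero_add, mul_zero, zero_smul, zero_add, mul_one] at this
    rw [this, M.line_smul (inv_ne_zero hl0)]
  -- `h c h⁻¹ = v c`
  have hc' : h * c * h⁻¹ ∈ C i := by
    rw [← s.cC h i i hhi]
    exact conj_mem_cj hc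
  obtain ⟨x, t, hxt⟩ := N.comm_N s hX (s.C_V hc)
  have hxtC : N.n x t ∈ C i := by
    rw [← hxt]
    exact mul_mem hc' (inv_mem hc)
  -- an element over `1` in `B i`
  obtain ⟨b₁, hb₁, hb₁1⟩ := s.pp_surj hi hj hwu 1
  have ht : ∃ r : F, t = r • N.f₀ := by
    have h1 := s.CB i _ hxtC b₁ hb₁
    have h2 := inv_mem h1
    have e : (N.n x t * b₁ * (N.n x t)⁻¹ * b₁⁻¹)⁻¹ = b₁ * N.n x t * b₁⁻¹ * (N.n x t)⁻¹ := by group
    rw [e, N.act₁ b₁ hb₁, hb₁1, one_smul, N.n_inv, ← N.n_add] at h2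
    obtain ⟨r, hr⟩ := N.mem_Ri.1 h2
    refine ⟨r, ?_⟩
    have h3 := (N.n_inj _ _ _ _ hr).1
    rw [← h3]; abel
  obtain ⟨r, rfl⟩ := ht
  have hx : ∃ r' : F, x = r' • N.f₀ := by
    have h1 : N.n 0 (r • N.f₀) ∈ C i := s.V_C i (N.mem_V.2 ⟨0, r, by rw [zero_smul]⟩)
    have h2 : N.n x 0 ∈ C i := by
      have h3 := mul_mem hxtC (inv_mem h1)
      rw [N.n_inv, ← N.n_add, neg_zero, add_zero, add_neg_cancel] at h3
      exact h3
    have h3 : N.n x 0 ∈ B i := ((N.mem₁ _).2 ⟨x, rfl⟩).1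
    obtain ⟨r', hr'⟩ := N.mem_Ri.1 (hcen i _ h3 h2)
    exact ⟨r', (N.n_inj _ _ _ _ hr').1⟩
  obtain ⟨r', rfl⟩ := hx
  -- compare `[b',c]` for `b'` over `1` and its conjugate
  obtain ⟨b', hb', hb'1⟩ := s.pp_surj hj hi N.huw 1
  obtain ⟨r1, e1⟩ := hf b' hb'
  have hb'' : h * b' * h⁻¹ ∈ B j := by
    rw [← s.cB h j j hhj]
    exact conj_mem_cj hb'
  have hpp : pp M u w (h * b' * h⁻¹) = l⁻¹ * l⁻¹ * 1 := by
    apply pp_eq M N.huw
    refine N.pp_torus hhV (s.B_N j hb') hl0 he ?_ (fun c x => s.act_smul hu hj hb' c x)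
    rw [s.act_u hj N.huw hb', hb'1]
  obtain ⟨r2, e2⟩ := hf _ hb''
  have hv : ∀ v ∈ V, ∃ r3 : F, (h * b' * h⁻¹) * v * (h * b' * h⁻¹)⁻¹ * v⁻¹ = N.n 0 (r3 • N.f₀) := by
    intro v hv
    have h1 := inv_mem (s.CB j v (s.V_C j hv) _ hb'')
    have e : (v * (h * b' * h⁻¹) * v⁻¹ * (h * b' * h⁻¹)⁻¹)⁻¹ =
      (h * b' * h⁻¹) * v * (h * b' * h⁻¹)⁻¹ * v⁻¹ := by group
    rw [e] at h1
    exact N.mem_Rj.1 h1
  obtain ⟨r3, e3⟩ := hv (N.n (r' • N.f₀) (r • N.f₀)) (N.mem_V.2 ⟨r', r, rfl⟩)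
  -- the main computation
  have e4 : h * (b' * c * b'⁻¹ * c⁻¹) * h⁻¹ =
      N.n 0 (r3 • N.f₀) * N.n 0 ((l⁻¹ * l⁻¹ * 1) • f + r2 • N.f₀) := by
    have h1 : h * c * h⁻¹ = N.n (r' • N.f₀) (r • N.f₀) * c := by
      rw [← hxt]; group
    have h2 : h * (b' * c * b'⁻¹ * c⁻¹) * h⁻¹ =
        (h * b' * h⁻¹) * (h * c * h⁻¹) * (h * b' * h⁻¹)⁻¹ * (h * c * h⁻¹)⁻¹ := by group
    rw [h2, h1]
    have h3 : (h * b' * h⁻¹) * (N.n (r' • N.f₀) (r • N.f₀) * c) * (h * b' * h⁻¹)⁻¹ *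
        (N.n (r' • N.f₀) (r • N.f₀) * c)⁻¹ =
        ((h * b' * h⁻¹) * N.n (r' • N.f₀) (r • N.f₀) * (h * b' * h⁻¹)⁻¹ *
          (N.n (r' • N.f₀) (r • N.f₀))⁻¹) *
        (N.n (r' • N.f₀) (r • N.f₀) * ((h * b' * h⁻¹) * c * (h * b' * h⁻¹)⁻¹ * c⁻¹) *
          (N.n (r' • N.f₀) (r • N.f₀))⁻¹) := by group
    rw [h3, e3, e2, hpp]
    congr 1
    rw [N.n_comm, mul_inv_cancel_right]
  rw [e1, hb'1, one_smul, hn, smul_zero, ← N.n_add, add_zero] at e4
  have e5 := (N.n_inj _ _ _ _ e4).2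
  -- `f ∈ F f₀`
  have hff : ∃ r4 : F, f = r4 • N.f₀ := by
    have h1 : (l⁻¹ - l⁻¹ * l⁻¹) • f = (r3 + r2 - l⁻¹ * r1) • N.f₀ := by
      have h2 : l⁻¹ • (f + r1 • N.f₀) - (l⁻¹ * l⁻¹ * 1) • f - l⁻¹ • (r1 • N.f₀) =
          (l⁻¹ - l⁻¹ * l⁻¹) • f := by module
      rw [← h2, e5]
      module
    have h3 : l⁻¹ - l⁻¹ * l⁻¹ ≠ 0 := by
      intro h4
      have h5 : l⁻¹ * (1 - l⁻¹) = 0 := by rw [mul_sub, mul_one]; exact h4
      rcases mul_eq_zero.1 h5 with h6 | h6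
      · exact hl0 (inv_eq_zero.1 h6)
      · exact hl1 (inv_eq_one.1 (sub_eq_zero.1 h6).symm)
    refine ⟨(l⁻¹ - l⁻¹ * l⁻¹)⁻¹ * (r3 + r2 - l⁻¹ * r1), ?_⟩
    rw [mul_smul, ← h1, smul_smul, inv_mul_cancel₀ h3, one_smul]
  obtain ⟨r4, rfl⟩ := hff
  obtain ⟨r5, e6⟩ := hf b hb
  rw [e6]
  refine N.mem_Rj.2 ⟨pp M u w b * r4 + r5, ?_⟩
  rw [add_smul, mul_smul]

/-- **(8)**: for `q ≥ 4`, `W₁(R i)` is the same for all points `R i` of `V`. -/
theorem C_eq_of_cen [Finite G] (s : SideM M B C) (hF : ∃ l : F, l ≠ 0 ∧ l ≠ 1)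
    (hcen : ∀ i, ∀ f ∈ B i, f ∈ C i → f ∈ pt M i) (i j : Pt M) : C i = C j := by
  obtain ⟨m, hm1, hm2, x, hx, e⟩ := s.trans_B i j
  have h1 : C j ≤ C i := by
    rw [← s.cC x i j e, cj_le_iff]
    intro c hc
    have h2 := s.comm_mem_R_of hF hcen (Ne.symm hm1) hx hc
    have h3 := mul_mem (s.V_C i (s.R_V m h2)) hc
    have e2 : x * c * x⁻¹ * c⁻¹ * c = x * c * x⁻¹ := by group
    rwa [e2] at h3
  have h2 : Nat.card (C i) = Nat.card (C j) := by
    rw [← s.cC x i j e, card_cj]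
  exact (Subgroup.eq_of_le_of_card_ge h1 h2.le).symm

end SideM

end Cfsg.Agent.Omega.Mix
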