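import Cfsg.Agent.Omega.Mix.Lines

/-!
# TEXT MIX (6), (7) (bb OMEGA #12374): one field on `R`, duality of `W₁ / R` and `W₂ / R`, all points are lines

`W₁ = LL V₁ R R`, `W₂ = LL V₂ R R` abelian, `C_G(W₁W₂) = R`.

* `FIn.lin₁`, `FIn.lin₂` : `F₁` acts on `W₁ / R` and on `W₂ / R` such that the commutator is bilinear;
* `FIn.mem_W` : `C_H(W / R) = W` in the form `ZZ ∩ ZZ ≤ W₁W₂`; `FIn.Q_eq`; `FIn.cen_W₁` : `C_G(W₁) = W₁`;
* `FIn.perp` : `C_{W₁}(C_{W₂}(V₁)) = V₁`;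
* `FIn.tv` : `[a, T_j] = R_j` for `a ∈ W₁ - V₁`; `FIn.cover` : `W₁` is the union of the lines `V₁^h`, `h ∈ N(R)`.
-/

set_option autoImplicit false
set_option linter.unusedSectionVars false

namespace Cfsg.Agent.Omega.Mix

open Subgroup Cfsg.Agent.Lib.SL2Mat Cfsg.Agent.Omega.BTwo
open Cfsg.Agent.Omega.NatPair (dt dt_smul exists_smul_of_dt exists_comb ap ap_smul ap_zero' ap_one' ap_mul
  ap_inv_ap ap_ap_inv ap_one)

variable {G : Type*} [Group G]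

/-- the point `R` of `V` as an index -/
def pt₀ {F : Type*} [Field F] {V N : Subgroup G} (M : RMod F V N) {w : Fin 2 → F} (hw : w ≠ 0) {R : Subgroup G}
    (hR : R = M.line w) : Pt M := ⟨R, w, hw, hR⟩

theorem not_le_line {F : Type*} [Field F] {V N : Subgroup G} (M : RMod F V N) {w : Fin 2 → F} (hw : w ≠ 0) :
    ¬ V ≤ M.line w := by
  intro h
  obtain ⟨u, hu⟩ := exists_dt hw
  obtain ⟨c, hc⟩ := M.e_mem_line.1 (h (M.e_mem u))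
  rw [hc, dt_smul, dt_self, mul_zero] at hu
  exact hu rfl

/-- the input of (6), (7) -/
structure FIn {F₁ F₂ : Type*} [Field F₁] [Field F₂] {V₁ V₂ N₁ N₂ : Subgroup G} (M₁ : RMod F₁ V₁ N₁)
    (M₂ : RMod F₂ V₂ N₂)
    (R : Subgroup G) (w₁ : Fin 2 → F₁) (w₂ : Fin 2 → F₂) : Prop where
  ne₁ : w₁ ≠ 0
  ne₂ : w₂ ≠ 0
  line₁ : R = M₁.line w₁
  line₂ : R = M₂.line w₂
  Q₁ : QQ R ≤ M₁.UW w₁
  Q₂ : QQ R ≤ M₂.UW w₂
  VQ₁ : V₁ ≤ QQ R
  VQ₂ : V₂ ≤ QQ R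
  comm₁ : ∀ a ∈ LL V₁ R R, ∀ b ∈ LL V₁ R R, a * b = b * a
  comm₂ : ∀ a ∈ LL V₂ R R, ∀ b ∈ LL V₂ R R, a * b = b * a
  cen : centralizer ((LL V₁ R R ⊔ LL V₂ R R : Subgroup G) : Set G) ≤ R
  side₁ : SideM M₁ (fun i => LL V₂ R (pt M₁ i)) (fun i => LL V₁ R (pt M₁ i))
  side₂ : SideM M₂ (fun i => LL V₁ R (pt M₂ i)) (fun i => LL V₂ R (pt M₂ i))

/-- coordinates on `R` -/
def kap {F : Type*} [Field F] {V N : Subgroup G} (M : RMod F V N) (w : Fin 2 → F) (c : F) : G := M.e (c • w)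

theorem mem_cen_sup {A B : Subgroup G} {g : G} (h1 : ∀ a ∈ A, g * a = a * g) (h2 : ∀ b ∈ B, g * b = b * g) :
    g ∈ centralizer ((A ⊔ B : Subgroup G) : Set G) := by
  have : (A ⊔ B : Subgroup G) ≤ centralizer ({g} : Set G) := by
    refine sup_le ?_ ?_
    · intro a ha
      rw [mem_centralizer_iff]
      intro z hz
      rw [Set.mem_singleton_iff.1 hz]
      exact h1 a ha
    · intro a ha
      rw [mem_centralizer_iff]
      intro z hz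
      rw [Set.mem_singleton_iff.1 hz]
      exact h2 a ha
  rw [mem_centralizer_iff]
  intro x hx
  exact (mem_centralizer_iff.1 (this hx) g rfl).symm

namespace FIn

variable {F₁ F₂ : Type*} [Field F₁] [Field F₂] {V₁ V₂ N₁ N₂ : Subgroup G} {M₁ : RMod F₁ V₁ N₁} {M₂ : RMod F₂ V₂ N₂}
  {R : Subgroup G} {w₁ : Fin 2 → F₁} {w₂ : Fin 2 → F₂} (f : FIn M₁ M₂ R w₁ w₂)
include f

theorem symm : FIn M₂ M₁ R w₂ w₁ where
  ne₁ := f.ne₂
  ne₂ := f.ne₁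
  line₁ := f.line₂
  line₂ := f.line₁
  Q₁ := f.Q₂
  Q₂ := f.Q₁
  VQ₁ := f.VQ₂
  VQ₂ := f.VQ₁
  comm₁ := f.comm₂
  comm₂ := f.comm₁
  cen := by rw [sup_comm]; exact f.cen
  side₁ := f.side₂
  side₂ := f.side₁

theorem R_V₁ : R ≤ V₁ := by
  rw [f.line₁]
  exact M₁.line_le w₁

theorem R_W₁ : R ≤ LL V₁ R R := f.R_V₁.trans (V_le_LL V₁ R)

theorem W₁_Q : LL V₁ R R ≤ QQ R := by
  refine LL_le fun g hg => ?_
  rw [cj_le_iff]
  intro x hx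
  exact conj_mem_of_normalizer (le_normalizer_O2 _ (cj_eq_self_iff.1 hg)) (f.VQ₁ hx)

theorem U₁ : LL V₂ R R ≤ M₁.UW w₁ := f.symm.W₁_Q.trans f.Q₁

theorem Q_ZZ : (QQ R : Set G) ⊆ ZZ M₁ w₁ R := by
  intro g hg h hh
  exact f.Q₁ (conj_inv_mem_of_normalizer (le_normalizer_O2 _ hh) hg)

/-- `W₂ ⊆ ZZ M₁` -/
theorem W₂_ZZ : (LL V₂ R R : Set G) ⊆ ZZ M₁ w₁ R := fun _ hg => f.Q_ZZ (f.symm.W₁_Q hg)

/-- `W₁ ⊆ ZZ M₁` -/
theorem W₁_ZZ : (LL V₁ R R : Set G) ⊆ ZZ M₁ w₁ R := fun _ hg => f.Q_ZZ (f.W₁_Q hg)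

theorem pai : Pai (kap M₁ w₁) (LL V₁ R R) (LL V₂ R R) R where
  κ_add := fun c d => by
    show M₁.e ((c + d) • w₁) = M₁.e (c • w₁) * M₁.e (d • w₁)
    rw [add_smul, M₁.e_add]
  κ_inj := fun c d h => smul_left_injective F₁ f.ne₁ (M₁.e_inj h)
  κ_mem := fun g => by
    have h1 : g ∈ R ↔ g ∈ M₁.line w₁ := by rw [← f.line₁]
    exact h1
  comm := f.comm₁
  comm' := f.comm₂
  R_le := f.R_W₁
  R_le' := f.symm.R_W₁
  cm := fun a ha b hb => (ZZ_tst M₁ f.ne₁ f.line₁ f.comm₁ (f.W₂_ZZ hb)).cm a ha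
  nd := fun a ha h => f.cen (mem_cen_sup (fun b hb => f.comm₁ a ha b hb) h)
  nd' := fun b hb h => f.cen (mem_cen_sup (fun a ha => (h a ha).symm) (fun c hc => f.comm₂ b hb c hc))

theorem tst₁ {g : G} (hg : g ∈ ZZ M₁ w₁ R) : Tst (LL V₁ R R) R g := ZZ_tst M₁ f.ne₁ f.line₁ f.comm₁ hg

/-- `V₁` and a line of type 1 have a common non-commuting line of type 2 -/
theorem common [Finite G] {h : G} (hh : h ∈ normalizer (R : Set G)) :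
    ∃ g ∈ normalizer (R : Set G), (∃ a ∈ V₁, ∃ b ∈ cj g V₂, a * b ≠ b * a) ∧
      ∃ a ∈ cj h V₁, ∃ b ∈ cj g V₂, a * b ≠ b * a := by
  by_contra hc
  push Not at hc
  have p := f.pai
  set i₀ : Pt M₁ := pt₀ M₁ f.ne₁ f.line₁ with hi₀
  have hRi : pt M₁ i₀ = R := rfl
  obtain ⟨j, hj, -⟩ := f.side₁.third i₀ i₀
  -- a line of type 2 not commuting with `V₁`
  obtain ⟨g₀, hg₀, v₀, hv₀, b₀, hb₀, hne⟩ : ∃ g ∈ normalizer (R : Set G), ∃ a ∈ V₁, ∃ b ∈ cj g V₂, a * b ≠ b * a := by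
    by_contra hc2
    push Not at hc2
    have h1 : V₁ ≤ R := by
      intro v hv
      refine p.nd v (V_le_LL V₁ R hv) ?_
      have h2 : LL V₂ R R ≤ centralizer ({v} : Set G) := by
        refine LL_le fun g hg b hb => ?_
        rw [mem_centralizer_iff]
        intro z hz
        rw [Set.mem_singleton_iff.1 hz]
        exact hc2 g (cj_eq_self_iff.1 hg) v hv b hb
      intro b hb
      exact mem_centralizer_iff.1 (h2 hb) v rfl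
    rw [f.line₁] at h1
    exact not_le_line M₁ f.ne₁ h1
  have hb₀W : b₀ ∈ LL V₂ R R := cj_le_LL (cj_eq_self_iff.2 hg₀) hb₀
  have hb₀V : ¬ ∀ v ∈ V₁, b₀ * v = v * b₀ := fun h1 => hne (h1 v₀ hv₀).symm
  have h2 : ∀ u ∈ TT V₁ (LL V₂ R R), ∀ a ∈ cj h V₁, a * u = u * a := by
    intro u hu a ha
    obtain ⟨t, ht, rfl⟩ := f.side₁.surj (i := i₀) (j := j) (Ne.symm hj) hb₀W hb₀V hu
    have htN : t ∈ normalizer (R : Set G) := f.side₁.cV_le_NR (mem_TT.1 ht).2 i₀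
    have h3 := hc g₀ hg₀ ⟨v₀, hv₀, b₀, hb₀, hne⟩ a ha b₀ hb₀
    have h4 := hc (t * g₀) (mul_mem htN hg₀) ⟨v₀, hv₀, t * b₀ * t⁻¹, by rw [cj_mul]; exact conj_mem_cj hb₀, by
      intro h5
      apply hne
      have h6 := (mem_TT.1 ht).2 v₀ hv₀
      have h7 : t * (v₀ * b₀) * t⁻¹ = t * (b₀ * v₀) * t⁻¹ := by
        calc t * (v₀ * b₀) * t⁻¹ = (t * v₀) * b₀ * t⁻¹ := by group
          _ = (v₀ * t) * b₀ * t⁻¹ := by rw [h6]
          _ = v₀ * (t * b₀ * t⁻¹) := by group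
          _ = t * b₀ * t⁻¹ * v₀ := h5
          _ = t * b₀ * t⁻¹ * (v₀ * t) * t⁻¹ := by group
          _ = t * b₀ * t⁻¹ * (t * v₀) * t⁻¹ := by rw [h6]
          _ = t * (b₀ * v₀) * t⁻¹ := by group
      exact mul_left_cancel (mul_right_cancel h7)⟩ a ha (t * b₀ * t⁻¹) (by rw [cj_mul]; exact conj_mem_cj hb₀)
    have h5 : a * (t * b₀ * t⁻¹)⁻¹ = (t * b₀ * t⁻¹)⁻¹ * a := by
      calc a * (t * b₀ * t⁻¹)⁻¹ = (t * b₀ * t⁻¹)⁻¹ * (t * b₀ * t⁻¹ * a) * (t * b₀ * t⁻¹)⁻¹ := by group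
        _ = (t * b₀ * t⁻¹)⁻¹ * (a * (t * b₀ * t⁻¹)) * (t * b₀ * t⁻¹)⁻¹ := by rw [h4]
        _ = (t * b₀ * t⁻¹)⁻¹ * a := by group
    have e : b₀ * t * b₀⁻¹ * t⁻¹ = b₀ * (t * b₀ * t⁻¹)⁻¹ := by group
    rw [e]
    generalize (t * b₀ * t⁻¹)⁻¹ = z at h5 ⊢
    rw [← mul_assoc, h3, mul_assoc, h5, mul_assoc]
  have h3 : cj h V₁ ≤ R := by
    intro a ha
    refine p.nd a (cj_le_LL (cj_eq_self_iff.2 hh) ha) ?_
    have h4 : LL V₂ R R ≤ centralizer ({a} : Set G) := by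
      refine LL_le fun g hg b hb => ?_
      rw [mem_centralizer_iff]
      intro z hz
      rw [Set.mem_singleton_iff.1 hz]
      by_cases hgV : ∃ a ∈ V₁, ∃ b ∈ cj g V₂, a * b ≠ b * a
      · exact hc g (cj_eq_self_iff.1 hg) hgV a ha b hb
      · push Not at hgV
        exact h2 b (mem_TT.2 ⟨cj_le_LL hg hb, fun v hv => (hgV v hv b hb).symm⟩) a ha
    intro b hb
    exact mem_centralizer_iff.1 (h4 hb) a rfl
  have h4 : V₁ ≤ R := by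
    have h5 := cj_mono (g := h⁻¹) h3
    rwa [cj_inv_cj, cj_eq_self_iff.2 (inv_mem hh)] at h5
  rw [f.line₁] at h4
  exact not_le_line M₁ f.ne₁ h4

theorem line₂_of [Finite G] {g : G} (hg : g ∈ normalizer (R : Set G)) (hne : ∃ a ∈ V₁, ∃ b ∈ cj g V₂, a * b ≠ b * a) :
    Lin (kap M₁ w₁) (ZZ M₂ w₂ R) (cj g V₂) := by
  have hne' : ∃ a ∈ V₁, ∃ b ∈ cj g V₂, a * b ≠ b * a := hne
  exact f.pai.lin_of f.W₂_ZZ f.symm.W₂_ZZ (V_le_LL V₁ R) (lin_base M₁ f.ne₁ f.line₁ f.pai)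
    (ln M₂ f.ne₂ f.line₂ f.pai.symm f.symm.W₂_ZZ hg) hne'

/-- **(6), one field**: `F₁` acts on the lines of type 1 -/
theorem line₁_lin [Finite G] {h : G} (hh : h ∈ normalizer (R : Set G)) : Lin (kap M₁ w₁) (ZZ M₁ w₁ R) (cj h V₁) := by
  obtain ⟨g, hg, h1, a, ha, b, hb, hne⟩ := f.common hh
  have h2 := f.line₂_of hg h1
  exact f.pai.symm.lin_of f.symm.W₂_ZZ f.W₂_ZZ (cj_le_LL (cj_eq_self_iff.2 hg)) h2
    (ln M₁ f.ne₁ f.line₁ f.pai f.W₂_ZZ hh) ⟨b, hb, a, ha, fun h3 => hne h3.symm⟩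

/-- `F₁` acts on the lines of type 2 -/
theorem line₂_lin [Finite G] {g : G} (hg : g ∈ normalizer (R : Set G)) : Lin (kap M₁ w₁) (ZZ M₂ w₂ R) (cj g V₂) := by
  have p := f.pai
  obtain ⟨h, hh, a, ha, b, hb, hne⟩ : ∃ h ∈ normalizer (R : Set G), ∃ a ∈ cj h V₁, ∃ b ∈ cj g V₂, a * b ≠ b * a := by
    by_contra hc2
    push Not at hc2
    have h1 : cj g V₂ ≤ R := by
      intro v hv
      refine p.nd' v (cj_le_LL (cj_eq_self_iff.2 hg) hv) ?_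
      have h2 : LL V₁ R R ≤ centralizer ({v} : Set G) := by
        refine LL_le fun h hh b hb => ?_
        rw [mem_centralizer_iff]
        intro z hz
        rw [Set.mem_singleton_iff.1 hz]
        exact (hc2 h (cj_eq_self_iff.1 hh) b hb v hv).symm
      intro b hb
      exact (mem_centralizer_iff.1 (h2 hb) v rfl).symm
    have h4 : V₂ ≤ R := by
      have h5 := cj_mono (g := g⁻¹) h1
      rwa [cj_inv_cj, cj_eq_self_iff.2 (inv_mem hg)] at h5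
    rw [f.line₂] at h4
    exact not_le_line M₂ f.ne₂ h4
  exact p.lin_of f.W₂_ZZ f.symm.W₂_ZZ (cj_le_LL (cj_eq_self_iff.2 hh)) (f.line₁_lin hh)
    (ln M₂ f.ne₂ f.line₂ p.symm f.symm.W₂_ZZ hg) ⟨a, ha, b, hb, hne⟩

/-- `F₁` acts on `W₁ / R` -/
theorem lin₁ [Finite G] : Lin (kap M₁ w₁) (ZZ M₁ w₁ R) (LL V₁ R R) :=
  f.pai.lin_iSup (fun _ hb => f.tst₁ hb) (l := fun g : {g : G // cj g R = R} => cj (g : G) V₁)
    (fun g => cj_le_LL g.2) fun g => f.line₁_lin (cj_eq_self_iff.1 g.2)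

/-- `F₁` acts on `W₂ / R` -/
theorem lin₂ [Finite G] : Lin (kap M₁ w₁) (ZZ M₂ w₂ R) (LL V₂ R R) :=
  f.pai.symm.lin_iSup (fun _ hb => f.symm.tst₁ hb) (l := fun g : {g : G // cj g R = R} => cj (g : G) V₂)
    (fun g => cj_le_LL g.2) fun g => f.line₂_lin (cj_eq_self_iff.1 g.2)

/-- **(6)** `C_H(W / R) = W` -/
theorem mem_W [Finite G] {g : G} (h1 : g ∈ ZZ M₁ w₁ R) (h2 : g ∈ ZZ M₂ w₂ R) : g ∈ LL V₁ R R ⊔ LL V₂ R R := by
  have p := f.pai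
  obtain ⟨b, hb, hgb⟩ := p.exists_mem f.W₂_ZZ f.symm.W₂_ZZ (fun _ h => f.tst₁ h) f.lin₁ f.lin₂ h1
  have h3 : g * b⁻¹ ∈ ZZ M₂ w₂ R := by
    intro h hh
    have e : h⁻¹ * (g * b⁻¹) * h = (h⁻¹ * g * h) * (h⁻¹ * b * h)⁻¹ := by group
    rw [e]
    exact mul_mem (h2 h hh) (inv_mem (f.symm.W₁_ZZ hb h hh))
  obtain ⟨a, ha, hga⟩ := p.symm.exists_mem f.symm.W₂_ZZ f.W₂_ZZ (fun _ h => f.symm.tst₁ h) f.lin₂ f.lin₁ h3
  have h4 : g * b⁻¹ * a⁻¹ ∈ R := by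
    refine f.cen (mem_cen_sup ?_ hga)
    intro x hx
    have h5 := f.comm₁ _ (inv_mem ha) x hx
    rw [mul_assoc, h5, ← mul_assoc, hgb x hx, mul_assoc]
  have h5 : g * b⁻¹ * a⁻¹ * (a * b) ∈ LL V₁ R R ⊔ LL V₂ R R :=
    mul_mem (mem_sup_left (f.R_W₁ h4)) (mul_mem (mem_sup_left ha) (mem_sup_right hb))
  have e : g * b⁻¹ * a⁻¹ * (a * b) = g := by group
  rwa [e] at h5

end FIn

/-- `C(R) ∩ C(W₁ / R) ∩ C(W₂ / R)` -/
def Gam (R W W' : Subgroup G) : Subgroup G where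
  carrier := {g | g ∈ normalizer (R : Set G) ∧ (∀ r ∈ R, g * r = r * g) ∧ (∀ a ∈ W, g * a * g⁻¹ * a⁻¹ ∈ R) ∧
    ∀ a ∈ W', g * a * g⁻¹ * a⁻¹ ∈ R}
  one_mem' := by
    refine ⟨one_mem _, fun r _ => by rw [one_mul, mul_one], fun a _ => ?_, fun a _ => ?_⟩ <;>
    · have e : 1 * a * 1⁻¹ * a⁻¹ = 1 := by group
      rw [e]; exact one_mem _
  mul_mem' := by
    rintro g h ⟨g1, g2, g3, g4⟩ ⟨h1, h2, h3, h4⟩
    have key : ∀ a : G, g * a * g⁻¹ * a⁻¹ ∈ R → h * a * h⁻¹ * a⁻¹ ∈ R → g * h * a * (g * h)⁻¹ * a⁻¹ ∈ R := by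
      intro a h5 h6
      have e : g * h * a * (g * h)⁻¹ * a⁻¹ = g * (h * a * h⁻¹ * a⁻¹) * g⁻¹ * (g * a * g⁻¹ * a⁻¹) := by group
      rw [e]
      exact mul_mem (conj_mem_of_normalizer g1 h6) h5
    refine ⟨mul_mem g1 h1, fun r hr => ?_, fun a ha => key a (g3 a ha) (h3 a ha), fun a ha => key a (g4 a ha) (h4 a ha)⟩
    rw [mul_assoc, h2 r hr, ← mul_assoc, g2 r hr, mul_assoc]
  inv_mem' := by
    rintro g ⟨g1, g2, g3, g4⟩
    have key : ∀ a : G, g * a * g⁻¹ * a⁻¹ ∈ R → g⁻¹ * a * g⁻¹⁻¹ * a⁻¹ ∈ R := by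
      intro a h5
      have h6 := conj_inv_mem_of_normalizer g1 (inv_mem h5)
      have e : g⁻¹ * (g * a * g⁻¹ * a⁻¹)⁻¹ * g = g⁻¹ * a * g⁻¹⁻¹ * a⁻¹ := by group
      rwa [e] at h6
    refine ⟨inv_mem g1, fun r hr => ?_, fun a ha => key a (g3 a ha), fun a ha => key a (g4 a ha)⟩
    have h := g2 r hr
    calc g⁻¹ * r = g⁻¹ * (r * g) * g⁻¹ := by group
      _ = g⁻¹ * (g * r) * g⁻¹ := by rw [h]
      _ = r * g⁻¹ := by group

namespace FIn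

variable {F₁ F₂ : Type*} [Field F₁] [Field F₂] {V₁ V₂ N₁ N₂ : Subgroup G} {M₁ : RMod F₁ V₁ N₁} {M₂ : RMod F₂ V₂ N₂}
  {R : Subgroup G} {w₁ : Fin 2 → F₁} {w₂ : Fin 2 → F₂} (f : FIn M₁ M₂ R w₁ w₂) [Finite G]
include f

omit [Finite G] in
theorem R_sq {r : G} (hr : r ∈ R) : r * r = 1 := f.side₁.C_sq (pt₀ M₁ f.ne₁ f.line₁) r (f.R_W₁ hr)

omit [Finite G] in
theorem Gam_isPGroup : IsPGroup 2 (Gam R (LL V₁ R R) (LL V₂ R R)) := by
  have p := f.pai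
  rintro ⟨g, g1, g2, g3, g4⟩
  have key : ∀ W : Subgroup G, (∀ a ∈ W, g * a * g⁻¹ * a⁻¹ ∈ R) → ∀ a ∈ W, g * g * a = a * (g * g) := by
    intro W hW a ha
    have h1 := hW a ha
    set r := g * a * g⁻¹ * a⁻¹ with hr
    have h2 : g * a * g⁻¹ = r * a := by rw [hr]; group
    have h3 := g2 r h1
    have h4 := f.R_sq h1
    calc g * g * a = g * (g * a * g⁻¹) * g := by group
      _ = g * (r * a) * g := by rw [h2]
      _ = (g * r) * a * g := by group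
      _ = (r * g) * a * g := by rw [h3]
      _ = r * (g * a * g⁻¹) * (g * g) := by group
      _ = r * (r * a) * (g * g) := by rw [h2]
      _ = (r * r) * a * (g * g) := by group
      _ = a * (g * g) := by rw [h4, one_mul]
  have h1 : g * g ∈ R := f.cen (mem_cen_sup (key _ g3) (key _ g4))
  refine ⟨2, Subtype.ext ?_⟩
  calc g ^ (2 + 2) = g * g * (g * g) := by rw [pow_add, pow_two]
    _ = 1 := f.R_sq h1

/-- `C(R) ∩ C(W₁ / R) ∩ C(W₂ / R) ≤ O₂(N(R))` -/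
theorem Gam_le : Gam R (LL V₁ R R) (LL V₂ R R) ≤ QQ R := by
  refine le_O2_of_normal (fun g hg => hg.1) f.Gam_isPGroup ?_
  rintro x hx g ⟨g1, g2, g3, g4⟩
  have key : ∀ V : Subgroup G, (∀ a ∈ LL V R R, g * a * g⁻¹ * a⁻¹ ∈ R) →
      ∀ a ∈ LL V R R, x * g * x⁻¹ * a * (x * g * x⁻¹)⁻¹ * a⁻¹ ∈ R := by
    intro V hV a ha
    have h1 := hV _ (conj_inv_mem_of_normalizer (normalizer_le_LL V R R hx) ha)
    have h2 := conj_mem_of_normalizer hx h1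
    have e : x * (g * (x⁻¹ * a * x) * g⁻¹ * (x⁻¹ * a * x)⁻¹) * x⁻¹ = x * g * x⁻¹ * a * (x * g * x⁻¹)⁻¹ * a⁻¹ := by
      group
    rwa [e] at h2
  refine ⟨mul_mem (mul_mem hx g1) (inv_mem hx), fun r hr => ?_, key V₁ g3, key V₂ g4⟩
  have h1 := g2 _ (conj_inv_mem_of_normalizer hx hr)
  calc x * g * x⁻¹ * r = x * (g * (x⁻¹ * r * x)) * x⁻¹ := by group
    _ = x * (x⁻¹ * r * x * g) * x⁻¹ := by rw [h1]
    _ = r * (x * g * x⁻¹) := by group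

/-- **(6)** `C_H(W / R) = W` -/
theorem mem_W_of {g : G} (h1 : ∀ a ∈ LL V₁ R R, g * a * g⁻¹ * a⁻¹ ∈ R) (h2 : ∀ a ∈ LL V₂ R R, g * a * g⁻¹ * a⁻¹ ∈ R)
    (h3 : ∀ r ∈ R, g * r = r * g) : g ∈ LL V₁ R R ⊔ LL V₂ R R := by
  have hg : g ∈ normalizer (R : Set G) := by
    refine mem_normalizer_of_conj fun r hr => ?_
    rw [h3 r hr, mul_inv_cancel_right]; exact hr
  have h4 : g ∈ QQ R := f.Gam_le ⟨hg, h3, h1, h2⟩
  exact f.mem_W (f.Q_ZZ h4) (f.symm.Q_ZZ h4)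

/-- **`O₂(N(R)) = W₁W₂`** -/
theorem Q_eq : QQ R = LL V₁ R R ⊔ LL V₂ R R :=
  le_antisymm (fun _ hg => f.mem_W (f.Q_ZZ hg) (f.symm.Q_ZZ hg)) (sup_le f.W₁_Q f.symm.W₁_Q)

/-- **`C_G(W₁) = W₁`** -/
theorem cen_W₁ : centralizer (LL V₁ R R : Set G) ≤ LL V₁ R R := by
  intro g hg
  have p := f.pai
  have h1 : ∀ a ∈ LL V₁ R R, g * a = a * g := fun a ha => (mem_centralizer_iff.1 hg a ha).symm
  have h2 : ∀ r ∈ R, g * r = r * g := fun r hr => h1 r (f.R_W₁ hr)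
  have h3 : g ∈ normalizer (R : Set G) := by
    refine mem_normalizer_of_conj fun r hr => ?_
    rw [h2 r hr, mul_inv_cancel_right]; exact hr
  have h4 : ∀ b ∈ LL V₂ R R, g * b * g⁻¹ * b⁻¹ ∈ R := by
    intro b hb
    have h5 : g * b * g⁻¹ * b⁻¹ ∈ LL V₂ R R :=
      mul_mem (conj_mem_of_normalizer (normalizer_le_LL V₂ R R h3) hb) (inv_mem hb)
    refine p.nd' _ h5 fun a ha => ?_
    have hbN : b ∈ normalizer (R : Set G) := by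
      refine mem_normalizer_of_conj fun r hr => ?_
      rw [← p.R_comm' hr hb, mul_inv_cancel_right]; exact hr
    have h6 : b * g⁻¹ * b⁻¹ ∈ centralizer (LL V₁ R R : Set G) :=
      conj_mem_of_normalizer (normalizer_le_normalizer_centralizer _ (normalizer_le_LL V₁ R R hbN)) (inv_mem hg)
    have h7 : g * (b * g⁻¹ * b⁻¹) ∈ centralizer (LL V₁ R R : Set G) := mul_mem hg h6
    have e : g * b * g⁻¹ * b⁻¹ = g * (b * g⁻¹ * b⁻¹) := by group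
    rw [e]
    exact mem_centralizer_iff.1 h7 a ha
  have h5 := f.mem_W_of (fun a ha => by rw [h1 a ha, mul_inv_cancel_right, mul_inv_cancel]; exact one_mem _) h4 h2
  -- `g = a b`
  have hn : LL V₁ R R ≤ normalizer (LL V₂ R R : Set G) := by
    intro a ha
    apply normalizer_le_LL V₂ R R
    refine mem_normalizer_of_conj fun r hr => ?_
    rw [← p.R_comm hr ha, mul_inv_cancel_right]; exact hr
  obtain ⟨a, ha, b, hb, rfl⟩ : ∃ a ∈ LL V₁ R R, ∃ b ∈ LL V₂ R R, a * b = g := by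
    have h6 : g ∈ (((LL V₁ R R ⊔ LL V₂ R R : Subgroup G)) : Set G) := h5
    rw [coe_mul_of_left_le_normalizer_right _ _ hn] at h6
    exact Set.mem_mul.1 h6
  have hbR : b ∈ R := by
    refine p.nd' b hb fun x hx => ?_
    have h7 := h1 x hx
    have h8 := f.comm₁ a ha x hx
    have h9 : a * (b * x) = a * (x * b) := by
      calc a * (b * x) = a * b * x := by group
        _ = x * (a * b) := h7
        _ = (a * x) * b := by rw [h8]; group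
        _ = a * (x * b) := by group
    exact (mul_left_cancel h9).symm
  exact mul_mem ha (f.R_W₁ hbR)

end FIn

/-! ### (7) -/

namespace Side

variable {ι : Type*} {V : Subgroup G} {R B C : ι → Subgroup G} (s : Side V R B C)
include s

theorem CB' {i : ι} {b c : G} (hb : b ∈ B i) (hc : c ∈ C i) : b * c * b⁻¹ * c⁻¹ ∈ R i := by
  have := inv_mem (s.CB i c hc b hb)
  have e : (c * b * c⁻¹ * b⁻¹)⁻¹ = b * c * b⁻¹ * c⁻¹ := by group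
  rwa [e] at this

/-- an element of `B i` outside `C(V)` maps `R j` onto `R i` -/
theorem surjR [Finite G] {i j : ι} (hij : i ≠ j) {b : G} (hb : b ∈ B i) (hbV : ¬ ∀ v ∈ V, b * v = v * b) {u : G}
    (hu : u ∈ R i) : ∃ r ∈ R j, b * r * b⁻¹ * r⁻¹ = u := by
  let g : R j → R i := fun r => ⟨b * r * b⁻¹ * (r : G)⁻¹, s.CB' hb (s.V_C i (s.R_V j r.2))⟩
  have hg : Function.Injective g := by
    intro x y hxy
    have h1 : b * (x : G) * b⁻¹ * (x : G)⁻¹ = b * (y : G) * b⁻¹ * (y : G)⁻¹ := congrArg Subtype.val hxy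
    have h2 : b * ((y : G)⁻¹ * x) = (y : G)⁻¹ * x * b := comm_of_comm_eq h1
    have h4 := s.inj hij hb hbV (mul_mem (inv_mem (s.R_B j y.2)) (s.R_B j x.2)) h2
    exact Subtype.ext (inv_mul_eq_one.1 h4).symm
  have hc : Nat.card (R j) = Nat.card (R i) := by
    obtain ⟨m, -, -, x, hx, e⟩ := s.trans_B j i
    rw [← e, card_cj]
  obtain ⟨r, hr⟩ := ((Nat.bijective_iff_injective_and_card g).2 ⟨hg, hc⟩).2 ⟨u, hu⟩
  exact ⟨r, r.2, congrArg Subtype.val hr⟩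

/-- `C i ∩ B j = R j` -/
theorem CB_inf [Finite G] {i j : ι} (hij : i ≠ j) {x : G} (h1 : x ∈ C i) (h2 : x ∈ B j) : x ∈ R j := by
  obtain ⟨b, hb, hbV⟩ := s.exists_move hij
  obtain ⟨r, hr, h⟩ := s.surjR hij hb hbV (s.CB' hb h1)
  have h3 : b * (r⁻¹ * x) = r⁻¹ * x * b := comm_of_comm_eq h.symm
  have h4 := s.inj hij hb hbV (mul_mem (inv_mem (s.R_B j hr)) h2) h3
  rw [inv_mul_eq_one] at h4
  rw [← h4]
  exact hr

theorem comm_CT [Finite G] {i j : ι} (hij : i ≠ j) {a t : G} (ha : a ∈ C i) (ht : t ∈ TT V (B j)) :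
    a * t * a⁻¹ * t⁻¹ ∈ R j := by
  have haV := s.C_V ha
  have htV := (mem_TT.1 ht).2
  refine s.CB_inf hij ?_ ?_
  · have h1 := conj_mem_of_normalizer (s.nC i (s.cV_le_NR htV i)) (inv_mem ha)
    have e : a * t * a⁻¹ * t⁻¹ = a * (t * a⁻¹ * t⁻¹) := by group
    rw [e]
    exact mul_mem ha h1
  · exact TT_le _ _ (s.comm_mem_T haV (TT_le _ _ ht))

/-- `[b, [a, t]] = [a, [b, t]]` -/
theorem jac [Finite G] {i j : ι} (hij : i ≠ j) {a b t : G} (ha : a ∈ C i) (hb : b ∈ B i) (ht : t ∈ TT V (B j)) :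
    b * (a * t * a⁻¹ * t⁻¹) * b⁻¹ * (a * t * a⁻¹ * t⁻¹)⁻¹ = a * (b * t * b⁻¹ * t⁻¹) * a⁻¹ * (b * t * b⁻¹ * t⁻¹)⁻¹ := by
  have htV := (mem_TT.1 ht).2
  have hs := s.comm_CT hij ha ht
  have hu := s.comm_mem_T' htV hb
  have hρ := s.CB i a ha b hb
  set σ := a * t * a⁻¹ * t⁻¹ with hσ
  set u := b * t * b⁻¹ * t⁻¹ with hu'
  set ρ := a * b * a⁻¹ * b⁻¹ with hρ'
  have hσV : σ ∈ V := s.R_V j hs
  have hρV : ρ ∈ V := s.R_V i hρ
  have h1 : a * t * a⁻¹ = σ * t := by rw [hσ]; group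
  have h2 : b * t * b⁻¹ = u * t := by rw [hu']; group
  have h3 : a * b * a⁻¹ = ρ * b := by rw [hρ']; group
  have huV := (mem_TT.1 hu).2
  have hbs := s.CB' hb (s.V_C i hσV)
  set τ := b * σ * b⁻¹ * σ⁻¹ with hτ
  have h4 : b * σ * b⁻¹ = τ * σ := by rw [hτ]; group
  -- conjugate `b t b⁻¹ = u t` by `a`
  have h5 : (ρ * b) * (σ * t) * (ρ * b)⁻¹ = (a * u * a⁻¹) * (σ * t) := by
    rw [← h1, ← h3]
    calc a * b * a⁻¹ * (a * t * a⁻¹) * (a * b * a⁻¹)⁻¹ = a * (b * t * b⁻¹) * a⁻¹ := by group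
      _ = a * (u * t) * a⁻¹ := by rw [h2]
      _ = a * u * a⁻¹ * (a * t * a⁻¹) := by group
  have hρτ : ρ * τ = τ * ρ := s.V_comm hρV (s.R_V i hbs) i
  have hρσ : ρ * σ = σ * ρ := s.V_comm hρV hσV i
  have hρu : ρ * u = u * ρ := (huV ρ hρV).symm
  have hρt : ρ * t = t * ρ := (htV ρ hρV).symm
  have h6 : (ρ * b) * (σ * t) * (ρ * b)⁻¹ = τ * σ * u * t := by
    calc (ρ * b) * (σ * t) * (ρ * b)⁻¹ = ρ * (b * σ * b⁻¹) * (b * t * b⁻¹) * ρ⁻¹ := by group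
      _ = ρ * (τ * σ) * (u * t) * ρ⁻¹ := by rw [h4, h2]
      _ = (ρ * τ) * σ * u * t * ρ⁻¹ := by group
      _ = τ * (ρ * σ) * u * t * ρ⁻¹ := by rw [hρτ]; group
      _ = τ * σ * (ρ * u) * t * ρ⁻¹ := by rw [hρσ]; group
      _ = τ * σ * u * (ρ * t) * ρ⁻¹ := by rw [hρu]; group
      _ = τ * σ * u * t := by rw [hρt]; group
  have hσu : σ * u = u * σ := (huV σ hσV).symm
  rw [h6] at h5
  have h7 : τ * u * (σ * t) = a * u * a⁻¹ * (σ * t) := by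
    rw [← h5]
    calc τ * u * (σ * t) = τ * (u * σ) * t := by group
      _ = τ * (σ * u) * t := by rw [hσu]
      _ = τ * σ * u * t := by group
  have h8 := mul_right_cancel h7
  rw [← h8, mul_inv_cancel_right]

end Side

namespace FIn

variable {F₁ F₂ : Type*} [Field F₁] [Field F₂] {V₁ V₂ N₁ N₂ : Subgroup G} {M₁ : RMod F₁ V₁ N₁} {M₂ : RMod F₂ V₂ N₂}
  {R : Subgroup G} {w₁ : Fin 2 → F₁} {w₂ : Fin 2 → F₂} (f : FIn M₁ M₂ R w₁ w₂) [Finite G]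
include f

/-- **the double perp of `V₁`** -/
theorem perp {a : G} (ha : a ∈ LL V₁ R R) (h : ∀ b ∈ TT V₁ (LL V₂ R R), a * b = b * a) : a ∈ V₁ := by
  have p := f.pai
  obtain ⟨v₀, hv₀, hv₀R⟩ : ∃ v ∈ V₁, v ∉ R := by
    by_contra hc
    push Not at hc
    have h1 : V₁ ≤ R := hc
    rw [f.line₁] at h1
    exact not_le_line M₁ f.ne₁ h1
  have hv₀W := V_le_LL V₁ R hv₀
  obtain ⟨c, hc⟩ := p.perp_perp f.lin₂ f.symm.W₂_ZZ hv₀W ha hv₀R (by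
    intro b hb hbv
    refine h b (mem_TT.2 ⟨hb, fun v hv => ?_⟩)
    obtain ⟨B, hB, hB'⟩ := f.U₁ hb
    obtain ⟨x, rfl⟩ := (M₁.mem_iff v₀).1 hv₀
    obtain ⟨y, rfl⟩ := (M₁.mem_iff v).1 hv
    have hx : ap B x = x := by
      apply M₁.e_inj
      rw [← hB', mul_inv_eq_iff_eq_mul]
      exact hbv.symm
    have hwx : dt w₁ x ≠ 0 := by
      intro h0
      obtain ⟨d, rfl⟩ := exists_smul_of_dt f.ne₁ h0
      apply hv₀R
      rw [f.line₁]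
      exact ⟨d, rfl⟩
    obtain ⟨α, β, rfl⟩ := exists_comb hwx y
    have hy : ap B (α • w₁ + β • x) = α • w₁ + β • x := by
      rw [NatPair.ap_add, ap_smul, ap_smul, hB, hx]
    rw [← mul_inv_eq_iff_eq_mul, hB', hy])
  have h1 := f.line₁_lin (one_mem _)
  rw [cj_one] at h1
  obtain ⟨v', hv', h2⟩ := h1 c v₀ hv₀
  have h3 : a * v'⁻¹ ∈ R :=
    p.eq_mod ha (V_le_LL V₁ R hv') fun b hb => by rw [hc b hb, h2 b (f.W₂_ZZ hb)]
  have h4 := mul_mem (f.R_V₁ h3) hv'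
  rwa [inv_mul_cancel_right] at h4

/-- **(7)** `[a, T j] = R j` for `a ∈ W₁ - V₁` -/
theorem tv {j : Pt M₁} (hj : pt M₁ j ≠ R) {a : G} (ha : a ∈ LL V₁ R R) (haV : a ∉ V₁) {v : G} (hv : v ∈ pt M₁ j) :
    ∃ t ∈ TT V₁ (LL V₂ R (pt M₁ j)), a * t * a⁻¹ * t⁻¹ = v := by
  have p := f.pai
  set i₀ : Pt M₁ := pt₀ M₁ f.ne₁ f.line₁ with hi₀
  have hij : i₀ ≠ j := by
    rintro rfl
    exact hj rfl
  -- an element of `T_1` not commuting with `a`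
  obtain ⟨u₀, hu₀, hne⟩ : ∃ b ∈ TT V₁ (LL V₂ R R), a * b ≠ b * a := by
    by_contra hc
    push Not at hc
    exact haV (f.perp ha hc)
  obtain ⟨b, hb, hbV⟩ := f.side₁.exists_move hij
  have hbW : b ∈ LL V₂ R R := hb
  -- the commutator `r = [b, v]`
  have hr : b * v * b⁻¹ * v⁻¹ ∈ R := f.side₁.CB' hb (f.side₁.V_C i₀ (f.side₁.R_V j hv))
  obtain ⟨c, hc⟩ := (p.κ_mem _).1 hr
  have hu₀W := TT_le _ _ hu₀
  have hne0 : fm (kap M₁ w₁) a u₀ ≠ 0 := fun h => hne ((p.fm_eq_zero ha (p.tst hu₀W)).1 h)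
  obtain ⟨u, huW, hu⟩ := p.lin_right f.lin₂ f.symm.W₂_ZZ (c * (fm (kap M₁ w₁) a u₀)⁻¹) hu₀W
  have huT : u ∈ TT V₁ (LL V₂ R R) := by
    refine mem_TT.2 ⟨huW, fun v hv => ?_⟩
    have h1 := hu v (V_le_LL V₁ R hv)
    rw [(p.fm_eq_zero (V_le_LL V₁ R hv) (p.tst hu₀W)).2 ((mem_TT.1 hu₀).2 v hv).symm, mul_zero,
      p.fm_eq_zero (V_le_LL V₁ R hv) (p.tst huW)] at h1
    exact h1.symm
  have hau : a * u * a⁻¹ * u⁻¹ = b * v * b⁻¹ * v⁻¹ := by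
    rw [← hc, ← p.spec ha (p.tst huW), hu a ha, mul_assoc, inv_mul_cancel₀ hne0, mul_one]
  obtain ⟨t, ht, htu⟩ := f.side₁.surj hij hb hbV huT
  refine ⟨t, ht, ?_⟩
  have h1 := f.side₁.jac hij ha hb ht
  rw [htu, hau] at h1
  have h2 := comm_of_comm_eq h1
  have h3 : a * t * a⁻¹ * t⁻¹ ∈ pt M₁ j := f.side₁.comm_CT hij ha ht
  have h4 := f.side₁.inj hij hb hbV (mul_mem (inv_mem (f.side₁.R_B j hv)) (f.side₁.R_B j h3)) h2
  exact (inv_mul_eq_one.1 h4).symm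

theorem V₁_split {j : Pt M₁} (hj : pt M₁ j ≠ R) {v : G} (hv : v ∈ V₁) : ∃ r ∈ R, ∃ x ∈ pt M₁ j, v = r * x := by
  obtain ⟨_, u, hu, rfl⟩ := j
  have h1 : dt w₁ u ≠ 0 := by
    intro h1
    apply hj
    show M₁.line u = R
    rw [f.line₁]
    exact (line_eq_iff_dt M₁ f.ne₁ hu).2 h1
  obtain ⟨x, rfl⟩ := (M₁.mem_iff v).1 hv
  obtain ⟨α, β, rfl⟩ := exists_comb h1 x
  refine ⟨M₁.e (α • w₁), ?_, M₁.e (β • u), ⟨β, rfl⟩, M₁.e_add _ _⟩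
  rw [f.line₁]
  exact ⟨α, rfl⟩

/-- **(7)** `W₁` is the union of the lines `V₁^h`, `h ∈ N(R)` -/
theorem cover {a : G} (ha : a ∈ LL V₁ R R) : ∃ h ∈ normalizer (R : Set G), a ∈ cj h V₁ := by
  set i₀ : Pt M₁ := pt₀ M₁ f.ne₁ f.line₁ with hi₀
  obtain ⟨j, hj, -⟩ := f.side₁.third i₀ i₀
  have hjR : pt M₁ j ≠ R := fun h => hj (f.side₁.R_index h)
  refine iSup_induction (fun g : {g : G // cj g R = R} => cj (g : G) V₁)
    (C := fun a => ∃ h ∈ normalizer (R : Set G), a ∈ cj h V₁) ha ?_ ?_ ?_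
  · intro g x hx
    exact ⟨g, cj_eq_self_iff.1 g.2, hx⟩
  · exact ⟨1, one_mem _, one_mem _⟩
  · rintro x y ⟨h, hh, hx⟩ ⟨k, hk, hy⟩
    have hx' : h⁻¹ * x * h ∈ V₁ := mem_cj.1 hx
    have hy' : h⁻¹ * y * h ∈ cj (h⁻¹ * k) V₁ := by
      rw [cj_mul]
      have := conj_mem_cj (g := h⁻¹) hy
      rwa [inv_inv] at this
    by_cases hyV : h⁻¹ * y * h ∈ V₁
    · refine ⟨h, hh, mem_cj.2 ?_⟩
      have e : h⁻¹ * (x * y) * h = (h⁻¹ * x * h) * (h⁻¹ * y * h) := by group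
      rw [e]
      exact mul_mem hx' hyV
    · have hyW : h⁻¹ * y * h ∈ LL V₁ R R := cj_le_LL (cj_eq_self_iff.2 (mul_mem (inv_mem hh) hk)) hy'
      obtain ⟨r, hr, s, hs, e⟩ := f.V₁_split hjR hx'
      obtain ⟨t, ht, hts⟩ := f.tv hjR hyW hyV hs
      have htV := (mem_TT.1 ht).2
      have htN : t ∈ normalizer (R : Set G) := f.side₁.cV_le_NR htV i₀
      have hsV : s ∈ V₁ := f.side₁.R_V j hs
      have h1 : t⁻¹ * (h⁻¹ * y * h) * t = s * (h⁻¹ * y * h) := by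
        have h2 : (h⁻¹ * y * h) * t = s * t * (h⁻¹ * y * h) := by rw [← hts]; group
        rw [mul_assoc, h2, ← htV s hsV]
        group
      have hgN : h * (t⁻¹ * (h⁻¹ * k)) ∈ normalizer (R : Set G) :=
        mul_mem hh (mul_mem (inv_mem htN) (mul_mem (inv_mem hh) hk))
      refine ⟨h * (t⁻¹ * (h⁻¹ * k)), hgN, ?_⟩
      have h3 : t⁻¹ * (h⁻¹ * y * h) * t ∈ cj (t⁻¹ * (h⁻¹ * k)) V₁ := by
        rw [cj_mul]
        have := conj_mem_cj (g := t⁻¹) hy'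
        rwa [inv_inv] at this
      have h4 : r ∈ cj (t⁻¹ * (h⁻¹ * k)) V₁ := by
        have h5 := cj_mono (g := t⁻¹ * (h⁻¹ * k)) f.R_V₁
        rw [cj_eq_self_iff.2 (mul_mem (inv_mem htN) (mul_mem (inv_mem hh) hk))] at h5
        exact h5 hr
      have h5 : h⁻¹ * x * h * (h⁻¹ * y * h) ∈ cj (t⁻¹ * (h⁻¹ * k)) V₁ := by
        have h5 := mul_mem h4 h3
        rw [h1] at h5
        rw [e, mul_assoc r s]
        exact h5
      rw [cj_mul]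
      have h6 := conj_mem_cj (g := h) h5
      have e2 : h * (h⁻¹ * x * h * (h⁻¹ * y * h)) * h⁻¹ = x * y := by group
      rwa [e2] at h6

end FIn

end Cfsg.Agent.Omega.Mix
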