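import Cfsg.Agent.Omega.Mix.Entry
import Cfsg.Agent.Omega.Mix.Form
import Cfsg.Agent.Omega.Mix.AtV
import Cfsg.Prelude.Def_Transfer

/-!
# Mixed pairs: the global form (`MixedN ⇒ FIn`, `N₁ ≤ N(W₁)`, `N(W₁)` transitive on `W₁#`)

`m : MixedN M₁ M₂ R`, `W₁ = LL V₁ R R`:

* `MixedN.fin` : `FIn M₁ M₂ R w₁ w₂`;
* `MixedN.C_eq` (`|F₁| ≥ 4`) : `W₁(R i)` is the same for all points of `V₁`; `MixedN.N_le` : `N₁ ≤ N(W₁)`;
* `MixedN.W_trans` : `N(W₁)` is transitive on `W₁#`; `MixedN.W_el`, `MixedN.W_cent`.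
-/

set_option autoImplicit false
set_option linter.unusedSectionVars false

namespace Cfsg.Agent.Omega.Mix

open Subgroup Cfsg.Agent.Omega.BTwo

variable {G : Type*} [Group G]

theorem exists_ne_of_card {F : Type*} [Field F] [Finite F] (h : 4 ≤ Nat.card F) : ∃ l : F, l ≠ 0 ∧ l ≠ 1 := by
  classical
  by_contra hc
  push Not at hc
  have : Fintype F := Fintype.ofFinite F
  rw [Nat.card_eq_fintype_card] at h
  have h1 : (Finset.univ : Finset F) ⊆ ({0, 1} : Finset F) := by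
    intro x _
    rw [Finset.mem_insert, Finset.mem_singleton]
    by_cases hx : x = 0
    · exact Or.inl hx
    · exact Or.inr (hc x hx)
  have h2 := Finset.card_le_card h1
  have h3 : ({0, 1} : Finset F).card ≤ 2 := Finset.card_le_two
  rw [Finset.card_univ] at h2
  omega

namespace MixedN

variable {F₁ F₂ : Type*} [Field F₁] [Field F₂] {V₁ V₂ N₁ N₂ : Subgroup G} {M₁ : RMod F₁ V₁ N₁} {M₂ : RMod F₂ V₂ N₂}
  {R : Subgroup G} (m : MixedN M₁ M₂ R) [Finite G] [Finite F₁] [Finite F₂] [CharP F₁ 2] [CharP F₂ 2]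
include m

theorem fin {w₁ : Fin 2 → F₁} {w₂ : Fin 2 → F₂} (hw₁ : w₁ ≠ 0) (hw₂ : w₂ ≠ 0) (h₁ : R = M₁.line w₁)
    (h₂ : R = M₂.line w₂) : FIn M₁ M₂ R w₁ w₂ where
  ne₁ := hw₁
  ne₂ := hw₂
  line₁ := h₁
  line₂ := h₂
  Q₁ := m.QQ_le_UW hw₁ h₁
  Q₂ := m.symm.QQ_le_UW hw₂ h₂
  VQ₁ := m.V_le_QQ
  VQ₂ := m.symm.V_le_QQ
  comm₁ := m.comm₁
  comm₂ := m.comm₂
  cen := m.center.le
  side₁ := m.side
  side₂ := m.symm.side

theorem exists_fin' : ∃ (w₁ : Fin 2 → F₁) (w₂ : Fin 2 → F₂), FIn M₁ M₂ R w₁ w₂ := by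
  obtain ⟨w₁, hw₁, h₁⟩ := m.line₁
  obtain ⟨w₂, hw₂, h₂⟩ := m.line₂
  exact ⟨w₁, w₂, m.fin hw₁ hw₂ h₁ h₂⟩

theorem BC_inf (i : Pt M₁) : ∀ f ∈ LL V₂ R (pt M₁ i), f ∈ LL V₁ R (pt M₁ i) → f ∈ pt M₁ i := by
  intro f hf hf'
  rw [← m.center_at i, mem_YY]
  exact ⟨fun b hb => m.side.B_comm i f hf b hb, fun c hc => m.side.C_comm i f hf' c hc⟩

/-- **(8)** `W₁(R i)` is the same for all points of `V₁` -/
theorem C_eq (h4 : 4 ≤ Nat.card F₁) (i : Pt M₁) : LL V₁ R (pt M₁ i) = LL V₁ R R := by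
  obtain ⟨j, hj⟩ := m.exists_pt
  have := m.side.C_eq_of_cen (exists_ne_of_card h4) m.BC_inf i j
  rw [this, hj]

/-- `N₁ ≤ N(W₁)` -/
theorem N_le (h4 : 4 ≤ Nat.card F₁) : N₁ ≤ normalizer (LL V₁ R R : Set G) := by
  intro g hg
  obtain ⟨j, hj⟩ := m.exists_pt
  obtain ⟨k, hk⟩ := M₁.cj_pt hg j
  rw [hj] at hk
  rw [← cj_eq_self_iff, cj_LL hk, m.C_eq h4]

/-- `W₁` is elementary abelian -/
theorem W_sq {x : G} (hx : x ∈ LL V₁ R R) : x * x = 1 := by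
  obtain ⟨j, hj⟩ := m.exists_pt
  have := m.side.C_sq j x
  rw [hj] at this
  exact this hx

theorem W_el : Cfsg.IsElementaryAbelian 2 (LL V₁ R R : Subgroup G) :=
  ⟨⟨⟨fun a b => Subtype.ext (m.comm₁ a a.2 b b.2)⟩⟩, fun a ha => by
    rw [pow_two]
    exact m.W_sq ha⟩

/-- `C_G(W₁) ≤ W₁` -/
theorem W_cent : centralizer (LL V₁ R R : Set G) ≤ LL V₁ R R := by
  obtain ⟨w₁, w₂, f⟩ := m.exists_fin'
  exact f.cen_W₁

/-- **`N(W₁)` is transitive on `W₁#`** -/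
theorem W_trans (h4 : 4 ≤ Nat.card F₁) : ∀ x ∈ LL V₁ R R, ∀ y ∈ LL V₁ R R, x ≠ 1 → y ≠ 1 →
    ∃ n ∈ normalizer (LL V₁ R R : Set G), n * x * n⁻¹ = y := by
  obtain ⟨w₁, w₂, f⟩ := m.exists_fin'
  intro x hx y hy hx1 hy1
  obtain ⟨h, hh, hxh⟩ := f.cover hx
  obtain ⟨k, hk, hyk⟩ := f.cover hy
  rw [mem_cj] at hxh hyk
  have hR := normalizer_le_LL V₁ R R
  obtain ⟨l, hl, e⟩ := M₁.trans hxh (fun h0 => hx1 (by
    have : x = h * (h⁻¹ * x * h) * h⁻¹ := by group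
    rw [this, h0]; group)) hyk (fun h0 => hy1 (by
    have : y = k * (k⁻¹ * y * k) * k⁻¹ := by group
    rw [this, h0]; group))
  refine ⟨k * l * h⁻¹, mul_mem (mul_mem (hR hk) (m.N_le h4 hl)) (inv_mem (hR hh)), ?_⟩
  calc k * l * h⁻¹ * x * (k * l * h⁻¹)⁻¹ = k * (l * (h⁻¹ * x * h) * l⁻¹) * k⁻¹ := by group
    _ = k * (k⁻¹ * y * k) * k⁻¹ := by rw [e]
    _ = y := by group

end MixedN

end Cfsg.Agent.Omega.Mix
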