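import Cfsg.Agent.Omega.Mix.TI
import Cfsg.Agent.Omega.Lin.Cubes

/-!
# A mixed pair with `W₁ = V₁`, `q ≥ 8`

The torus elements of `C(R)` act on `V₁ / R` as the cubes and on `V₂ / R` as the inverses of the cubes.
-/

set_option autoImplicit false
set_option linter.unusedSectionVars false

namespace Cfsg.Agent.Omega.Mix

open Subgroup Cfsg.Agent.Lib.SL2Mat Cfsg.Agent.Omega.BTwo Cfsg.Agent.Omega.Lin
open Cfsg.Agent.Omega.NatPair (dt dt_smul dt_add exists_smul_of_dt exists_comb ap ap_smul ap_zero' ap_one' ap_mul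
  ap_inv_ap ap_ap_inv ap_one)

universe u

variable {G : Type u} [Group G]

/-- the form under an element normalising everything -/
theorem Pai.fm_conj {F : Type*} [Field F] {κ : F → G} {W W' R : Subgroup G} (p : Pai κ W W' R) {g : G} {ν : F}
    (hW : g ∈ normalizer (W : Set G)) (hW' : g ∈ normalizer (W' : Set G)) (hg : ∀ z, g * κ z * g⁻¹ = κ (ν * z)) {a b : G}
    (ha : a ∈ W) (hb : b ∈ W') : fm κ (g * a * g⁻¹) (g * b * g⁻¹) = ν * fm κ a b := by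
  apply p.κ_inj
  rw [p.spec (conj_mem_of_normalizer hW ha) (p.tst (conj_mem_of_normalizer hW' hb)), ← hg, p.spec ha (p.tst hb)]
  group

namespace FIn

variable {F₁ F₂ : Type*} [Field F₁] [Field F₂] {V₁ V₂ N₁ N₂ : Subgroup G} {M₁ : RMod F₁ V₁ N₁}
  {M₂ : RMod F₂ V₂ N₂} {R : Subgroup G} {w₁ : Fin 2 → F₁} {w₂ : Fin 2 → F₂} (f : FIn M₁ M₂ R w₁ w₂) [Finite G]
include f

theorem ker_one (h₁ : LL V₁ R R ≤ V₁) {a b : G} (ha : a ∈ LL V₁ R R) (hb : b ∈ LL V₂ R R) (hab : a * b = b * a)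
    (hbR : b ∉ R) : a ∈ R := by
  by_contra haR
  apply hbR
  refine f.pai.nd' b hb fun a' ha' => ?_
  exact comm_line M₁ f.ne₁ f.line₁ (f.W₂_ZZ hb) (one_mem _) (a := a)
    (by rw [cj_one]; exact h₁ ha) haR hab a' (by rw [cj_one]; exact h₁ ha')

variable [Finite F₁] [Finite F₂] [CharP F₁ 2] [CharP F₂ 2]

/-- the weights -/
theorem wt (h₁ : LL V₁ R R ≤ V₁) (h₂ : LL V₂ R R ≤ V₂) (hC₁ : ∀ i, LL V₁ R (pt M₁ i) = LL V₁ R R)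
    (hC₂ : ∀ i, LL V₂ R (pt M₂ i) = LL V₂ R R) {μ : F₁} (hμ : μ ≠ 0) :
    ∃ g ∈ centralizer (R : Set G),
      (∀ a ∈ LL V₁ R R, ∀ y ∈ LL V₂ R R, fm (kap M₁ w₁) (g * a * g⁻¹) y = μ ^ 3 * fm (kap M₁ w₁) a y) ∧
      ∀ b ∈ LL V₂ R R, ∀ x ∈ LL V₁ R R, fm (kap M₁ w₁) x (g * b * g⁻¹) = (μ⁻¹) ^ 3 * fm (kap M₁ w₁) x b := by
  have p := f.pai
  set κ := kap M₁ w₁ with hκ
  obtain ⟨g₁, hg₁, hz₁, hv₁, -⟩ := f.tor₁ hC₁ (inv_ne_zero hμ)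
  obtain ⟨g₂, hg₂, hz₂, hv₂, -⟩ := f.tor₂ hC₂ (k := 1) (one_mem _) hμ
  have n11 := normalizer_le_LL V₁ R R hg₁
  have n12 := normalizer_le_LL V₂ R R hg₁
  have n21 := normalizer_le_LL V₁ R R hg₂
  have n22 := normalizer_le_LL V₂ R R hg₂
  rw [inv_inv] at hv₁
  -- `g₁` on `V₁`, `V₂`
  have e1 : ∀ a ∈ LL V₁ R R, ∀ y ∈ LL V₂ R R, fm κ (g₁ * a * g₁⁻¹) y = μ * fm κ a y := fun a ha y hy =>
    (hv₁ a (h₁ ha)).2 y hy
  have e2 : ∀ b ∈ LL V₂ R R, ∀ x ∈ LL V₁ R R, fm κ x (g₁ * b * g₁⁻¹) = μ⁻¹ * (μ⁻¹ * fm κ x b) := by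
    intro b hb x hx
    have hx' : g₁⁻¹ * x * g₁ ∈ LL V₁ R R := conj_inv_mem_of_normalizer n11 hx
    have h3 := p.fm_conj n11 n12 hz₁ hx' hb
    have e : g₁ * (g₁⁻¹ * x * g₁) * g₁⁻¹ = x := by group
    rw [e] at h3
    have h4 := e1 _ hx' b hb
    rw [e] at h4
    rw [h3, h4, ← mul_assoc μ⁻¹ μ, inv_mul_cancel₀ hμ, one_mul]
  -- `g₂` on `V₂`, `V₁`
  have e3 : ∀ b ∈ LL V₂ R R, ∀ x ∈ LL V₁ R R, fm κ x (g₂ * b * g₂⁻¹) = μ⁻¹ * fm κ x b := by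
    intro b hb x hx
    have h3 := (hv₂ b (by rw [cj_one]; exact h₂ hb)).2 x hx
    rw [p.swap hx (p.tst (conj_mem_of_normalizer n22 hb)), p.swap hx (p.tst hb), mul_neg, neg_inj] at h3
    exact h3
  have e4 : ∀ a ∈ LL V₁ R R, ∀ y ∈ LL V₂ R R, fm κ (g₂ * a * g₂⁻¹) y = μ * (μ * fm κ a y) := by
    intro a ha y hy
    have hy' : g₂⁻¹ * y * g₂ ∈ LL V₂ R R := conj_inv_mem_of_normalizer n22 hy
    have h3 := p.fm_conj n21 n22 hz₂ ha hy'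
    have e : g₂ * (g₂⁻¹ * y * g₂) * g₂⁻¹ = y := by group
    rw [e] at h3
    have h4 := e3 _ hy' a ha
    rw [e] at h4
    rw [h3, h4, ← mul_assoc μ μ⁻¹, mul_inv_cancel₀ hμ, one_mul]
  refine ⟨g₁ * g₂, ?_, ?_, ?_⟩
  · rw [mem_centralizer_iff]
    intro r hr
    obtain ⟨z, rfl⟩ := (p.κ_mem r).1 hr
    have h3 : g₁ * g₂ * κ z * (g₁ * g₂)⁻¹ = κ z := by
      calc g₁ * g₂ * κ z * (g₁ * g₂)⁻¹ = g₁ * (g₂ * κ z * g₂⁻¹) * g₁⁻¹ := by group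
        _ = κ z := by rw [hz₂, hz₁, ← mul_assoc, inv_mul_cancel₀ hμ, one_mul]
    exact (mul_inv_eq_iff_eq_mul.1 h3).symm
  · intro a ha y hy
    have e : g₁ * g₂ * a * (g₁ * g₂)⁻¹ = g₁ * (g₂ * a * g₂⁻¹) * g₁⁻¹ := by group
    rw [e, e1 _ (conj_mem_of_normalizer n21 ha) y hy, e4 a ha y hy]
    ring
  · intro b hb x hx
    have e : g₁ * g₂ * b * (g₁ * g₂)⁻¹ = g₁ * (g₂ * b * g₂⁻¹) * g₁⁻¹ := by group
    rw [e, e2 _ (conj_mem_of_normalizer n22 hb) x hx, e3 b hb x hx]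
    ring

/-- an element of `W₂ - R` -/
theorem exists_not_R : ∃ b ∈ LL V₂ R R, b ∉ R := by
  by_contra hcon
  push Not at hcon
  exact f.symm.R_ne_W₁ (le_antisymm f.symm.R_W₁ hcon)

/-- `C(R)` is irreducible on `W₁ / R` -/
theorem irr_one (h₁ : LL V₁ R R ≤ V₁) (h₂ : LL V₂ R R ≤ V₂) (hC₁ : ∀ i, LL V₁ R (pt M₁ i) = LL V₁ R R)
    (hC₂ : ∀ i, LL V₂ R (pt M₂ i) = LL V₂ R R) (hq : 8 ≤ Nat.card F₁) (X : Subgroup G) (hRX : R ≤ X)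
    (hXW : X ≤ LL V₁ R R) (hX : ∀ c ∈ centralizer (R : Set G), ∀ x ∈ X, c * x * c⁻¹ ∈ X) :
    X = R ∨ X = LL V₁ R R := by
  have p := f.pai
  set κ := kap M₁ w₁ with hκ
  by_cases hXR : X ≤ R
  · exact Or.inl (le_antisymm hXR hRX)
  right
  refine le_antisymm hXW fun a ha => ?_
  obtain ⟨y, hy, hyR⟩ := f.exists_not_R
  have ht := p.tst hy
  let S : AddSubgroup F₁ :=
    { carrier := {c | ∃ x ∈ X, fm κ x y = c}
      zero_mem' := ⟨1, one_mem _, p.one_left ht⟩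
      add_mem' := by
        rintro _ _ ⟨x, hx, rfl⟩ ⟨x', hx', rfl⟩
        exact ⟨x * x', mul_mem hx hx', p.mul_left (hXW hx) (hXW hx') ht⟩
      neg_mem' := by
        rintro _ ⟨x, hx, rfl⟩
        exact ⟨x⁻¹, inv_mem hx, p.inv_left (hXW hx) ht⟩ }
  obtain ⟨x₀, hx₀, hx₀R⟩ : ∃ x ∈ X, x ∉ R := by
    by_contra hcon
    push Not at hcon
    exact hXR hcon
  have key := Cubes.eq_top hq S (by
    rintro μ hμ _ ⟨x, hx, rfl⟩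
    obtain ⟨g, hg, h3, -⟩ := f.wt h₁ h₂ hC₁ hC₂ hμ
    exact ⟨g * x * g⁻¹, hX g hg x hx, h3 x (hXW hx) y hy⟩)
    ⟨fm κ x₀ y, ⟨x₀, hx₀, rfl⟩, fun h => hx₀R (f.ker_one h₁ (hXW hx₀) hy ((p.fm_eq_zero (hXW hx₀) ht).1 h) hyR)⟩
  obtain ⟨x, hx, hxy⟩ := key (fm κ a y)
  have h3 : fm κ (a * x⁻¹) y = 0 := by
    rw [p.mul_left ha (inv_mem (hXW hx)) ht, p.inv_left (hXW hx) ht, hxy, add_neg_cancel]
  have h4 : a * x⁻¹ ∈ LL V₁ R R := mul_mem ha (inv_mem (hXW hx))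
  have h5 := hRX (f.ker_one h₁ h4 hy ((p.fm_eq_zero h4 ht).1 h3) hyR)
  have h6 := mul_mem h5 hx
  rwa [inv_mul_cancel_right] at h6

/-- **no graph** -/
theorem no_graph_one (h₁ : LL V₁ R R ≤ V₁) (h₂ : LL V₂ R R ≤ V₂) (hC₁ : ∀ i, LL V₁ R (pt M₁ i) = LL V₁ R R)
    (hC₂ : ∀ i, LL V₂ R (pt M₂ i) = LL V₂ R R) (hq : 8 ≤ Nat.card F₁) {O : Subgroup G}
    (hO : ∀ c ∈ centralizer (R : Set G), ∀ x ∈ O, c * x * c⁻¹ ∈ O) (hRO : R ≤ O)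
    (hab : ∀ x ∈ O, ∀ y ∈ O, x * y = y * x) (h₁' : O ⊓ LL V₁ R R = R) (h₂' : O ⊓ LL V₂ R R = R)
    (hgr : ∀ w ∈ LL V₁ R R, ∃ v ∈ LL V₂ R R, w * v ∈ O) : False := by
  have p := f.pai
  set κ := kap M₁ w₁ with hκ
  have hR₂ : ∀ x ∈ O, x ∈ LL V₂ R R → x ∈ R := fun x h1 h2 => by rw [← h₂']; exact ⟨h1, h2⟩
  have hlin := p.graph_lin hRO hab hgr
  obtain ⟨a, ha, haR⟩ : ∃ v ∈ LL V₁ R R, v ∉ R := by
    by_contra hcon
    push Not at hcon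
    exact f.R_ne_W₁ (le_antisymm f.R_W₁ hcon)
  obtain ⟨b, hb, hO1⟩ := hgr a ha
  have hbR : b ∉ R := by
    intro h
    apply haR
    rw [← h₁']
    refine ⟨?_, ha⟩
    have := mul_mem hO1 (inv_mem (hRO h))
    rwa [mul_inv_cancel_right] at this
  obtain ⟨x, hx, hxb⟩ : ∃ x ∈ LL V₁ R R, fm κ x b ≠ 0 := by
    by_contra hc
    push Not at hc
    exact hbR (p.nd' b hb fun x hx => (p.fm_eq_zero hx (p.tst hb)).1 (hc x hx))
  -- all `μ ≠ 0` satisfy `μ³ = 1`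
  have key : ∀ μ : F₁, μ ≠ 0 → μ ^ 3 = 1 := by
    intro μ hμ
    obtain ⟨g, hg, hv, hw⟩ := f.wt h₁ h₂ hC₁ hC₂ hμ
    have hgN : g ∈ normalizer (R : Set G) := by
      refine mem_normalizer_of_conj fun r hr => ?_
      rw [← mem_centralizer_iff.1 hg r hr, mul_inv_cancel_right]; exact hr
    have ha₃W : g * a * g⁻¹ ∈ LL V₁ R R := conj_mem_of_normalizer (normalizer_le_LL V₁ R R hgN) ha
    have hb₃W : g * b * g⁻¹ ∈ LL V₂ R R := conj_mem_of_normalizer (normalizer_le_LL V₂ R R hgN) hb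
    have hO3 : g * a * g⁻¹ * (g * b * g⁻¹) ∈ O := by
      have h3 := hO g hg _ hO1
      have e : g * (a * b) * g⁻¹ = g * a * g⁻¹ * (g * b * g⁻¹) := by group
      rwa [e] at h3
    obtain ⟨b₁, hb₁W, hb₁⟩ := p.lin_right f.lin₂ f.symm.W₂_ZZ (μ ^ 3) hb
    have hO4 := hlin a ha b hb hO1 (μ ^ 3) _ ha₃W b₁ hb₁W (hv a ha) hb₁
    have h6 := mul_mem (inv_mem hO4) hO3
    have e7 : (g * a * g⁻¹ * b₁)⁻¹ * (g * a * g⁻¹ * (g * b * g⁻¹)) = b₁⁻¹ * (g * b * g⁻¹) := by group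
    rw [e7] at h6
    have h7 := hR₂ _ h6 (mul_mem (inv_mem hb₁W) hb₃W)
    have h8 : fm κ x (b₁⁻¹ * (g * b * g⁻¹)) = 0 := p.R_right hx h7
    rw [p.mul_right hx (p.tst_inv (p.tst hb₁W)) (p.tst hb₃W), p.inv_right hx (p.tst hb₁W), hb₁ x hx, hw b hb x hx,
      neg_add_eq_zero] at h8
    have h9 := mul_right_cancel₀ hxb h8
    have h10 : (μ ^ 3) ^ 2 ^ 1 = 1 := by
      have h11 : μ ^ 3 * μ ^ 3 = 1 := by
        nth_rewrite 1 [h9]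
        field_simp
      rw [← h11]
      ring
    exact NatPair.eq_one_of_pow h10
  -- too many roots
  classical
  have := Fintype.ofFinite F₁
  rw [Nat.card_eq_fintype_card] at hq
  have h3 : (Finset.univ.erase (0 : F₁)).card ≤ 3 := by
    refine le_trans (Finset.card_le_card (t := (Polynomial.nthRoots 3 (1 : F₁)).toFinset) ?_)
      (le_trans (Multiset.toFinset_card_le _) (Polynomial.card_nthRoots 3 1))
    intro y hy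
    rw [Multiset.mem_toFinset, Polynomial.mem_nthRoots (by norm_num)]
    exact key y (Finset.mem_erase.1 hy).1
  rw [Finset.card_erase_of_mem (Finset.mem_univ _), Finset.card_univ] at h3
  omega

/-- **CONTROL**, `W₁ = V₁`, `q ≥ 8` -/
theorem control_one (h₁ : LL V₁ R R ≤ V₁) (h₂ : LL V₂ R R ≤ V₂) (hC₁ : ∀ i, LL V₁ R (pt M₁ i) = LL V₁ R R)
    (hC₂ : ∀ i, LL V₂ R (pt M₂ i) = LL V₂ R R) (hq₁ : 8 ≤ Nat.card F₁) (hq₂ : 8 ≤ Nat.card F₂) {r : G} (hr : r ∈ R)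
    (S : Sylow 2 G) (hS : (S : Subgroup G) ≤ normalizer (R : Set G)) (hSr : ∀ s ∈ S, s * r = r * s)
    (hK : Char2 (centralizer ({r} : Set G))) :
    centralizer ({r} : Set G) ≤ normalizer (LL V₁ R R : Set G) ∨
      centralizer ({r} : Set G) ≤ normalizer (LL V₂ R R : Set G) :=
  f.control_of (f.irr_one h₁ h₂ hC₁ hC₂ hq₁) (f.symm.irr_one h₂ h₁ hC₂ hC₁ hq₂)
    (fun _ a1 a2 a3 a4 a5 a6 => f.no_graph_one h₁ h₂ hC₁ hC₂ hq₁ a1 a2 a3 a4 a5 a6) hr S hS hSr hK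

end FIn

namespace MixedN

variable {F₁ F₂ : Type*} [Field F₁] [Field F₂] {V₁ V₂ N₁ N₂ : Subgroup G} {M₁ : RMod F₁ V₁ N₁}
  {M₂ : RMod F₂ V₂ N₂} {R : Subgroup G} (m : MixedN M₁ M₂ R) [Finite G] [Finite F₁] [Finite F₂] [CharP F₁ 2]
  [CharP F₂ 2]
include m

/-- **`q ≥ 8`** (any `W₁`) -/
theorem exists_ti_eight (hq : 8 ≤ Nat.card F₁) :
    ∃ A : Subgroup G, (A = LL V₁ R R ∨ A = LL V₂ R R) ∧ TIOut A := by
  have hF : ∃ l : F₁, l ≠ 0 ∧ l ≠ 1 := by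
    by_contra hcon
    push Not at hcon
    have h4 : Function.Surjective (fun i : Fin 2 => if i = 0 then (0 : F₁) else 1) := by
      intro x
      by_cases h : x = 0
      · exact ⟨0, by rw [h]; rfl⟩
      · exact ⟨1, by rw [hcon x h]; rfl⟩
    have h5 := Nat.card_le_card_of_surjective _ h4
    simp at h5
    omega
  by_cases hW : LL V₁ R R ≤ V₁
  · obtain ⟨w₁, w₂, f⟩ := m.exists_fin
    obtain ⟨r, hr, hr1, hrr, S, -, -, hS, hSr⟩ := m.exists_r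
    rcases f.control_one hW (f.le_of_le hW) (m.W_pt hF) (m.symm.W_pt (m.field₂ hF)) hq (by rw [← m.card_eq]; exact hq)
      hr S hS hSr (char2_cent hrr hr1 m.char) with h | h
    · exact ⟨_, Or.inl rfl, m.tiOut hF ⟨r, hr, hr1, h⟩⟩
    · exact ⟨_, Or.inr rfl, m.symm.tiOut (m.field₂ hF) ⟨r, hr, hr1, h⟩⟩
  · exact m.exists_ti hF hW

end MixedN

end Cfsg.Agent.Omega.Mix
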