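import Cfsg.Agent.Omega.Mix.Entry
import Cfsg.Agent.Omega.CaseL.Main

/-!
# A mixed pair with `q = 2` is a pair of `Omega/CaseL`

* `MixedN.exists_pair` : `MixedN M₁ M₂ R`, `|F₁| = 2` gives `CaseL.Pair S V₁ V₂ z`, `R = {1, z}`.
-/

set_option autoImplicit false
set_option linter.unusedSectionVars false

namespace Cfsg.Agent.Omega.Mix

open Subgroup Cfsg.Agent.Omega.BTwo
open Cfsg.Agent.Omega.NatPair (ap exists_ap)
open Cfsg.Agent.MinSimple.Geo (lines ws ws_le le_ws)

universe u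

variable {G : Type u} [Group G] [Finite G]

theorem two_cases {F : Type*} [Field F] [Finite F] (h2 : Nat.card F = 2) (c : F) : c = 0 ∨ c = 1 := by
  by_contra hcon
  push Not at hcon
  have h1 : Function.Injective (fun i : Fin 3 => if i = 0 then (0 : F) else if i = 1 then 1 else c) := by
    intro i j h
    have := hcon.1
    have := hcon.2
    fin_cases i <;> fin_cases j <;> simp_all
  have h3 := Nat.card_le_card_of_injective _ h1
  simp at h3
  omega

variable {F : Type*} [Field F] [Finite F] {V N : Subgroup G} (M : RMod F V N)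

theorem mem_line_two (h2 : Nat.card F = 2) {w : Fin 2 → F} {x : G} : x ∈ M.line w ↔ x = 1 ∨ x = M.e w := by
  rw [M.mem_line]
  constructor
  · rintro ⟨c, rfl⟩
    rcases two_cases h2 c with rfl | rfl
    · left; rw [zero_smul, M.e_zero]
    · right; rw [one_smul]
  · rintro (rfl | rfl)
    · exact ⟨0, by rw [zero_smul, M.e_zero]⟩
    · exact ⟨1, by rw [one_smul]⟩

theorem not_dvd_relIndex (S : Sylow 2 G) {K : Subgroup G} (h : (S : Subgroup G) ≤ K) :
    ¬ 2 ∣ (S : Subgroup G).relIndex K := by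
  have : Fact (Nat.Prime 2) := ⟨Nat.prime_two⟩
  intro h2
  exact S.not_dvd_index ((h2.trans (Dvd.intro _ (relIndex_mul_index h))))

theorem ln_of [CharP F 2] (h2 : Nat.card F = 2) {w : Fin 2 → F} (hw : w ≠ 0) (S : Sylow 2 G)
    (hSN : (S : Subgroup G) ≤ N) (hSR : (S : Subgroup G) ≤ normalizer (M.line w : Set G))
    (hZ : ∀ z ∈ S, z * z = 1 → (∀ s ∈ S, s * z = z * s) → z ∈ M.line w)
    (hch : IsCharacteristicTwoType G) : CaseL.Ln (S : Subgroup G) V (M.e w) := by
  have : Fact (Nat.Prime 2) := ⟨Nat.prime_two⟩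
  have hz1 : M.e w ≠ 1 := fun h => hw (M.e_eq_one.1 h)
  have hzR : M.e w ∈ M.line w := (mem_line_two M h2).2 (Or.inr rfl)
  have hT : (S : Subgroup G) ≤ centralizer ({M.e w} : Set G) := by
    intro s hs
    rw [mem_centralizer_singleton_iff]
    have h1 := (mem_normalizer_iff.1 (hSR hs) (M.e w)).1 hzR
    rcases (mem_line_two M h2).1 h1 with h | h
    · exact absurd (conj_eq_one_iff.1 h) hz1
    · rw [← mul_inv_eq_iff_eq_mul]
      exact h
  exact
    { charTwo := hch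
      two := S.isPGroup'
      T_le := hT
      T_syl := not_dvd_relIndex S hT
      V_le := by
        have h1 : IsPGroup 2 V := by
          intro x
          exact ⟨1, by rw [pow_one, pow_two]; exact Subtype.ext (M.sq x.2)⟩
        have h3 : IsPGroup 2 ((S : Subgroup G) ⊔ V : Subgroup G) :=
          S.isPGroup'.to_sup_of_normal_right' h1 (hSN.trans M.le)
        have h4 := S.is_maximal' h3 le_sup_left
        exact le_sup_right.trans_eq h4
      T_norm := hSN.trans M.le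
      T_syl' := not_dvd_relIndex S (hSN.trans M.le)
      card_V := by rw [M.card_V, h2]; norm_num
      sq := fun v hv => M.sq hv
      z_mem := M.e_mem w
      z_ne := hz1
      trans := by
        intro v hv hv1
        obtain ⟨x, rfl⟩ := (M.mem_iff v).1 hv
        have hx : x ≠ 0 := fun h => hv1 (M.e_eq_one.2 h)
        obtain ⟨A, hA⟩ := exists_ap hw hx
        obtain ⟨g, hg, h⟩ := M.lift' A
        exact ⟨g, M.le hg, by rw [h, hA]⟩
      soc := fun t ht htt hts => (mem_line_two M h2).1 (hZ t ht htt hts) }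

/-- the two forms of `⟨V^g : z ∈ V^g⟩` -/
theorem ws_le_LL (h2 : Nat.card F = 2) {w : Fin 2 → F} (hw : w ≠ 0) {R : Subgroup G} (hR : R = M.line w) :
    ws V (M.e w) ≤ LL V R R := by
  refine ws_le ?_
  rintro L ⟨⟨g, rfl⟩, hz⟩
  have h1 : g⁻¹ * M.e w * g ∈ V := (mem_cj (g := g) (H := V)).1 hz
  obtain ⟨x, hx⟩ := (M.mem_iff _).1 h1
  have hx0 : x ≠ 0 := by
    rintro rfl
    apply hw
    rw [← M.e_eq_one]
    rw [M.e_zero] at hx
    calc M.e w = g * (g⁻¹ * M.e w * g) * g⁻¹ := by group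
      _ = 1 := by rw [← hx]; group
  obtain ⟨A, hA⟩ := exists_ap hw hx0
  obtain ⟨n, hn, h⟩ := M.lift' A
  have h3 : n * M.e w * n⁻¹ = g⁻¹ * M.e w * g := by rw [h, hA, hx]
  have h4 : cj (g * n) R = R := by
    have key : g * n * M.e w * (g * n)⁻¹ = M.e w := by
      calc g * n * M.e w * (g * n)⁻¹ = g * (n * M.e w * n⁻¹) * g⁻¹ := by group
        _ = M.e w := by rw [h3]; group
    rw [hR]
    ext y
    rw [mem_cj, mem_line_two M h2, mem_line_two M h2]
    constructor
    · rintro (h5 | h5)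
      · left
        calc y = (g * n) * ((g * n)⁻¹ * y * (g * n)) * (g * n)⁻¹ := by group
          _ = 1 := by rw [h5]; group
      · right
        calc y = (g * n) * ((g * n)⁻¹ * y * (g * n)) * (g * n)⁻¹ := by group
          _ = M.e w := by rw [h5, key]
    · rintro (rfl | rfl)
      · left; group
      · right
        calc (g * n)⁻¹ * M.e w * (g * n) = (g * n)⁻¹ * (g * n * M.e w * (g * n)⁻¹) * (g * n) := by rw [key]
          _ = M.e w := by group
  have h5 := cj_le_LL (V := V) h4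
  rwa [cj_mul, cj_eq_self_iff.2 (M.le hn)] at h5

theorem LL_le_ws {w : Fin 2 → F} {R : Subgroup G} (hR : R = M.line w) :
    LL V R R ≤ ws V (M.e w) := by
  refine LL_le fun g hg => ?_
  refine le_ws ⟨⟨g, rfl⟩, ?_⟩
  have hzR : M.e w ∈ M.line w := ⟨1, by rw [one_smul]⟩
  rw [← hR, ← hg] at hzR
  have h1 := cj_mono (g := g) (hR.le.trans (M.line_le w)) hzR
  exact h1

namespace MixedN

variable {F₁ F₂ : Type*} [Field F₁] [Field F₂] {V₁ V₂ N₁ N₂ : Subgroup G} {M₁ : RMod F₁ V₁ N₁} {M₂ : RMod F₂ V₂ N₂}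
  {R : Subgroup G} (m : MixedN M₁ M₂ R) [Finite F₁] [Finite F₂] [CharP F₁ 2] [CharP F₂ 2]
include m

/-- **`q = 2`** -/
theorem exists_pair (hch : IsCharacteristicTwoType G) (h1 : Nat.card F₁ = 2) (h2 : Nat.card F₂ = 2) :
    ∃ (S : Sylow 2 G) (z : G), CaseL.Pair (S : Subgroup G) V₁ V₂ z := by
  obtain ⟨S, hS1, hS2, hS3, hZ⟩ := m.sylow
  obtain ⟨w₁, hw₁, hR₁⟩ := m.line₁
  obtain ⟨w₂, hw₂, hR₂⟩ := m.line₂
  have hz : M₁.e w₁ = M₂.e w₂ := by
    have h3 : M₁.e w₁ ∈ M₁.line w₁ := (mem_line_two M₁ h1).2 (Or.inr rfl)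
    rw [← hR₁, hR₂] at h3
    rcases (mem_line_two M₂ h2).1 h3 with h | h
    · exact absurd (M₁.e_eq_one.1 h) hw₁
    · exact h
  have e1 : ws V₁ (M₁.e w₁) = LL V₁ R R := le_antisymm (ws_le_LL M₁ h1 hw₁ hR₁) (LL_le_ws M₁ hR₁)
  have e2 : ws V₂ (M₁.e w₁) = LL V₂ R R := by
    rw [hz]
    exact le_antisymm (ws_le_LL M₂ h2 hw₂ hR₂) (LL_le_ws M₂ hR₂)
  refine ⟨S, M₁.e w₁, ?_⟩
  exact
    { v := ln_of M₁ h1 hw₁ S hS1 (hR₁ ▸ hS3) (hR₁ ▸ hZ) hch
      w := by
        rw [hz]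
        exact ln_of M₂ h2 hw₂ S hS2 (hR₂ ▸ hS3) (hR₂ ▸ hZ) hch
      abV := by rw [e1]; exact m.comm₁
      abW := by rw [e2]; exact m.comm₂
      nc := by rw [e1, e2]; exact m.ne }

end MixedN

end Cfsg.Agent.Omega.Mix
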