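import Cfsg.Agent.LieClassical.SLGen

/-!
# Semilinear groups containing all the transvections with one centre (TEXT MIX (9), end)

`L` acts on the `F`-space `M` by semilinear maps and induces all the transvections `v ↦ v + f(v) r` with centre `F r`;
the conjugates of `r` span `M`.  Then `L` is transitive on the 1-spaces (`exists_smul`) and, if `dim M ≥ 2`, on the nonzero
vectors (`transitive`), and induces all transvections (`transv`) and `SL(M)` (`exists_sl`, `exists_det_one`).
-/

set_option autoImplicit false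
set_option linter.unusedSectionVars false

namespace Cfsg.Agent.Omega.Mix.SLn

open Module

variable {F M L : Type*} [Field F] [AddCommGroup M] [Module F M] [Group L]

/-- `L` acts semilinearly -/
def Semi (F : Type*) {M L : Type*} [Field F] [AddCommGroup M] [Module F M] [Group L] (ρ : L →* AddMonoid.End M) : Prop :=
  ∀ g : L, ∃ σ : F ≃+* F, ∀ (c : F) (v : M), ρ g (c • v) = σ c • ρ g v

/-- `L` induces all the transvections with centre `F p` -/
def Tv (F : Type*) {M L : Type*} [Field F] [AddCommGroup M] [Module F M] [Group L] (ρ : L →* AddMonoid.End M) (p : M) :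
    Prop :=
  ∀ f : M →ₗ[F] F, f p = 0 → ∃ g : L, ∀ v, ρ g v = v + f v • p

variable {ρ : L →* AddMonoid.End M}

theorem mul_apply (g h : L) (v : M) : ρ (g * h) v = ρ g (ρ h v) := by
  rw [map_mul]; rfl

theorem inv_apply (g : L) (v : M) : ρ g⁻¹ (ρ g v) = v := by
  rw [← mul_apply, inv_mul_cancel, map_one]; rfl

theorem apply_inv (g : L) (v : M) : ρ g (ρ g⁻¹ v) = v := by
  rw [← mul_apply, mul_inv_cancel, map_one]; rfl

theorem apply_ne {g : L} {v : M} (hv : v ≠ 0) : ρ g v ≠ 0 := by
  intro h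
  apply hv
  rw [← inv_apply (ρ := ρ) g v, h, map_zero]

theorem Tv.conj (hs : Semi F ρ) {p : M} (hp : Tv F ρ p) (g : L) : Tv F ρ (ρ g p) := by
  obtain ⟨σ, hσ⟩ := hs g
  intro f hf
  obtain ⟨b, hb⟩ := hp
    { toFun := fun v => σ.symm (f (ρ g v))
      map_add' := fun v w => by rw [map_add, map_add, map_add]
      map_smul' := fun c v => by
        rw [hσ, map_smul, smul_eq_mul, map_mul, RingEquiv.symm_apply_apply, RingHom.id_apply, smul_eq_mul] }
    (by
      change σ.symm (f (ρ g p)) = 0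
      rw [hf, map_zero])
  refine ⟨g * b * g⁻¹, fun v => ?_⟩
  rw [mul_apply, mul_apply, hb]
  change ρ g (ρ g⁻¹ v + σ.symm (f (ρ g (ρ g⁻¹ v))) • p) = _
  rw [apply_inv, map_add, apply_inv, hσ, RingEquiv.apply_symm_apply]

theorem Tv.smul {p : M} (hp : Tv F ρ p) (c : F) : Tv F ρ (c • p) := by
  intro f hf
  by_cases hc : c = 0
  · refine ⟨1, fun v => ?_⟩
    rw [hc, zero_smul, smul_zero, add_zero, map_one]
    rfl
  · have h1 : f p = 0 := by
      rw [map_smul, smul_eq_mul] at hf
      exact (mul_eq_zero.1 hf).resolve_left hc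
    obtain ⟨g, hg⟩ := hp (c • f) (by rw [LinearMap.smul_apply, h1, smul_zero])
    refine ⟨g, fun v => ?_⟩
    rw [hg, LinearMap.smul_apply, smul_eq_mul, mul_comm, mul_smul]

theorem exists_dual {a b : M} (h : a ∉ Submodule.span F {b}) : ∃ f : M →ₗ[F] F, f b = 0 ∧ f a = 1 := by
  obtain ⟨f, hf, hk⟩ := Submodule.exists_le_ker_of_notMem h
  refine ⟨(f a)⁻¹ • f, ?_, ?_⟩
  · have : f b = 0 := hk (Submodule.mem_span_singleton_self b)
    rw [LinearMap.smul_apply, this, smul_zero]
  · rw [LinearMap.smul_apply, smul_eq_mul, inv_mul_cancel₀ hf]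

/-- the vectors on the conjugates of `F r` -/
def orb (F : Type*) {M L : Type*} [Field F] [AddCommGroup M] [Module F M] [Group L] (ρ : L →* AddMonoid.End M)
    (hs : Semi F ρ) (r : M) (hr : Tv F ρ r) : Submodule F M where
  carrier := {v | v = 0 ∨ ∃ g : L, ∃ c : F, c ≠ 0 ∧ ρ g r = c • v}
  zero_mem' := Or.inl rfl
  smul_mem' := by
    rintro d v (rfl | ⟨g, c, hc, h⟩)
    · exact Or.inl (smul_zero d)
    · by_cases hd : d = 0
      · exact Or.inl (by rw [hd, zero_smul])
      · refine Or.inr ⟨g, c * d⁻¹, mul_ne_zero hc (inv_ne_zero hd), ?_⟩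
        rw [h, mul_smul, inv_smul_smul₀ hd]
  add_mem' := by
    rintro a b (rfl | ⟨g, c, hc, h⟩) hb
    · rwa [zero_add]
    · have ha : (a = 0 ∨ ∃ g : L, ∃ c : F, c ≠ 0 ∧ ρ g r = c • a) := Or.inr ⟨g, c, hc, h⟩
      rcases hb with rfl | ⟨g', c', hc', h'⟩
      · rwa [add_zero]
      · by_cases hab : a ∈ Submodule.span F {b}
        · obtain ⟨d, rfl⟩ := Submodule.mem_span_singleton.1 hab
          by_cases hd : d + 1 = 0
          · refine Or.inl ?_
            have e : d • b + b = (d + 1) • b := by rw [add_smul, one_smul]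
            rw [e, hd, zero_smul]
          · refine Or.inr ⟨g', c' * (d + 1)⁻¹, mul_ne_zero hc' (inv_ne_zero hd), ?_⟩
            have e : d • b + b = (d + 1) • b := by rw [add_smul, one_smul]
            rw [h', mul_smul, e, inv_smul_smul₀ hd]
        · have hb : Tv F ρ b := by
            have h1 := (hr.conj hs g').smul c'⁻¹
            rwa [h', inv_smul_smul₀ hc'] at h1
          obtain ⟨f, hf1, hf2⟩ := exists_dual hab
          obtain ⟨t, ht⟩ := hb f hf1
          refine Or.inr ⟨t * g, c, hc, ?_⟩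
          rw [mul_apply, h, ht, map_smul, hf2, smul_eq_mul, mul_one, smul_add]

variable (hs : Semi F ρ) {r : M} (hr0 : r ≠ 0) (hr : Tv F ρ r)
  (hspan : Submodule.span F {w : M | ∃ g : L, ρ g r = w} = ⊤)
include hs hr hspan

theorem exists_smul {v : M} (hv : v ≠ 0) : ∃ g : L, ∃ c : F, c ≠ 0 ∧ ρ g r = c • v := by
  have h1 : orb F ρ hs r hr = ⊤ := by
    rw [eq_top_iff, ← hspan, Submodule.span_le]
    rintro _ ⟨g, rfl⟩
    exact Or.inr ⟨g, 1, one_ne_zero, (one_smul F _).symm⟩
  have h2 : v ∈ orb F ρ hs r hr := by rw [h1]; exact Submodule.mem_top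
  exact h2.resolve_left hv

/-- all the transvections are induced -/
theorem transv (f : M →ₗ[F] F) (v : M) (hfv : f v = 0) : ∃ g : L, ∀ w, ρ g w = w + f w • v := by
  by_cases hv : v = 0
  · refine ⟨1, fun w => ?_⟩
    rw [hv, smul_zero, add_zero, map_one]; rfl
  · obtain ⟨g, c, hc, h⟩ := exists_smul hs hr hspan hv
    have h1 := (hr.conj hs g).smul c⁻¹
    rw [h, inv_smul_smul₀ hc] at h1
    exact h1 f hfv

theorem move {u v : M} (hu : u ∉ Submodule.span F {v - u}) : ∃ g : L, ρ g u = v := by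
  obtain ⟨f, hf1, hf2⟩ := exists_dual hu
  obtain ⟨g, hg⟩ := transv hs hr hspan f (v - u) hf1
  exact ⟨g, by rw [hg, hf2, one_smul, add_sub_cancel]⟩

theorem move' {u v : M} (hu : u ≠ 0) (h : v ∉ Submodule.span F {u}) : ∃ g : L, ρ g u = v := by
  apply move hs hr hspan
  intro h1
  obtain ⟨c, hc⟩ := Submodule.mem_span_singleton.1 h1
  apply h
  have hc0 : c ≠ 0 := by
    rintro rfl
    rw [zero_smul] at hc
    exact hu hc.symm
  refine Submodule.mem_span_singleton.2 ⟨c⁻¹ + 1, ?_⟩
  rw [add_smul, one_smul]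
  nth_rewrite 1 [← hc]
  rw [inv_smul_smul₀ hc0, sub_add_cancel]

/-- `L` is transitive on the nonzero vectors if `dim M ≥ 2` -/
theorem transitive (h2 : ∀ a : M, ∃ b : M, b ∉ Submodule.span F {a}) {u v : M} (hu : u ≠ 0) (hv : v ≠ 0) :
    ∃ g : L, ρ g u = v := by
  by_cases h : v ∈ Submodule.span F {u}
  · obtain ⟨w, hw⟩ := h2 u
    have hw0 : w ≠ 0 := by
      rintro rfl
      exact hw (zero_mem _)
    obtain ⟨g, hg⟩ := move' hs hr hspan hu hw
    have h3 : v ∉ Submodule.span F {w} := by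
      intro h4
      obtain ⟨c, rfl⟩ := Submodule.mem_span_singleton.1 h4
      have hc : c ≠ 0 := by
        rintro rfl
        exact hv (zero_smul F w)
      apply hw
      have h5 := Submodule.smul_mem _ c⁻¹ h
      rwa [inv_smul_smul₀ hc] at h5
    obtain ⟨k, hk⟩ := move' hs hr hspan hw0 h3
    exact ⟨k * g, by rw [mul_apply, hg, hk]⟩
  · exact move' hs hr hspan hu h

theorem exists_of_equiv {ι : Type*} [Fintype ι] [DecidableEq ι] (e : M ≃ₗ[F] (ι → F))
    (A : Matrix.SpecialLinearGroup ι F) : ∃ g : L, ∀ v, e (ρ g v) = A • e v := by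
  have hA : A ∈ Subgroup.closure (LieClassical.SLGen.transvections ι F) := by
    rw [LieClassical.SLGen.closure_transvections]
    exact Subgroup.mem_top A
  induction hA using Subgroup.closure_induction with
  | mem x hx =>
    obtain ⟨i, j, hij, c, rfl⟩ := hx
    obtain ⟨g, hg⟩ := transv hs hr hspan ((LinearMap.proj j).comp (e : M →ₗ[F] (ι → F)))
      (e.symm (c • Pi.single i (1 : F))) (by simp [hij.symm])
    refine ⟨g, fun v => ?_⟩
    rw [hg v, LieClassical.SLGen.transvection_smul, map_add, map_smul, LinearEquiv.apply_symm_apply, smul_smul]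
    congr 2
    rw [mul_comm]
    rfl
  | one => exact ⟨1, fun v => by rw [one_smul, map_one]; rfl⟩
  | mul x y _ _ hx hy =>
    obtain ⟨g, hg⟩ := hx
    obtain ⟨k, hk⟩ := hy
    refine ⟨g * k, fun v => ?_⟩
    rw [mul_smul, mul_apply, hg, hk]
  | inv x _ hx =>
    obtain ⟨g, hg⟩ := hx
    refine ⟨g⁻¹, fun v => ?_⟩
    rw [eq_inv_smul_iff, ← hg, apply_inv]

/-- `SL(M)` is induced -/
theorem exists_sl [FiniteDimensional F M] (A : M →ₗ[F] M) (hA : LinearMap.det A = 1) :
    ∃ g : L, ∀ v, ρ g v = A v := by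
  classical
  let b := Module.finBasis F M
  let X : Matrix.SpecialLinearGroup (Fin (Module.finrank F M)) F :=
    ⟨LinearMap.toMatrix b b A, by rw [LinearMap.det_toMatrix, hA]⟩
  obtain ⟨g, hg⟩ := exists_of_equiv hs hr hspan b.equivFun X
  refine ⟨g, fun v => b.equivFun.injective ?_⟩
  rw [hg, Matrix.SpecialLinearGroup.smul_def]
  change (LinearMap.toMatrix b b A).mulVec (b.repr v) = b.repr (A v)
  exact LinearMap.toMatrix_mulVec_repr b b A v

end Cfsg.Agent.Omega.Mix.SLn
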