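import Cfsg.Agent.Omega.Mix.One
import Cfsg.Agent.Omega.Mix.OneCo
import Cfsg.Agent.Omega.Mix.Close

/-!
# A mixed pair, `q ≥ 4`: complete
-/

set_option autoImplicit false

namespace Cfsg.Agent.Omega.Mix

open Subgroup Cfsg.Agent.Omega.BTwo Cfsg.Agent.WeakTI.ReduceMain Cfsg.Agent.WeakTI.ReduceComponent

universe u

variable {G : Type u} [Group G] [Finite G] {F₁ F₂ : Type*} [Field F₁] [Field F₂] {V₁ V₂ N₁ N₂ : Subgroup G}
  {M₁ : RMod F₁ V₁ N₁} {M₂ : RMod F₂ V₂ N₂} {R : Subgroup G}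

/-- **a mixed pair, `q ≥ 4`** : the hypotheses of S1179, or `q = 4` and the sectional 2-rank is at most 4 -/
theorem MixedN.exists_ti_or (m : MixedN M₁ M₂ R) [Finite F₁] [Finite F₂] [CharP F₁ 2] [CharP F₂ 2]
    (hq : 4 ≤ Nat.card F₁) : (∃ A : Subgroup G, TIOut A) ∨ Cfsg.SectionalPRankLE 2 4 G := by
  by_cases h8 : 8 ≤ Nat.card F₁
  · obtain ⟨A, -, h⟩ := m.exists_ti_eight h8
    exact Or.inl ⟨A, h⟩
  have h4 : Nat.card F₁ = 4 := by
    have := Fintype.ofFinite F₁
    obtain ⟨n, -, hn⟩ := FiniteField.card F₁ 2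
    rw [Nat.card_eq_fintype_card] at h8 hq ⊢
    rw [hn] at h8 hq ⊢
    have h3 : (n : ℕ) < 3 := by
      by_contra hcon
      push Not at hcon
      have := Nat.pow_le_pow_right (n := 2) (by norm_num) hcon
      omega
    have h5 : 2 ≤ (n : ℕ) := by
      by_contra hcon
      push Not at hcon
      have := Nat.pow_le_pow_right (n := 2) (by norm_num) (Nat.lt_succ_iff.1 hcon)
      omega
    have : (n : ℕ) = 2 := by omega
    rw [this]
    norm_num
  have hF : ∃ l : F₁, l ≠ 0 ∧ l ≠ 1 := by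
    by_contra hcon
    push Not at hcon
    have h4' : Function.Surjective (fun i : Fin 2 => if i = 0 then (0 : F₁) else 1) := by
      intro x
      by_cases h : x = 0
      · exact ⟨0, by rw [h]; rfl⟩
      · exact ⟨1, by rw [hcon x h]; rfl⟩
    have h5 := Nat.card_le_card_of_surjective _ h4'
    simp at h5
    omega
  by_cases hW : LL V₁ R R ≤ V₁
  · exact Or.inr (m.rank_four hW h4)
  · obtain ⟨A, -, h⟩ := m.exists_ti hF hW
    exact Or.inl ⟨A, h⟩

/-- **a mixed pair, `q ≥ 4`** -/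
theorem MixedN.known_of_four (Main : ∀ A : Subgroup G, Red A → InList G) [IsSimpleGroup G]
    (hna : ¬ IsMulCommutative G) (hr : ¬ Cfsg.SectionalPRankLE 2 4 G) (m : MixedN M₁ M₂ R) [Finite F₁] [Finite F₂]
    [CharP F₁ 2] [CharP F₂ 2] (hq : 4 ≤ Nat.card F₁) : Cfsg.IsKnownSimple' G := by
  rcases m.exists_ti_or hq with ⟨A, h⟩ | h
  · exact h.known Main hna
  · exact absurd h hr

end Cfsg.Agent.Omega.Mix
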