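import Cfsg.Agent.Omega.Mix.Defs

/-!
# Mixed mutual pairs (TEXT MIX, bb OMEGA #12374), steps (3) - (5): `C_G(B i C i) = R i`
-/

set_option autoImplicit false

namespace Cfsg.Agent.Omega.Mix

open Subgroup Pointwise Cfsg.Agent.Omega.BTwo

variable {G : Type*} [Group G] {ι : Type*}

theorem sq_eq_of_comm {z y : G} (hc : z * y = y * z) (h : z * y⁻¹ * (z * y⁻¹) = 1) : z * z = y * y := by
  have hc' : y⁻¹ * z = z * y⁻¹ := by
    calc y⁻¹ * z = y⁻¹ * (z * y) * y⁻¹ := by group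
      _ = y⁻¹ * (y * z) * y⁻¹ := by rw [hc]
      _ = z * y⁻¹ := by group
  have h1 : z * z * (y * y)⁻¹ = 1 := by
    calc z * z * (y * y)⁻¹ = z * (z * y⁻¹) * y⁻¹ := by group
      _ = z * (y⁻¹ * z) * y⁻¹ := by rw [hc']
      _ = z * y⁻¹ * (z * y⁻¹) := by group
      _ = 1 := h
  exact mul_inv_eq_one.1 h1

namespace Side

variable {V : Subgroup G} {R B C : ι → Subgroup G} (s : Side V R B C)
include s

theorem b_inv {i : ι} {b : G} (hb : b ∈ B i) : b⁻¹ = b := inv_eq_of_mul_eq_one_left (s.B_sq i b hb)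

theorem c_inv {i : ι} {c : G} (hc : c ∈ C i) : c⁻¹ = c := inv_eq_of_mul_eq_one_left (s.C_sq i c hc)

/-- if `b ∈ B k` maps `R i` to `R j`, then `x = t x'`, `t ∈ T k`, `x' = b x b⁻¹`, for `x ∈ C(V)` -/
theorem split {k : ι} {b x : G} (hb : b ∈ B k) (hx : ∀ v ∈ V, x * v = v * x) :
    ∃ t ∈ TT V (B k), x = t * (b * x * b⁻¹) := by
  refine ⟨(b * x * b⁻¹ * x⁻¹)⁻¹, inv_mem (s.comm_mem_T' hx hb), ?_⟩
  group

/-- `Y i` centralises `C j` -/
theorem Y_C {i j : ι} {y c : G} (hy : y ∈ YY (B i) (C i)) (hc : c ∈ C j) : y * c = c * y := by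
  by_cases hij : i = j
  · subst hij
    exact (mem_YY.1 hy).2 c hc
  obtain ⟨k, hkj, hki, b, hb, e⟩ := s.trans_B j i
  obtain ⟨t, ht, h⟩ := s.split hb (s.C_V hc)
  have h1 : b * c * b⁻¹ ∈ C i := by
    rw [← s.cC b j i e]
    exact conj_mem_cj hc
  rw [h]
  have h2 := s.Y_T hy ht
  have h3 := (mem_YY.1 hy).2 _ h1
  calc y * (t * (b * c * b⁻¹)) = y * t * (b * c * b⁻¹) := by group
    _ = t * (y * (b * c * b⁻¹)) := by rw [h2]; group
    _ = t * (b * c * b⁻¹) * y := by rw [h3]; group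

theorem R_Y (i : ι) : R i ≤ YY (B i) (C i) := by
  intro r hr
  rw [mem_YY]
  exact ⟨fun b hb => s.B_comm i r (s.R_B i hr) b hb, fun c hc => s.C_comm i r (s.V_C i (s.R_V i hr)) c hc⟩

theorem nY (i : ι) : normalizer (R i : Set G) ≤ normalizer (YY (B i) (C i) : Set G) := by
  intro g hg
  rw [← cj_eq_self_iff]
  exact cj_YY (cj_eq_self_iff.2 (s.nB i hg)) (cj_eq_self_iff.2 (s.nC i hg))

theorem cY {g : G} {i j : ι} (e : cj g (R i) = R j) : cj g (YY (B i) (C i)) = YY (B j) (C j) :=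
  cj_YY (s.cB g i j e) (s.cC g i j e)

/-- elements of odd order of `Y i` are in `Y j` -/
theorem odd_mem [Finite G] {i : ι} (j : ι) {y : G} (hy : y ∈ YY (B i) (C i)) (ho : Odd (orderOf y)) :
    y ∈ YY (B j) (C j) := by
  rw [mem_YY]
  refine ⟨?_, fun c hc => s.Y_C hy hc⟩
  intro b hb
  have hyV := s.Y_V hy
  have ht := s.comm_mem_T hyV hb
  set t := y * b * y⁻¹ * b⁻¹ with ht'
  have hyt := s.Y_T hy ht
  have h1 : y * b * y⁻¹ = t * b := by rw [ht']; group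
  have h2 : ∀ n : ℕ, y ^ n * b * (y ^ n)⁻¹ = t ^ n * b := by
    intro n
    induction n with
    | zero => simp
    | succ n ih =>
      have hc : y * t ^ n * y⁻¹ = t ^ n := by
        have : Commute y (t ^ n) := Commute.pow_right hyt n
        rw [this.eq, mul_inv_cancel_right]
      calc y ^ (n + 1) * b * (y ^ (n + 1))⁻¹ = y * (y ^ n * b * (y ^ n)⁻¹) * y⁻¹ := by
            rw [pow_succ' y n]; group
        _ = (y * t ^ n * y⁻¹) * (y * b * y⁻¹) := by rw [ih]; group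
        _ = t ^ n * (t * b) := by rw [hc, h1]
        _ = t ^ (n + 1) * b := by rw [pow_succ]; group
  have h3 := h2 (orderOf y)
  rw [pow_orderOf_eq_one] at h3
  have h4 : t ^ orderOf y = 1 := by
    have : (1 : G) * b * 1⁻¹ = b := by group
    rw [this] at h3
    exact (right_eq_mul.1 h3)
  have h5 : t = 1 := by
    obtain ⟨m, hm⟩ := ho
    rw [hm, pow_succ, pow_mul, pow_two, s.B_sq j t (TT_le _ _ ht), one_pow, one_mul] at h4
    exact h4
  rw [h5, one_mul] at h1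
  exact mul_inv_eq_iff_eq_mul.1 h1

/-! ### (4) -/

/-- `Y i ∩ Y j = 1` -/
theorem Y_inf (hY : ∀ i, IsPGroup 2 (YY (B i) (C i))) {i j : ι} (hij : i ≠ j) :
    YY (B i) (C i) ⊓ YY (B j) (C j) = ⊥ :=
  s.inf_eq_bot (A := fun i => YY (B i) (C i)) (fun _ _ _ _ e => s.cY e) hY
    (fun _ _ ha b hb => ((mem_YY.1 ha).1 b hb).symm) hij

theorem Y_eq_one (hY : ∀ i, IsPGroup 2 (YY (B i) (C i))) {i j : ι} (hij : i ≠ j) {x : G}
    (h1 : x ∈ YY (B i) (C i)) (h2 : x ∈ YY (B j) (C j)) : x = 1 := by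
  have : x ∈ YY (B i) (C i) ⊓ YY (B j) (C j) := ⟨h1, h2⟩
  rw [s.Y_inf hY hij] at this
  exact mem_bot.1 this

theorem Y_comm (hY : ∀ i, IsPGroup 2 (YY (B i) (C i))) {i j : ι} (hij : i ≠ j) {x y : G}
    (hx : x ∈ YY (B i) (C i)) (hy : y ∈ YY (B j) (C j)) : x * y = y * x := by
  apply comm_of_eq_one
  apply s.Y_eq_one hY hij
  · have h1 : y ∈ normalizer (YY (B i) (C i) : Set G) := s.nY i (s.cV_le_NR (s.Y_V hy) i)
    have h2 := conj_mem_of_normalizer h1 (inv_mem hx)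
    have e : x * y * x⁻¹ * y⁻¹ = x * (y * x⁻¹ * y⁻¹) := by group
    rw [e]
    exact mul_mem hx h2
  · have h1 : x ∈ normalizer (YY (B j) (C j) : Set G) := s.nY j (s.cV_le_NR (s.Y_V hx) j)
    exact mul_mem (conj_mem_of_normalizer h1 hy) (inv_mem hy)

/-- `Y i` has exponent 2 -/
theorem Y_sq (hY : ∀ i, IsPGroup 2 (YY (B i) (C i))) {i : ι} {y : G} (hy : y ∈ YY (B i) (C i)) : y * y = 1 := by
  obtain ⟨j, hj, -⟩ := s.third i i
  obtain ⟨b, hb, hbV⟩ := s.exists_move hj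
  obtain ⟨k, hk⟩ := s.perm j b hb i
  have hki : k ≠ i := by
    rintro rfl
    exact hbV (s.free j k (Ne.symm hj) b hb hk)
  have h1 : b * y * b⁻¹ ∈ YY (B k) (C k) := by
    rw [← s.cY hk]
    exact conj_mem_cj hy
  have hc := s.Y_comm hY hki h1 hy
  set z := b * y * b⁻¹ with hz
  have hu := s.comm_mem_T' (s.Y_V hy) hb
  have hu2 := s.B_sq j _ (TT_le _ _ hu)
  rw [← hz] at hu2
  have h3 : z * z = y * y := sq_eq_of_comm hc hu2
  refine s.Y_eq_one hY hki ?_ (mul_mem hy hy)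
  rw [← h3]
  exact mul_mem h1 h1

/-- `Y i ≤ T i` -/
theorem Y_le_T (hY : ∀ i, IsPGroup 2 (YY (B i) (C i))) {i : ι} {y : G} (hy : y ∈ YY (B i) (C i)) :
    y ∈ TT V (B i) := by
  -- `A i = Y i T i`
  set A : ι → Subgroup G := fun i => YY (B i) (C i) ⊔ TT V (B i) with hA
  have hTY : ∀ i, TT V (B i) ≤ normalizer (YY (B i) (C i) : Set G) := by
    intro i t ht
    exact s.nY i (s.cV_le_NR (mem_TT.1 ht).2 i)
  have hmem : ∀ i, ∀ x ∈ A i, ∃ y ∈ YY (B i) (C i), ∃ t ∈ TT V (B i), x = y * t := by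
    intro i x hx
    have h1 : x ∈ ((YY (B i) (C i) : Subgroup G) : Set G) * (TT V (B i) : Set G) := by
      rw [← Subgroup.coe_mul_of_right_le_normalizer_left _ _ (hTY i)]
      exact hx
    obtain ⟨y, hy, t, ht, rfl⟩ := h1
    exact ⟨y, hy, t, ht, rfl⟩
  have hAB : ∀ i, ∀ a ∈ A i, ∀ b ∈ B i, b * a = a * b := by
    intro i a ha b hb
    obtain ⟨y, hy, t, ht, rfl⟩ := hmem i a ha
    have h1 := (mem_YY.1 hy).1 b hb
    have h2 := s.B_comm i b hb t (TT_le _ _ ht)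
    calc b * (y * t) = b * y * t := by group
      _ = y * (b * t) := by rw [← h1]; group
      _ = y * t * b := by rw [h2]; group
  have hAp : ∀ i, IsPGroup 2 (A i) := by
    intro i x
    obtain ⟨y, hy, t, ht, h⟩ := hmem i x x.2
    refine ⟨1, ?_⟩
    apply Subtype.ext
    rw [pow_one, pow_two]
    change (x : G) * x = 1
    have h1 := s.Y_T hy ht
    rw [h]
    calc y * t * (y * t) = y * (t * y) * t := by group
      _ = (y * y) * (t * t) := by rw [← h1]; group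
      _ = 1 := by rw [s.Y_sq hY hy, s.B_sq i t (TT_le _ _ ht), one_mul]
  have hAc : ∀ g ∈ normalizer (V : Set G), ∀ i j, cj g (R i) = R j → cj g (A i) = A j := by
    intro g hg i j e
    rw [hA]
    change cj g (YY (B i) (C i) ⊔ TT V (B i)) = YY (B j) (C j) ⊔ TT V (B j)
    rw [cj_sup, s.cY e, s.cj_T hg e]
  obtain ⟨j, hj, -⟩ := s.third i i
  obtain ⟨k, hkj, hki, b, hb, e⟩ := s.trans_B i j
  obtain ⟨t, ht, h⟩ := s.split hb (s.Y_V hy)
  have h1 : b * y * b⁻¹ ∈ YY (B j) (C j) := by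
    rw [← s.cY e]
    exact conj_mem_cj hy
  set z := b * y * b⁻¹ with hz
  obtain ⟨u, hu, w, hw, htuw⟩ := s.T_sub (Ne.symm hj) k ht
  -- `y = u w z`, `u⁻¹ y = w z ∈ A i ∩ A j`
  have h2 : u⁻¹ * y = w * z := by rw [h, htuw]; group
  have h3 : u⁻¹ * y ∈ A i ⊓ A j := by
    refine ⟨(A i).mul_mem ((A i).inv_mem ((le_sup_right : TT V (B i) ≤ A i) hu)) ((le_sup_left : YY (B i) (C i) ≤ A i) hy), ?_⟩
    rw [h2]
    exact (A j).mul_mem ((le_sup_right : TT V (B j) ≤ A j) hw) ((le_sup_left : YY (B j) (C j) ≤ A j) h1)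
  rw [s.inf_eq_bot hAc hAp hAB (Ne.symm hj)] at h3
  have h4 : u = y := inv_mul_eq_one.1 (mem_bot.1 h3)
  rw [← h4]
  exact hu

/-! ### (5) -/

/-- `[B i, Y j] ≤ Y i` -/
theorem comm_B_Y (hY : ∀ i, IsPGroup 2 (YY (B i) (C i))) {i j : ι} {b y : G} (hb : b ∈ B i)
    (hy : y ∈ YY (B j) (C j)) : b * y * b⁻¹ * y⁻¹ ∈ YY (B i) (C i) := by
  have hyT := s.Y_le_T hY hy
  have h1 := s.comm_mem_T' (s.Y_V hy) hb
  obtain ⟨k, hk⟩ := s.perm i b hb j
  have h2 : b * y * b⁻¹ ∈ YY (B k) (C k) := by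
    rw [← s.cY hk]
    exact conj_mem_cj hy
  rw [mem_YY]
  refine ⟨fun b' hb' => s.B_comm i _ (TT_le _ _ h1) b' hb', fun c hc => ?_⟩
  have h3 := s.Y_C h2 hc
  have h4 := s.Y_C ((YY (B j) (C j)).inv_mem hy) hc
  calc b * y * b⁻¹ * y⁻¹ * c = b * y * b⁻¹ * (y⁻¹ * c) := by group
    _ = (b * y * b⁻¹ * c) * y⁻¹ := by rw [h4]; group
    _ = c * (b * y * b⁻¹ * y⁻¹) := by rw [h3]; group

/-- the elements of `N(R i)` which centralise `B i / Y i`, `C i / Y i` and `Y i` -/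
def Om (R B C : Subgroup G) : Subgroup G where
  carrier := {g | g ∈ normalizer (R : Set G) ∧ g ∈ normalizer (YY B C : Set G) ∧
    (∀ b ∈ B, g * b * g⁻¹ * b⁻¹ ∈ YY B C) ∧ (∀ c ∈ C, g * c * g⁻¹ * c⁻¹ ∈ YY B C) ∧ ∀ y ∈ YY B C, g * y = y * g}
  one_mem' := by
    refine ⟨one_mem _, one_mem _, fun b _ => ?_, fun c _ => ?_, fun y _ => by group⟩
    · have : 1 * b * 1⁻¹ * b⁻¹ = 1 := by group
      rw [this]; exact one_mem _
    · have : 1 * c * 1⁻¹ * c⁻¹ = 1 := by group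
      rw [this]; exact one_mem _
  mul_mem' := by
    rintro g h ⟨g1, g2, g3, g4, g5⟩ ⟨h1, h2, h3, h4, h5⟩
    refine ⟨mul_mem g1 h1, mul_mem g2 h2, fun b hb => ?_, fun c hc => ?_, fun y hy => ?_⟩
    · have e : g * h * b * (g * h)⁻¹ * b⁻¹ = g * (h * b * h⁻¹ * b⁻¹) * g⁻¹ * (g * b * g⁻¹ * b⁻¹) := by group
      rw [e]; exact mul_mem (conj_mem_of_normalizer g2 (h3 b hb)) (g3 b hb)
    · have e : g * h * c * (g * h)⁻¹ * c⁻¹ = g * (h * c * h⁻¹ * c⁻¹) * g⁻¹ * (g * c * g⁻¹ * c⁻¹) := by group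
      rw [e]; exact mul_mem (conj_mem_of_normalizer g2 (h4 c hc)) (g4 c hc)
    · calc g * h * y = g * (h * y) := by group
        _ = (g * y) * h := by rw [h5 y hy]; group
        _ = y * (g * h) := by rw [g5 y hy]; group
  inv_mem' := by
    rintro g ⟨g1, g2, g3, g4, g5⟩
    refine ⟨inv_mem g1, inv_mem g2, fun b hb => ?_, fun c hc => ?_, fun y hy => ?_⟩
    · have e : g⁻¹ * b * g⁻¹⁻¹ * b⁻¹ = g⁻¹ * (g * b * g⁻¹ * b⁻¹)⁻¹ * g := by group
      rw [e]; exact conj_inv_mem_of_normalizer g2 (inv_mem (g3 b hb))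
    · have e : g⁻¹ * c * g⁻¹⁻¹ * c⁻¹ = g⁻¹ * (g * c * g⁻¹ * c⁻¹)⁻¹ * g := by group
      rw [e]; exact conj_inv_mem_of_normalizer g2 (inv_mem (g4 c hc))
    · have := g5 y hy
      calc g⁻¹ * y = g⁻¹ * (y * g) * g⁻¹ := by group
        _ = g⁻¹ * (g * y) * g⁻¹ := by rw [this]
        _ = y * g⁻¹ := by group

theorem Om_isPGroup (hY : ∀ i, IsPGroup 2 (YY (B i) (C i))) (i : ι) : IsPGroup 2 (Om (R i) (B i) (C i)) := by
  have key : ∀ g x : G, g * x * g⁻¹ * x⁻¹ ∈ YY (B i) (C i) → (∀ y ∈ YY (B i) (C i), g * y = y * g) →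
      g * g * x = x * (g * g) := by
    intro g x h1 h2
    have h3 := h2 _ h1
    have h4 := s.Y_sq hY h1
    set y := g * x * g⁻¹ * x⁻¹ with hy
    have h5 : g * x * g⁻¹ = y * x := by rw [hy]; group
    have h6 : g * g * x * (g * g)⁻¹ = x := by
      calc g * g * x * (g * g)⁻¹ = g * (g * x * g⁻¹) * g⁻¹ := by group
        _ = g * y * (x * g⁻¹) := by rw [h5]; group
        _ = y * (g * x * g⁻¹) := by rw [h3]; group
        _ = y * y * x := by rw [h5]; group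
        _ = x := by rw [h4, one_mul]
    exact mul_inv_eq_iff_eq_mul.1 h6
  intro g
  obtain ⟨-, -, h3, h4, h5⟩ := g.2
  refine ⟨2, ?_⟩
  apply Subtype.ext
  change (g : G) ^ 2 ^ 2 = 1
  have h6 : (g : G) * g ∈ YY (B i) (C i) :=
    mem_YY.2 ⟨fun b hb => key g b (h3 b hb) h5, fun c hc => key g c (h4 c hc) h5⟩
  have h7 := s.Y_sq hY h6
  calc (g : G) ^ 2 ^ 2 = (g : G) * g * (g * g) := by norm_num [pow_succ, mul_assoc]
    _ = 1 := h7

theorem Om_le (hY : ∀ i, IsPGroup 2 (YY (B i) (C i))) (i : ι) : Om (R i) (B i) (C i) ≤ QQ (R i) := by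
  refine le_O2_of_normal (fun g hg => hg.1) (s.Om_isPGroup hY i) ?_
  rintro n hn g ⟨g1, g2, g3, g4, g5⟩
  have hnB := s.nB i hn
  have hnC := s.nC i hn
  have hnY := s.nY i hn
  refine ⟨mul_mem (mul_mem hn g1) (inv_mem hn), mul_mem (mul_mem hnY g2) (inv_mem hnY), fun b hb => ?_,
    fun c hc => ?_, fun y hy => ?_⟩
  · have h1 := g3 _ (conj_inv_mem_of_normalizer hnB hb)
    have e : n * g * n⁻¹ * b * (n * g * n⁻¹)⁻¹ * b⁻¹ =
        n * (g * (n⁻¹ * b * n) * g⁻¹ * (n⁻¹ * b * n)⁻¹) * n⁻¹ := by group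
    rw [e]; exact conj_mem_of_normalizer hnY h1
  · have h1 := g4 _ (conj_inv_mem_of_normalizer hnC hc)
    have e : n * g * n⁻¹ * c * (n * g * n⁻¹)⁻¹ * c⁻¹ =
        n * (g * (n⁻¹ * c * n) * g⁻¹ * (n⁻¹ * c * n)⁻¹) * n⁻¹ := by group
    rw [e]; exact conj_mem_of_normalizer hnY h1
  · have h1 := g5 _ (conj_inv_mem_of_normalizer hnY hy)
    calc n * g * n⁻¹ * y = n * (g * (n⁻¹ * y * n)) * n⁻¹ := by group
      _ = n * (n⁻¹ * y * n * g) * n⁻¹ := by rw [h1]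
      _ = y * (n * g * n⁻¹) := by group

/-- `Y j ≤ O₂(N(R i))` -/
theorem Y_le_Q (hY : ∀ i, IsPGroup 2 (YY (B i) (C i))) {i j : ι} (hij : i ≠ j) : YY (B j) (C j) ≤ QQ (R i) := by
  intro y hy
  apply s.Om_le hY i
  have hN := s.cV_le_NR (s.Y_V hy) i
  refine ⟨hN, s.nY i hN, fun b hb => ?_, fun c hc => ?_, fun z hz => ?_⟩
  · have := inv_mem (s.comm_B_Y hY hb hy)
    have e : (b * y * b⁻¹ * y⁻¹)⁻¹ = y * b * y⁻¹ * b⁻¹ := by group
    rwa [e] at this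
  · rw [eq_one_of_comm (s.Y_C hy hc)]
    exact one_mem _
  · exact s.Y_comm hY (Ne.symm hij) hy hz

/-- **(5)** `C_G(B i C i) = R i` -/
theorem Y_eq [Finite G] (hY : ∀ i, IsPGroup 2 (YY (B i) (C i)))
    (hQ : ∀ i, ∀ g ∈ QQ (R i), ∀ b ∈ B i, g * b * g⁻¹ * b⁻¹ ∈ R i) (j : ι) : YY (B j) (C j) = R j := by
  apply le_antisymm _ (s.R_Y j)
  obtain ⟨i, hij, -⟩ := s.third j j
  obtain ⟨b, hb, hbV⟩ := s.exists_move hij
  -- `y ↦ [b, y]` maps `Y j` injectively into `R i`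
  have hmap : ∀ y ∈ YY (B j) (C j), b * y * b⁻¹ * y⁻¹ ∈ R i := by
    intro y hy
    have := inv_mem (hQ i y (s.Y_le_Q hY hij hy) b hb)
    have e : (y * b * y⁻¹ * b⁻¹)⁻¹ = b * y * b⁻¹ * y⁻¹ := by group
    rwa [e] at this
  have hinj : ∀ y ∈ YY (B j) (C j), ∀ z ∈ YY (B j) (C j), b * y * b⁻¹ * y⁻¹ = b * z * b⁻¹ * z⁻¹ → y = z := by
    intro y hy z hz h
    have h1 := comm_of_comm_eq h
    have h2 := s.inj hij hb hbV (mul_mem (inv_mem (TT_le _ _ (s.Y_le_T hY hz))) (TT_le _ _ (s.Y_le_T hY hy))) h1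
    exact (inv_mul_eq_one.1 h2).symm
  have hcard : Nat.card (YY (B j) (C j)) ≤ Nat.card (R j) := by
    have h1 : Nat.card (R i) = Nat.card (R j) := by
      obtain ⟨m, -, -, x, hx, e⟩ := s.trans_B i j
      rw [← e, card_cj]
    rw [← h1]
    refine Nat.card_le_card_of_injective
      (fun y : YY (B j) (C j) => (⟨b * y * b⁻¹ * (y : G)⁻¹, hmap y y.2⟩ : R i)) ?_
    intro y z h
    exact Subtype.ext (hinj y y.2 z z.2 (congrArg Subtype.val h))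
  exact (eq_of_le_of_card_ge (s.R_Y j) hcard).symm.le

end Side

end Cfsg.Agent.Omega.Mix
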