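import Mathlib

/-!
# The Hua lemma of TEXT MIX (2)

`k` a finite field of characteristic 2, `R` a ring in which `r + r = 0`, `α β : k → R` additive with
`α 1 = 1` and `β a⁻¹` inverse to `α a` for `a ≠ 0`.  Then `β = α` and `α` is multiplicative.
-/

set_option autoImplicit false

namespace Cfsg.Agent.Omega.Mix.Hua

variable {k R : Type*} [Field k] [Ring R]

/-- Hua's identity in the form used here (any characteristic). -/
theorem hua_gen (α β : k → R) (hα : ∀ a b, α (a + b) = α a + α b)
    (hβ : ∀ a b, β (a + b) = β a + β b)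
    (hinv : ∀ a, a ≠ 0 → α a * β a⁻¹ = 1 ∧ β a⁻¹ * α a = 1) (a b : k) :
    α (a * a * b) = α a * β b * α a := by
  have hα0 : α 0 = 0 := by
    have := hα 0 0
    rw [add_zero] at this
    exact left_eq_add.mp this
  have hβ0 : β 0 = 0 := by
    have := hβ 0 0
    rw [add_zero] at this
    exact left_eq_add.mp this
  have hαn : ∀ x, α (-x) = -α x := by
    intro x
    have := hα x (-x)
    rw [add_neg_cancel, hα0] at this
    exact (neg_eq_of_add_eq_zero_right this.symm).symm
  by_cases ha : a = 0
  · rw [ha, hα0]; simp [hα0]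
  by_cases hb : b = 0
  · rw [hb, hβ0]; simp [hα0]
  by_cases hab : a * b = 1
  · have h1 : a * a * b = a := by rw [mul_assoc, hab, mul_one]
    have h2 : b = a⁻¹ := eq_inv_of_mul_eq_one_right hab
    rw [h1, h2, (hinv a ha).1, one_mul]
  -- the generic case
  have hc : b⁻¹ - a ≠ 0 := by
    intro h
    apply hab
    have h1 : a = b⁻¹ := (sub_eq_zero.mp h).symm
    rw [h1, inv_mul_cancel₀ hb]
  have hd : a - a * a * b ≠ 0 := by
    intro h
    apply hab
    have h1 : a * (1 - a * b) = 0 := by rw [mul_sub, mul_one, ← mul_assoc]; exact h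
    rcases mul_eq_zero.mp h1 with h2 | h2
    · exact absurd h2 ha
    · exact (sub_eq_zero.mp h2).symm
  have hid : (a - a * a * b)⁻¹ = a⁻¹ + (b⁻¹ - a)⁻¹ := by
    have h1 : b⁻¹ - a = (1 - a * b) * b⁻¹ := by
      rw [sub_mul, one_mul, mul_assoc, mul_inv_cancel₀ hb, mul_one]
    have h2 : (1 - a * b) ≠ 0 := fun h => hab (sub_eq_zero.mp h).symm
    rw [h1]
    have h3 : a - a * a * b = a * (1 - a * b) := by ring
    rw [h3]
    field_simp
    ring
  set A := α a with hA
  set A' := β a⁻¹ with hA'
  set B := β b with hB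
  set B' := α b⁻¹ with hB'
  set C := α (b⁻¹ - a) with hC
  set C' := β (b⁻¹ - a)⁻¹ with hC'
  have hAA' : A * A' = 1 := (hinv a ha).1
  have hA'A : A' * A = 1 := (hinv a ha).2
  have hBB : B' * B = 1 := by
    have := (hinv b⁻¹ (inv_ne_zero hb)).1
    rwa [inv_inv] at this
  have hBB' : B * B' = 1 := by
    have := (hinv b⁻¹ (inv_ne_zero hb)).2
    rwa [inv_inv] at this
  have hCC' : C' * C = 1 := (hinv _ hc).2
  have hCe : C = B' - A := by
    rw [hC, sub_eq_add_neg, hα, hαn, ← sub_eq_add_neg]
  have hD1 : (A' + C') * α (a - a * a * b) = 1 := by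
    have h1 := (hinv _ hd).2
    rw [hid, hβ] at h1
    exact h1
  have hD1' : α (a - a * a * b) * (A' + C') = 1 := by
    have h1 := (hinv _ hd).1
    rw [hid, hβ] at h1
    exact h1
  have hD2 : (A' + C') * (A - A * B * A) = 1 := by
    have e1 : 1 - B * A = B * C := by rw [hCe, mul_sub, hBB']
    have e2 : C' * A * B = C' - B := by
      have h3 : A = B' - C := by rw [hCe]; abel
      rw [h3, mul_sub, sub_mul, hCC', one_mul, mul_assoc, hBB, mul_one]
    calc (A' + C') * (A - A * B * A) = (A' * A) * (1 - B * A) + C' * A * (1 - B * A) := by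
          noncomm_ring
      _ = B * C + (C' * A * B) * C := by rw [hA'A, one_mul, e1]; noncomm_ring
      _ = 1 := by rw [e2, sub_mul, hCC']; abel
  have h4 : α (a - a * a * b) = A - A * B * A := by
    calc α (a - a * a * b) = α (a - a * a * b) * ((A' + C') * (A - A * B * A)) := by
          rw [hD2, mul_one]
      _ = (α (a - a * a * b) * (A' + C')) * (A - A * B * A) := by noncomm_ring
      _ = A - A * B * A := by rw [hD1', one_mul]
  rw [sub_eq_add_neg, hα, hαn, sub_eq_add_neg] at h4
  exact neg_injective (add_left_cancel h4)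

variable [Finite k] [CharP k 2]

/-- **The Hua lemma.** -/
theorem hua (h2 : ∀ r : R, r + r = 0) (α β : k → R) (hα : ∀ a b, α (a + b) = α a + α b)
    (hβ : ∀ a b, β (a + b) = β a + β b) (h1 : α 1 = 1)
    (hinv : ∀ a, a ≠ 0 → α a * β a⁻¹ = 1 ∧ β a⁻¹ * α a = 1) :
    (∀ a, β a = α a) ∧ ∀ a b, α (a * b) = α a * α b := by
  have hg := hua_gen α β hα hβ hinv
  have hab : ∀ a, β a = α a := by
    intro a
    have := hg 1 a
    rw [one_mul, one_mul, h1, one_mul, mul_one] at this
    exact this.symm
  have hsq : ∀ a, α (a * a) = α a * α a := by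
    intro a
    have := hg a 1
    rw [mul_one, hab, h1, mul_one] at this
    exact this
  have hcomm : ∀ a b, α a * α b = α b * α a := by
    intro a b
    have e1 : (a + b) * (a + b) = a * a + b * b := by
      have h3 : a * b + a * b = 0 := CharTwo.add_self_eq_zero _
      calc (a + b) * (a + b) = a * a + b * b + (a * b + a * b) := by ring
        _ = a * a + b * b := by rw [h3, add_zero]
    have e2 := hsq (a + b)
    rw [e1, hα, hα, hsq, hsq] at e2
    have e3 : α a * α b + α b * α a = 0 := by
      have e4 : (α a + α b) * (α a + α b) =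
          (α a * α a + α b * α b) + (α a * α b + α b * α a) := by noncomm_ring
      rw [e4] at e2
      exact left_eq_add.mp e2
    have e5 : α a * α b = -(α b * α a) := eq_neg_of_add_eq_zero_left e3
    rw [e5]
    exact neg_eq_of_add_eq_zero_left (h2 _)
  refine ⟨hab, fun a b => ?_⟩
  obtain ⟨c, rfl⟩ : ∃ c, a = c * c := by
    have := FiniteField.isSquare_of_char_two (F := k) (ringChar.eq_iff.mpr inferInstance) a
    exact this
  have := hg c b
  rw [this, hab, mul_assoc, hcomm b c, ← mul_assoc, hsq]

end Cfsg.Agent.Omega.Mix.Hua
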