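import Cfsg.Agent.Omega.Mix.Pts
import Cfsg.Agent.Omega.Mix.Pairing

/-!
# The lines `V^h`, `h ∈ N(R)`, of a natural module `V` as lines of `W = LL V R R` (TEXT MIX (6))
-/

set_option autoImplicit false
set_option linter.unusedSectionVars false

namespace Cfsg.Agent.Omega.Mix

open Subgroup Cfsg.Agent.Lib.SL2Mat Cfsg.Agent.Omega.BTwo
open Cfsg.Agent.Omega.NatPair (dt dt_smul exists_smul_of_dt exists_comb ap ap_smul ap_zero' ap_one' ap_mul ap_inv_ap ap_ap_inv ap_one)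

variable {G : Type*} [Group G] {F : Type*} [Field F] {V H₀ : Subgroup G} (M : RMod F V H₀)

/-- the elements inducing transvections with axis (and centre) `R` on all the lines `V^h`, `h ∈ N(R)` -/
def ZZ (w : Fin 2 → F) (R : Subgroup G) : Set G := {g | ∀ h ∈ normalizer (R : Set G), h⁻¹ * g * h ∈ M.UW w}

theorem fix_sub {B : Matrix.SpecialLinearGroup (Fin 2) F} {w : Fin 2 → F} (hw : w ≠ 0) (hB : ap B w = w)
    (x : Fin 2 → F) : ∃ t : F, x - ap B x = t • w := by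
  apply exists_smul_of_dt hw
  have h2 : dt (ap B w) (ap B x) = dt w x := by
    unfold dt
    rw [ap_zero', ap_zero', ap_one', ap_one']
    linear_combination (w 0 * x 1 - w 1 * x 0) * det_eq B
  rw [hB] at h2
  unfold dt at h2 ⊢
  rw [Pi.sub_apply, Pi.sub_apply]
  linear_combination -h2

/-- `[e x, g] = e (x - B x)` -/
theorem comm_ind {g : G} {B : Matrix.SpecialLinearGroup (Fin 2) F} (hg : M.Ind g B) (x : Fin 2 → F) :
    M.e x * g * (M.e x)⁻¹ * g⁻¹ = M.e (x - ap B x) := by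
  rw [M.e_sub, ← hg x]
  group

theorem conj_comm (h a g : G) :
    h * a * h⁻¹ * g * (h * a * h⁻¹)⁻¹ * g⁻¹ = h * (a * (h⁻¹ * g * h) * a⁻¹ * (h⁻¹ * g * h)⁻¹) * h⁻¹ := by
  group

variable {w : Fin 2 → F} (hw : w ≠ 0) {R : Subgroup G} (hR : R = M.line w)

include hR in
theorem ZZ_comm {g : G} (hg : g ∈ ZZ M w R) {r : G} (hr : r ∈ R) : r * g = g * r := by
  have h1 := hg 1 (one_mem _)
  rw [inv_one, one_mul, mul_one] at h1
  obtain ⟨B, hB, hB'⟩ := h1
  rw [hR] at hr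
  obtain ⟨c, rfl⟩ := hr
  have h2 := hB' (c • w)
  rw [ap_smul, hB] at h2
  exact (mul_inv_eq_iff_eq_mul.1 h2).symm

include hw hR in
theorem ZZ_line {g : G} (hg : g ∈ ZZ M w R) {h : G} (hh : h ∈ normalizer (R : Set G)) {a : G} (ha : a ∈ cj h V) :
    a * g * a⁻¹ * g⁻¹ ∈ R := by
  obtain ⟨v, hv, rfl⟩ := ha
  obtain ⟨x, rfl⟩ := (M.mem_iff v).1 hv
  show h * M.e x * h⁻¹ * g * (h * M.e x * h⁻¹)⁻¹ * g⁻¹ ∈ R
  rw [conj_comm]
  obtain ⟨B, hB, hB'⟩ := hg h hh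
  rw [comm_ind M hB']
  obtain ⟨t, ht⟩ := fix_sub hw hB x
  rw [ht]
  refine conj_mem_of_normalizer hh ?_
  rw [hR]
  exact ⟨t, rfl⟩

include hw hR in
theorem ZZ_tst (hc : ∀ a ∈ LL V R R, ∀ b ∈ LL V R R, a * b = b * a) {g : G} (hg : g ∈ ZZ M w R) :
    Tst (LL V R R) R g where
  cR := fun r hr => ZZ_comm M hR hg hr
  cm := fun a ha => by
    have hRW : R ≤ LL V R R := by
      refine le_trans ?_ (V_le_LL V R)
      rw [hR]
      exact M.line_le w
    have h : a ∈ LL V R R ∧ a * g * a⁻¹ * g⁻¹ ∈ R := by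
      refine iSup_induction (fun g : {g : G // cj g R = R} => cj (g : G) V)
        (C := fun a => a ∈ LL V R R ∧ a * g * a⁻¹ * g⁻¹ ∈ R) ha ?_ ?_ ?_
      · intro h x hx
        exact ⟨le_iSup (fun g : {g : G // cj g R = R} => cj (g : G) V) h hx,
          ZZ_line M hw hR hg (cj_eq_self_iff.1 h.2) hx⟩
      · refine ⟨one_mem _, ?_⟩
        have : (1 : G) * g * 1⁻¹ * g⁻¹ = 1 := by group
        rw [this]; exact one_mem _
      · rintro x y ⟨hx, hx'⟩ ⟨hy, hy'⟩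
        refine ⟨mul_mem hx hy, ?_⟩
        have e : x * y * g * (x * y)⁻¹ * g⁻¹ = (x * (y * g * y⁻¹ * g⁻¹) * x⁻¹) * (x * g * x⁻¹ * g⁻¹) := by group
        rw [e, hc x hx _ (hRW hy'), mul_inv_cancel_right]
        exact mul_mem hy' hx'
    exact h.2

section lines

variable {K : Type*} [Field K] {κ : K → G} {W' : Subgroup G} (p : Pai κ (LL V R R) W' R)
  (hZ : (W' : Set G) ⊆ ZZ M w R)

include p hw hR in
/-- coordinates of the points of `V^h` -/
theorem exists_T {h : G} (hh : h ∈ normalizer (R : Set G)) :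
    ∃ T : K → F, ∃ T' : F → K, (∀ z : K, M.e (T z • w) = h⁻¹ * κ z * h) ∧ (∀ c, T (T' c) = c) ∧ (∀ z, T' (T z) = z) ∧
      T 0 = 0 := by
  have h1 : ∀ z : K, ∃ c : F, M.e (c • w) = h⁻¹ * κ z * h := by
    intro z
    have h2 : κ z ∈ R := (p.κ_mem _).2 ⟨z, rfl⟩
    have h3 := conj_inv_mem_of_normalizer hh h2
    have h4 : h⁻¹ * κ z * h ∈ M.line w := by rw [← hR]; exact h3
    exact h4
  choose T hT using h1
  have h2 : ∀ c : F, ∃ z : K, κ z = h * M.e (c • w) * h⁻¹ := by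
    intro c
    refine (p.κ_mem _).1 (conj_mem_of_normalizer hh ?_)
    rw [hR]
    exact ⟨c, rfl⟩
  choose T' hT' using h2
  refine ⟨T, T', hT, ?_, ?_, ?_⟩
  · intro c
    apply smul_left_injective F hw
    apply M.e_inj
    show M.e (T (T' c) • w) = M.e (c • w)
    rw [hT, hT']; group
  · intro z
    apply p.κ_inj
    rw [hT', hT]; group
  · apply smul_left_injective F hw
    apply M.e_inj
    show M.e (T 0 • w) = M.e ((0 : F) • w)
    rw [hT, p.κ_zero, zero_smul, M.e_zero]; group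

include p hw hR in
/-- the commutator of `V^h` with an element of `ZZ` -/
theorem T_fm {h : G} (hh : h ∈ normalizer (R : Set G)) {T : K → F} (hT : ∀ z, M.e (T z • w) = h⁻¹ * κ z * h)
    {g : G} (hg : g ∈ ZZ M w R) {x : Fin 2 → F} {B : Matrix.SpecialLinearGroup (Fin 2) F}
    (hB : M.Ind (h⁻¹ * g * h) B) {t : F} (ht : x - ap B x = t • w) : T (fm κ (h * M.e x * h⁻¹) g) = t := by
  have hc := p.comm
  have h1 : h * M.e x * h⁻¹ ∈ LL V R R :=
    cj_le_LL (cj_eq_self_iff.2 hh) (conj_mem_cj (M.e_mem x))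
  apply smul_left_injective F hw
  apply M.e_inj
  show M.e (T _ • w) = M.e (t • w)
  rw [hT, p.spec h1 (ZZ_tst M hw hR hc hg), conj_comm, comm_ind M hB, ht]
  group

include p hw hR hZ in
theorem ln {h : G} (hh : h ∈ normalizer (R : Set G)) : Ln κ (LL V R R) W' (cj h V) (ZZ M w R) where
  le := cj_le_LL (cj_eq_self_iff.2 hh)
  full := by
    rintro b hb ⟨_, ⟨v, hv, rfl⟩, hne⟩ c
    obtain ⟨T, T', hT, hTT', hT'T, hT0⟩ := exists_T M hw hR p hh
    obtain ⟨x, rfl⟩ := (M.mem_iff v).1 hv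
    have hbZ := hZ hb
    obtain ⟨B, hB, hB'⟩ := hbZ h hh
    obtain ⟨t, ht⟩ := fix_sub hw hB x
    have h1 := T_fm M hw hR p hh hT hbZ hB' ht
    have h2 : h * M.e x * h⁻¹ ∈ LL V R R := cj_le_LL (cj_eq_self_iff.2 hh) (conj_mem_cj (M.e_mem x))
    have ht0 : t ≠ 0 := by
      rintro rfl
      apply hne
      have h3 : fm κ (h * M.e x * h⁻¹) b = 0 := by rw [← hT'T (fm κ _ b), h1, ← hT0, hT'T]
      exact (p.fm_eq_zero h2 (p.tst hb)).1 h3
    refine ⟨h * M.e ((T c * t⁻¹) • x) * h⁻¹, conj_mem_cj (M.e_mem _), ?_⟩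
    have h3 : (T c * t⁻¹) • x - ap B ((T c * t⁻¹) • x) = T c • w := by
      rw [ap_smul, ← smul_sub, ht, smul_smul, mul_assoc, inv_mul_cancel₀ ht0, mul_one]
    rw [← hT'T (fm κ _ b), T_fm M hw hR p hh hT hbZ hB' h3, hT'T]
  trs := by
    intro c d hc
    obtain ⟨T, T', hT, hTT', hT'T, hT0⟩ := exists_T M hw hR p hh
    have hTc : T c ≠ 0 := by
      intro h
      apply hc
      rw [← hT'T c, h, ← hT0, hT'T]
    refine ⟨fun z => T' (T d * (T c)⁻¹ * T z), ?_, ?_⟩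
    · show T' (T d * (T c)⁻¹ * T c) = d
      rw [mul_assoc, inv_mul_cancel₀ hTc, mul_one, hT'T]
    · rintro _ ⟨v, hv, rfl⟩
      obtain ⟨x, rfl⟩ := (M.mem_iff v).1 hv
      refine ⟨h * M.e ((T d * (T c)⁻¹) • x) * h⁻¹, conj_mem_cj (M.e_mem _), fun b hb => ?_⟩
      obtain ⟨B, hB, hB'⟩ := hb h hh
      obtain ⟨t, ht⟩ := fix_sub hw hB x
      have h3 : (T d * (T c)⁻¹) • x - ap B ((T d * (T c)⁻¹) • x) = (T d * (T c)⁻¹ * t) • w := by
        rw [ap_smul, ← smul_sub, ht, smul_smul]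
      show fm κ (h * M.e ((T d * (T c)⁻¹) • x) * h⁻¹) b = T' (T d * (T c)⁻¹ * T (fm κ (h * M.e x * h⁻¹) b))
      rw [T_fm M hw hR p hh hT hb hB' ht, ← T_fm M hw hR p hh hT hb hB' h3, hT'T]

include p hw hR in
theorem T_ne {h : G} {T : K → F} {T' : F → K} (hT'T : ∀ z, T' (T z) = z) (hT0 : T 0 = 0) {z : K} (hz : z ≠ 0) :
    T z ≠ 0 := by
  have _ := h
  have _ := p
  have _ := hw
  have _ := hR
  intro h1
  apply hz
  rw [← hT'T z, h1, ← hT0, hT'T]

include p hw hR in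
/-- the scalar `c` on the line `V^h`, explicitly -/
theorem sc_line {h : G} (hh : h ∈ normalizer (R : Set G)) {T : K → F} {T' : F → K}
    (hT : ∀ z, M.e (T z • w) = h⁻¹ * κ z * h) (hT'T : ∀ z, T' (T z) = z) (c : F) :
    ∀ a ∈ cj h V, ∃ a' ∈ cj h V, ∀ b ∈ ZZ M w R, fm κ a' b = T' (c * T (fm κ a b)) := by
  rintro _ ⟨v, hv, rfl⟩
  obtain ⟨x, rfl⟩ := (M.mem_iff v).1 hv
  refine ⟨h * M.e (c • x) * h⁻¹, conj_mem_cj (M.e_mem _), fun b hb => ?_⟩
  obtain ⟨B, hB, hB'⟩ := hb h hh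
  obtain ⟨t, ht⟩ := fix_sub hw hB x
  have h3 : c • x - ap B (c • x) = (c * t) • w := by rw [ap_smul, ← smul_sub, ht, smul_smul]
  show fm κ (h * M.e (c • x) * h⁻¹) b = T' (c * T (fm κ (h * M.e x * h⁻¹) b))
  rw [T_fm M hw hR p hh hT hb hB' ht, ← T_fm M hw hR p hh hT hb hB' h3, hT'T]

end lines

section base

include hw in
/-- the base line -/
theorem lin_base {W' : Subgroup G} (hR : R = M.line w) (p : Pai (fun c : F => M.e (c • w)) (LL V R R) W' R) :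
    Lin (fun c : F => M.e (c • w)) (ZZ M w R) V := by
  intro c a ha
  obtain ⟨x, rfl⟩ := (M.mem_iff a).1 ha
  refine ⟨M.e (c • x), M.e_mem _, fun b hb => ?_⟩
  obtain ⟨B, hB, hB'⟩ := hb 1 (one_mem _)
  obtain ⟨t, ht⟩ := fix_sub hw hB x
  have h3 : c • x - ap B (c • x) = (c * t) • w := by rw [ap_smul, ← smul_sub, ht, smul_smul]
  have hT : ∀ z : F, M.e (z • w) = (1 : G)⁻¹ * (fun c : F => M.e (c • w)) z * 1 := by
    intro z
    show M.e (z • w) = 1⁻¹ * M.e (z • w) * 1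
    group
  have h1 := T_fm M hw hR p (one_mem _) (T := fun z => z) hT hb hB' ht
  have h2 := T_fm M hw hR p (one_mem _) (T := fun z => z) hT hb hB' h3
  have e : ∀ y : G, (1 : G) * y * 1⁻¹ = y := fun y => by group
  rw [e] at h1 h2
  have h1' : fm (fun c : F => M.e (c • w)) (M.e x) b = t := h1
  have h2' : fm (fun c : F => M.e (c • w)) (M.e (c • x)) b = c * t := h2
  rw [h1', h2']

end base

include hw hR in
/-- an element of `ZZ` centralising a vector of `V^h - R` centralises `V^h` -/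
theorem comm_line {g : G} (hg : g ∈ ZZ M w R) {h : G} (hh : h ∈ normalizer (R : Set G)) {a : G} (ha : a ∈ cj h V)
    (haR : a ∉ R) (hag : a * g = g * a) : ∀ a' ∈ cj h V, a' * g = g * a' := by
  obtain ⟨v, hv, rfl⟩ := ha
  obtain ⟨x, rfl⟩ := (M.mem_iff v).1 hv
  obtain ⟨B, hB, hB'⟩ := hg h hh
  have e1 : ∀ y : Fin 2 → F, (h * M.e y * h⁻¹) * g = g * (h * M.e y * h⁻¹) ↔ ap B y = y := by
    intro y
    rw [← M.e_inj.eq_iff, ← hB' y]
    constructor
    · intro h1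
      calc h⁻¹ * g * h * M.e y * (h⁻¹ * g * h)⁻¹ = h⁻¹ * (g * (h * M.e y * h⁻¹)) * g⁻¹ * h := by group
        _ = h⁻¹ * (h * M.e y * h⁻¹ * g) * g⁻¹ * h := by rw [h1]
        _ = M.e y := by group
    · intro h1
      have h2 : g * (h * M.e y * h⁻¹) * g⁻¹ = h * M.e y * h⁻¹ := by
        calc g * (h * M.e y * h⁻¹) * g⁻¹ = h * (h⁻¹ * g * h * M.e y * (h⁻¹ * g * h)⁻¹) * h⁻¹ := by group
          _ = h * M.e y * h⁻¹ := by rw [h1]
      exact (mul_inv_eq_iff_eq_mul.1 h2).symm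
  have hx : ap B x = x := (e1 x).1 hag
  have hwx : dt w x ≠ 0 := by
    intro h0
    obtain ⟨d, rfl⟩ := exists_smul_of_dt hw h0
    apply haR
    refine conj_mem_of_normalizer hh ?_
    rw [hR]
    exact ⟨d, rfl⟩
  rintro _ ⟨v', hv', rfl⟩
  obtain ⟨y, rfl⟩ := (M.mem_iff v').1 hv'
  refine (e1 y).2 ?_
  obtain ⟨α, β, rfl⟩ := exists_comb hwx y
  rw [NatPair.ap_add, ap_smul, ap_smul, hB, hx]

end Cfsg.Agent.Omega.Mix
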