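import Mathlib.Algebra.Module.LinearMap.End
import Mathlib.Algebra.Field.Basic
import Mathlib.Algebra.GroupWithZero.Action.Defs
import Mathlib.Algebra.Group.Subgroup.Pointwise
import Mathlib.Algebra.Module.Submodule.Basic
import Mathlib.Tactic.Abel
import Mathlib.Tactic.Group

/-!
# One field on `A` (OMEGA II.b, (9) of #12374 = (8) of #12407), module level

`L` acts on the abelian group `M`; `R ≤ V ≤ M`; the field `F` acts on `V` commuting with `X ≤ L`, `[M, X] ≤ V`,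
`X = ⟨B, B^g⟩`, `V = R ⊕ gR`, `C_M(B) = R`, `[M, B] ≤ R`, and `M / R` is "closed" under `F` (`kA`).
Then `M` is an `F`-module, `X` acts linearly.
-/

set_option autoImplicit false

namespace Cfsg.Agent.Omega.Mix.OneField

variable {M L F : Type*} [AddCommGroup M] [Group L] [DistribMulAction L M] [Field F]

theorem smul_or {F W : Type*} [Field F] [AddCommGroup W] [Module F W] {c : F} {v : W} (h : c • v = 0) : c = 0 ∨ v = 0 := by
  by_cases hc : c = 0
  · exact Or.inl hc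
  · right
    have := congrArg (fun z => c⁻¹ • z) h
    simpa [smul_smul, inv_mul_cancel₀ hc] using this

/-- the data of a line `V` and two points `R`, `g R` on it -/
structure Data (R V : AddSubgroup M) [Module F V] (B X : Subgroup L) (g : L) : Prop where
  RV : R ≤ V
  RF : ∀ (κ : F) (r : V), (r : M) ∈ R → ((κ • r : V) : M) ∈ R
  BX : B ≤ X
  gX : g ∈ X
  gen : X ≤ B ⊔ B.map (MulAut.conj g).toMonoidHom
  XA : ∀ x ∈ X, ∀ a : M, x • a - a ∈ V
  XF : ∀ x ∈ X, ∀ (κ : F) (v w : V), (w : M) = x • (v : M) → ((κ • w : V) : M) = x • ((κ • v : V) : M)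
  BR : ∀ b ∈ B, ∀ a : M, b • a - a ∈ R
  BfixR : ∀ b ∈ B, ∀ r ∈ R, b • r = r
  cent : ∀ a : M, (∀ b ∈ B, b • a = a) → a ∈ R
  disj : ∀ r ∈ R, g⁻¹ • r ∈ R → r = 0
  span : ∀ v ∈ V, ∃ r ∈ R, ∃ s ∈ R, v = r + g • s
  kA : ∀ (κ : F) (a : M), ∃ a' : M, ∀ b ∈ B, ∀ w : V, (w : M) = b • a - a → b • a' - a' = ((κ • w : V) : M)

namespace Data

variable {R V : AddSubgroup M} [Module F V] {B X : Subgroup L} {g : L} (D : Data (F := F) R V B X g)
include D

/-- `[a, x]` -/
def d (x : X) (a : M) : V := ⟨(x : L) • a - a, D.XA x x.2 a⟩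

theorem d_coe (x : X) (a : M) : ((D.d x a : V) : M) = (x : L) • a - a := rfl

theorem d_add (x : X) (a b : M) : D.d x (a + b) = D.d x a + D.d x b := by
  apply Subtype.ext
  simp only [d_coe, AddSubgroup.coe_add, smul_add]
  abel

theorem d_zero (x : X) : D.d x 0 = 0 := by
  apply Subtype.ext
  simp [d_coe]

theorem XV {x : L} (hx : x ∈ X) {v : M} (hv : v ∈ V) : x • v ∈ V := by
  have h := V.add_mem (D.XA x hx v) hv
  rwa [sub_add_cancel] at h

theorem d_smul (x : X) (κ : F) (v : V) : D.d x ((κ • v : V) : M) = κ • D.d x (v : M) := by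
  have h1 := D.XF x x.2 κ v ⟨(x : L) • (v : M), D.XV x.2 v.2⟩ rfl
  have e : D.d x (v : M) = ⟨(x : L) • (v : M), D.XV x.2 v.2⟩ - v := rfl
  rw [e, smul_sub]
  apply Subtype.ext
  rw [d_coe, AddSubgroup.coe_sub, h1]

theorem d_mul (x y : X) (a : M) : D.d (x * y) a = D.d y a + D.d x (D.d y a : V) + D.d x a := by
  apply Subtype.ext
  simp only [d_coe, AddSubgroup.coe_add, Subgroup.coe_mul, mul_smul, smul_sub]
  abel

theorem d_one (a : M) : D.d 1 a = 0 := by
  apply Subtype.ext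
  simp [d_coe]

/-- `a' = κ a` -/
def Is (κ : F) (a a' : M) : Prop := ∀ x : X, D.d x a' = κ • D.d x a

theorem eq_zero {a : M} (h : ∀ x : X, D.d x a = 0) : a = 0 := by
  have h1 : ∀ x ∈ X, x • a = a := fun x hx => by
    have := congrArg Subtype.val (h ⟨x, hx⟩)
    exact sub_eq_zero.1 this
  have h2 : a ∈ R := D.cent a (fun b hb => h1 b (D.BX hb))
  refine D.disj a h2 ?_
  have h3 : g⁻¹ • a = a := by rw [inv_smul_eq_iff, h1 g D.gX]
  rw [h3]; exact h2

theorem Is.unique {κ : F} {a a' a'' : M} (h : D.Is κ a a') (h' : D.Is κ a a'') : a' = a'' := by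
  rw [← sub_eq_zero]
  refine D.eq_zero fun x => ?_
  have h1 := h x
  rw [← h' x] at h1
  have h2 : a' = (a' - a'') + a'' := by abel
  rw [h2, D.d_add] at h1
  simpa using h1

/-- the elements where `Is` holds form a subgroup -/
theorem is_of_gen {κ : F} {a a' : M} (hB : ∀ b : X, (b : L) ∈ B → D.d b a' = κ • D.d b a)
    (hB' : ∀ b ∈ B, ∀ x : X, (x : L) = g * b * g⁻¹ → D.d x a' = κ • D.d x a) : D.Is κ a a' := by
  let S : Subgroup L :=
    { carrier := {y | ∃ hy : y ∈ X, D.d ⟨y, hy⟩ a' = κ • D.d ⟨y, hy⟩ a}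
      mul_mem' := by
        rintro y z ⟨hy, h1⟩ ⟨hz, h2⟩
        refine ⟨X.mul_mem hy hz, ?_⟩
        have e : (⟨y * z, X.mul_mem hy hz⟩ : X) = ⟨y, hy⟩ * ⟨z, hz⟩ := rfl
        rw [e, D.d_mul, D.d_mul, h1, h2, D.d_smul, smul_add, smul_add]
      one_mem' := ⟨X.one_mem, by
        have e : (⟨1, X.one_mem⟩ : X) = 1 := rfl
        rw [e, D.d_one, D.d_one, smul_zero]⟩
      inv_mem' := by
        rintro y ⟨hy, h1⟩
        refine ⟨X.inv_mem hy, ?_⟩
        have e0 : (⟨y⁻¹, X.inv_mem hy⟩ : X) = (⟨y, hy⟩ : X)⁻¹ := rfl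
        rw [e0]
        -- `d y⁻¹ c = - y⁻¹ (d y c)`
        have e : ∀ c : M, D.d (⟨y, hy⟩ : X)⁻¹ c = -(D.d ⟨y, hy⟩ c) - D.d (⟨y, hy⟩ : X)⁻¹ (D.d ⟨y, hy⟩ c : V) := by
          intro c
          have h2 := D.d_mul (⟨y, hy⟩ : X)⁻¹ ⟨y, hy⟩ c
          rw [inv_mul_cancel, D.d_one] at h2
          have h3 : D.d (⟨y, hy⟩ : X)⁻¹ c + (D.d ⟨y, hy⟩ c + D.d (⟨y, hy⟩ : X)⁻¹ (D.d ⟨y, hy⟩ c : V)) = 0 := by
            rw [add_comm]; exact h2.symm
          rw [eq_neg_of_add_eq_zero_left h3]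
          abel
        rw [e a', e a, h1, D.d_smul, smul_sub, smul_neg] }
  have hle : X ≤ S := by
    refine D.gen.trans (sup_le ?_ ?_)
    · intro b hb
      exact ⟨D.BX hb, hB ⟨b, D.BX hb⟩ hb⟩
    · rintro _ ⟨b, hb, rfl⟩
      have hx : (MulAut.conj g).toMonoidHom b ∈ X := X.mul_mem (X.mul_mem D.gX (D.BX hb)) (X.inv_mem D.gX)
      exact ⟨hx, hB' b hb ⟨_, hx⟩ rfl⟩
  intro x
  obtain ⟨hx, h⟩ := hle x.2
  exact h

theorem exists_is (κ : F) (a : M) : ∃ a', D.Is κ a a' := by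
  obtain ⟨ax, hax⟩ := D.kA κ a
  -- `v0 = [a, g⁻¹]`
  let gi : X := ⟨g⁻¹, X.inv_mem D.gX⟩
  let v0 : V := D.d gi a
  have hc0 : g⁻¹ • a = a + v0 := by
    have : ((v0 : V) : M) = g⁻¹ • a - a := rfl
    rw [this]; abel
  let c : M := ax + ((κ • v0 : V) : M)
  have hdb : ∀ b : X, (b : L) ∈ B → D.d b ax = κ • D.d b a := by
    intro b hb
    apply Subtype.ext
    exact hax b hb (D.d b a) rfl
  have hc : ∀ b : X, (b : L) ∈ B → D.d b c = κ • D.d b (g⁻¹ • a) := by
    intro b hb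
    rw [hc0, D.d_add b a, smul_add, ← hdb b hb, ← D.d_smul, ← D.d_add]
  have hgb : ∀ b : X, ∀ x : X, (x : L) = g * b * g⁻¹ → ∀ y : M, ((D.d x (g • y) : V) : M) = g • ((D.d b y : V) : M) := by
    intro b x hx y
    rw [D.d_coe, D.d_coe, hx, smul_sub, ← mul_smul, ← mul_smul]
    congr 2
    group
  -- `g c` solves the equation for `B^g`
  have hgc : ∀ b ∈ B, ∀ x : X, (x : L) = g * b * g⁻¹ → D.d x (g • c) = κ • D.d x a := by
    intro b hb x hx
    have e1 : g • g⁻¹ • a = a := smul_inv_smul g a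
    apply Subtype.ext
    rw [hgb ⟨b, D.BX hb⟩ x hx c, hc ⟨b, D.BX hb⟩ hb]
    refine (D.XF g D.gX κ (D.d ⟨b, D.BX hb⟩ (g⁻¹ • a)) (D.d x a) ?_).symm
    rw [← hgb ⟨b, D.BX hb⟩ x hx (g⁻¹ • a), e1]
  -- the difference is in `V`
  have hV : g • c - ax ∈ V := by
    have h1 : g • c - ax = (g • ax - ax) + g • ((κ • v0 : V) : M) := by
      change g • (ax + ((κ • v0 : V) : M)) - ax = _
      rw [smul_add]; abel
    rw [h1]
    exact V.add_mem (D.XA g D.gX ax) (D.XV D.gX (κ • v0 : V).2)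
  obtain ⟨r, hr, s, hs, hrs⟩ := D.span _ hV
  refine ⟨ax + r, D.is_of_gen ?_ ?_⟩
  · intro b hb
    rw [D.d_add, hdb b hb]
    have : D.d b r = 0 := by
      apply Subtype.ext
      rw [D.d_coe, D.BfixR b hb r hr, sub_self]; rfl
    rw [this, add_zero]
  · intro b hb x hx
    have h1 : ax + r = g • c + (-(g • s)) := by
      have : g • c = ax + (r + g • s) := by rw [← hrs]; abel
      rw [this]; abel
    rw [h1, D.d_add, hgc b hb x hx]
    have h2 : D.d x (-(g • s)) = 0 := by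
      rw [← smul_neg]
      apply Subtype.ext
      rw [hgb ⟨b, D.BX hb⟩ x hx, D.d_coe, D.BfixR b hb _ (R.neg_mem hs), sub_self, smul_zero]; rfl
    rw [h2, add_zero]

theorem is_add {κ : F} {a a' b b' : M} (h : D.Is κ a a') (k : D.Is κ b b') : D.Is κ (a + b) (a' + b') := fun x => by
  rw [D.d_add, D.d_add, h x, k x, smul_add]

theorem is_add_left {κ μ : F} {a a' a'' : M} (h : D.Is κ a a') (k : D.Is μ a a'') : D.Is (κ + μ) a (a' + a'') :=
  fun x => by rw [D.d_add, h x, k x, add_smul]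

theorem is_mul {κ μ : F} {a a' a'' : M} (h : D.Is κ a' a'') (k : D.Is μ a a') : D.Is (κ * μ) a a'' :=
  fun x => by rw [h x, k x, mul_smul]

theorem is_one (a : M) : D.Is 1 a a := fun x => by rw [one_smul]

theorem is_zero_left (a : M) : D.Is 0 a 0 := fun x => by rw [D.d_zero, zero_smul]

theorem is_zero (κ : F) : D.Is κ 0 0 := fun x => by rw [D.d_zero, smul_zero]

/-- `κ` on `V` -/
theorem is_V (κ : F) (v : V) : D.Is κ (v : M) ((κ • v : V) : M) := fun x => D.d_smul x κ v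

/-- the multiplication by `κ` on `M` -/
noncomputable def sm (κ : F) (a : M) : M := (D.exists_is κ a).choose

theorem sm_spec (κ : F) (a : M) : D.Is κ a (D.sm κ a) := (D.exists_is κ a).choose_spec

theorem sm_eq {κ : F} {a a' : M} (h : D.Is κ a a') : D.sm κ a = a' := (D.sm_spec κ a).unique D h

/-- the field on `M` -/
noncomputable def field : F →+* Module.End ℤ M where
  toFun κ := AddMonoidHom.toIntLinearMap
    { toFun := D.sm κ
      map_zero' := D.sm_eq (D.is_zero κ)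
      map_add' := fun a b => D.sm_eq (D.is_add (D.sm_spec κ a) (D.sm_spec κ b)) }
  map_one' := by
    ext a
    exact D.sm_eq (D.is_one a)
  map_mul' κ μ := by
    ext a
    exact D.sm_eq (D.is_mul (D.sm_spec κ _) (D.sm_spec μ a))
  map_zero' := by
    ext a
    exact D.sm_eq (D.is_zero_left a)
  map_add' κ μ := by
    ext a
    exact D.sm_eq (D.is_add_left (D.sm_spec κ a) (D.sm_spec μ a))

theorem field_apply (κ : F) (a : M) : D.field κ a = D.sm κ a := rfl

theorem field_V (κ : F) (v : V) : D.field κ (v : M) = ((κ • v : V) : M) := D.sm_eq (D.is_V κ v)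

theorem d_field (κ : F) (x : X) (a : M) : D.d x (D.field κ a) = κ • D.d x a := D.sm_spec κ a x

/-- `X` acts linearly -/
theorem field_X (κ : F) {x : L} (hx : x ∈ X) (a : M) : D.field κ (x • a) = x • D.field κ a := by
  have h1 : x • a = a + D.d ⟨x, hx⟩ a := by rw [D.d_coe]; abel
  have h2 : x • D.field κ a = D.field κ a + D.d ⟨x, hx⟩ (D.field κ a) := by rw [D.d_coe]; abel
  rw [h2, D.d_field, h1, map_add, D.field_V]

/-- elements normalising `X` and semilinear on `V` are semilinear -/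
theorem field_N {n : L} (hn : ∀ x ∈ X, n⁻¹ * x * n ∈ X) {τ : F → F}
    (hτ : ∀ (κ : F) (v w : V), (w : M) = n • (v : M) → ((τ κ • w : V) : M) = n • ((κ • v : V) : M)) (κ : F) (a : M) :
    D.field (τ κ) (n • a) = n • D.field κ a := by
  refine D.sm_eq fun x => ?_
  have e : ∀ c : M, ((D.d x (n • c) : V) : M) = n • ((D.d ⟨n⁻¹ * x * n, hn x x.2⟩ c : V) : M) := by
    intro c
    rw [D.d_coe, D.d_coe, smul_sub, ← mul_smul, ← mul_smul]
    congr 2
    group
  apply Subtype.ext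
  rw [e, D.d_field]
  exact (hτ κ _ _ (e a)).symm

end Data

/-- the data of a line, with the stabilisers `N` of `V` and `H` of `R` -/
structure Line (R V : AddSubgroup M) [Module F V] (B X N H : Subgroup L) (g : L) : Prop
    extends Data (F := F) R V B X g where
  NX : ∀ n ∈ N, ∀ x ∈ X, n⁻¹ * x * n ∈ X
  NF : ∀ n ∈ N, ∃ τ : F ≃+* F, ∀ (κ : F) (v w : V), (w : M) = n • (v : M) →
    ((τ κ • w : V) : M) = n • ((κ • v : V) : M)
  NV : ∀ n ∈ N, ∀ v ∈ V, n • v ∈ V
  stab : ∀ n : L, (∀ v ∈ V, n • v ∈ V) → n ∈ N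
  HB : ∀ h ∈ H, ∀ b ∈ B, h⁻¹ * b * h ∈ B
  HR : ∀ h ∈ H, ∀ r ∈ R, h • r ∈ R
  HF : ∀ h ∈ H, ∃ τ : F ≃+* F, ∀ (κ : F) (v w : V), (v : M) ∈ R → (w : M) = h • (v : M) →
    ((τ κ • w : V) : M) = h • ((κ • v : V) : M)
  R_ne : ∃ r ∈ R, r ≠ 0
  one : ∀ v w : V, (w : M) ∉ R → ∃ κ : F, ((v - κ • w : V) : M) ∈ R
  full : ∀ c : M, c ∉ V → ∀ r ∈ R, ∃ b ∈ B, (∀ v ∈ V, b • v = v) ∧ b • c - c = r
  torus : ∃ t ∈ X, ∃ μ ν : F, μ ≠ 1 ∧ ν ≠ 1 ∧ (∀ v : V, (v : M) ∈ R → t • (v : M) = ((μ • v : V) : M)) ∧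
    ∀ v : V, g⁻¹ • (v : M) ∈ R → t • (v : M) = ((ν • v : V) : M)

namespace Line

variable {R V : AddSubgroup M} [Module F V] {B X N H : Subgroup L} {g : L} (D : Line (F := F) R V B X N H g)
include D

/-- an element of the stabiliser of `V`, linear on `R`, commutes with the field -/
theorem field_comm {n : L} (hn : n ∈ N) (hlin : ∀ (κ : F) (v w : V), (v : M) ∈ R → (w : M) = n • (v : M) →
    ((κ • w : V) : M) = n • ((κ • v : V) : M)) (κ : F) (a : M) : D.field κ (n • a) = n • D.field κ a := by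
  obtain ⟨τ, hτ⟩ := D.NF n hn
  have h1 : ∀ κ, τ κ = κ := by
    intro κ
    obtain ⟨r, hr, hr0⟩ := D.R_ne
    have hrV := D.RV hr
    have e1 := hτ κ ⟨r, hrV⟩ ⟨n • r, D.NV n hn r hrV⟩ rfl
    have e2 := hlin κ ⟨r, hrV⟩ ⟨n • r, D.NV n hn r hrV⟩ hr rfl
    rw [← e2] at e1
    have e3 : (τ κ) • (⟨n • r, D.NV n hn r hrV⟩ : V) = κ • (⟨n • r, D.NV n hn r hrV⟩ : V) := Subtype.ext e1
    rw [← sub_eq_zero, ← sub_smul] at e3
    rcases smul_or e3 with e3 | e3
    · exact sub_eq_zero.1 e3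
    · exfalso
      apply hr0
      have := congrArg Subtype.val e3
      change n • r = 0 at this
      rwa [smul_eq_zero_iff_eq] at this
  have h2 := D.toData.field_N (n := n) (D.NX n hn) (τ := τ) hτ κ a
  rwa [h1] at h2

/-- `h σ h⁻¹` and `σ` agree modulo `R`, and on `R` -/
theorem delta_mem {h : L} (hh : h ∈ H) {τ : F ≃+* F} (hτ : ∀ (κ : F) (v w : V), (v : M) ∈ R → (w : M) = h • (v : M) →
    ((τ κ • w : V) : M) = h • ((κ • v : V) : M)) (κ : F) (a : M) :
    h • D.field κ a - D.field (τ κ) (h • a) ∈ R := by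
  apply D.cent
  intro b hb
  have hb' := D.HB h hh b hb
  have hbX := D.BX hb
  have e1 : b • h • D.field κ a = h • D.field κ a + h • ((D.toData.d ⟨_, D.BX hb'⟩ (D.field κ a) : V) : M) := by
    rw [D.toData.d_coe, smul_sub, ← mul_smul, ← mul_smul]
    have : h * (h⁻¹ * b * h) = b * h := by group
    simp only [this]
    abel
  have e2 : b • D.field (τ κ) (h • a) = D.field (τ κ) (h • a) + ((τ κ • D.toData.d ⟨b, hbX⟩ (h • a) : V) : M) := by
    rw [← D.toData.d_field, D.toData.d_coe]; abel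
  have e3 : ((D.toData.d ⟨b, hbX⟩ (h • a) : V) : M) = h • ((D.toData.d ⟨_, D.BX hb'⟩ a : V) : M) := by
    rw [D.toData.d_coe, D.toData.d_coe, smul_sub, ← mul_smul, ← mul_smul]
    congr 2
    change b * h = h * (h⁻¹ * b * h)
    group
  have e4 := hτ κ (D.toData.d ⟨_, D.BX hb'⟩ a) (D.toData.d ⟨b, hbX⟩ (h • a)) (D.BR _ hb' a) e3
  rw [smul_sub, e1, e2, D.toData.d_field, e4]
  abel

/-- **torus elements adapted to `h V`** -/
theorem exists_torus {h : L} (hh : h ∈ H) (hV : ¬ ∀ v ∈ V, h • v ∈ V) :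
    ∃ t ∈ X, ∃ μ : F, μ ≠ 1 ∧ (∀ v : V, (v : M) ∈ R → t • (v : M) = ((μ • v : V) : M)) ∧
      (∀ v ∈ V, t • h • v - h • v ∈ R) ∧ ∀ a : M, ∃ v ∈ V, t • (a - v) = a - v := by
  obtain ⟨t0, ht0, μ, ν, hμ, hν, h1, h2⟩ := D.torus
  -- `M = V + C(t0)`
  have hspan : ∀ a : M, ∃ v ∈ V, t0 • (a - v) = a - v := by
    intro a
    obtain ⟨r, hr, s, hs, hrs⟩ := D.span _ (D.XA t0 ht0 a)
    have hrV := D.RV hr
    have hsV := D.toData.XV D.gX (D.RV hs)
    have hμ' : μ - 1 ≠ 0 := sub_ne_zero.2 hμ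
    have hν' : ν - 1 ≠ 0 := sub_ne_zero.2 hν
    let v1 : V := (μ - 1)⁻¹ • ⟨r, hrV⟩
    let v2 : V := (ν - 1)⁻¹ • ⟨g • s, hsV⟩
    have hv1 : (v1 : M) ∈ R := D.RF _ _ hr
    have hv2 : g⁻¹ • (v2 : M) ∈ R := by
      have e := D.XF g⁻¹ (X.inv_mem D.gX) (ν - 1)⁻¹ ⟨g • s, hsV⟩ ⟨s, D.RV hs⟩ (by
        change s = g⁻¹ • g • s
        rw [inv_smul_smul])
      have e' : g⁻¹ • (v2 : M) = (((ν - 1)⁻¹ • (⟨s, D.RV hs⟩ : V) : V) : M) := e.symm
      rw [e']
      exact D.RF _ _ hs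
    have e1 : t0 • (v1 : M) = v1 + r := by
      rw [h1 v1 hv1]
      have : μ • v1 = v1 + ⟨r, hrV⟩ := by
        have e : μ • v1 = v1 + (μ - 1) • v1 := by rw [sub_smul, one_smul]; abel
        rw [e]
        congr 1
        change (μ - 1) • ((μ - 1)⁻¹ • (⟨r, hrV⟩ : V)) = _
        rw [smul_smul, mul_inv_cancel₀ hμ', one_smul]
      rw [this]; rfl
    have e2 : t0 • (v2 : M) = v2 + g • s := by
      rw [h2 v2 hv2]
      have : ν • v2 = v2 + ⟨g • s, hsV⟩ := by
        have e : ν • v2 = v2 + (ν - 1) • v2 := by rw [sub_smul, one_smul]; abel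
        rw [e]
        congr 1
        change (ν - 1) • ((ν - 1)⁻¹ • (⟨g • s, hsV⟩ : V)) = _
        rw [smul_smul, mul_inv_cancel₀ hν', one_smul]
      rw [this]; rfl
    refine ⟨v1 + v2, (v1 + v2).2, ?_⟩
    have e3 : t0 • a = a + (r + g • s) := by rw [← hrs]; abel
    rw [smul_sub, smul_add, e1, e2, e3]
    abel
  -- an element `w' = h w` outside of `V`
  obtain ⟨w, hw, hwV⟩ : ∃ w ∈ V, h • w ∉ V := by
    push Not at hV
    exact hV
  obtain ⟨v, hv, hvc⟩ := hspan (h • w)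
  have hcV : h • w - v ∉ V := fun h3 => hwV (by
    have := V.add_mem h3 hv
    rwa [sub_add_cancel] at this)
  obtain ⟨r1, hr1, s1, hs1, hrs⟩ := D.span v hv
  -- a transvection `u` with centre in `gR`
  have hgc : g⁻¹ • (h • w - v) ∉ V := by
    intro h3
    apply hcV
    have := D.toData.XV D.gX h3
    rwa [smul_inv_smul] at this
  obtain ⟨b, hb, hbV, hbc⟩ := D.full _ hgc s1 hs1
  have huX : g * b * g⁻¹ ∈ X := X.mul_mem (X.mul_mem D.gX (D.BX hb)) (X.inv_mem D.gX)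
  have huV : ∀ v ∈ V, (g * b * g⁻¹) • v = v := by
    intro v hv
    rw [mul_smul, mul_smul, hbV _ (D.toData.XV (X.inv_mem D.gX) hv), smul_inv_smul]
  have huV' : ∀ v ∈ V, (g * b * g⁻¹)⁻¹ • v = v := by
    intro v hv
    rw [inv_smul_eq_iff, huV v hv]
  have huc : (g * b * g⁻¹) • (h • w - v) = (h • w - v) + g • s1 := by
    rw [mul_smul, mul_smul]
    have : b • g⁻¹ • (h • w - v) = g⁻¹ • (h • w - v) + s1 := by rw [← hbc]; abel
    rw [this, smul_add, smul_inv_smul]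
  set u := g * b * g⁻¹ with hu
  have htX : u * t0 * u⁻¹ ∈ X := X.mul_mem (X.mul_mem huX ht0) (X.inv_mem huX)
  have htV : ∀ v ∈ V, (u * t0 * u⁻¹) • v = t0 • v := by
    intro v hv
    rw [mul_smul, mul_smul, huV' v hv, huV _ (D.toData.XV ht0 hv)]
  -- `w' - r1` is centralised
  have hw1 : h • w - r1 = u • (h • w - v) := by
    rw [huc, hrs]; abel
  have htw : (u * t0 * u⁻¹) • (h • w) - h • w ∈ R := by
    have e1 : (u * t0 * u⁻¹) • (h • w - r1) = h • w - r1 := by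
      rw [hw1, mul_smul, mul_smul, inv_smul_smul, hvc]
    rw [smul_sub, htV r1 (D.RV hr1)] at e1
    have e2 : (u * t0 * u⁻¹) • (h • w) - h • w = t0 • r1 - r1 := by
      rw [sub_eq_iff_eq_add] at e1
      rw [e1]; abel
    rw [e2]
    have e3 := h1 ⟨r1, D.RV hr1⟩ hr1
    change t0 • r1 = _ at e3
    rw [e3]
    exact R.sub_mem (D.RF μ ⟨r1, D.RV hr1⟩ hr1) hr1
  refine ⟨u * t0 * u⁻¹, htX, μ, hμ, ?_, ?_, ?_⟩
  · intro v hv
    rw [htV v v.2, h1 v hv]
  · intro v' hv'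
    -- `v' = κ w + r`
    have hwR : w ∉ R := fun h3 => hwV (D.RV (D.HR h hh w h3))
    obtain ⟨κ, hκ⟩ := D.one ⟨v', hv'⟩ ⟨w, hw⟩ hwR
    obtain ⟨τ, hτ⟩ := D.HF h hh
    have e1 := D.delta_mem hh hτ κ w
    have e2 : D.field κ w = ((κ • (⟨w, hw⟩ : V) : V) : M) := D.toData.field_V κ ⟨w, hw⟩
    rw [e2] at e1
    -- `h v' = σ (h w) + (element of R)`
    obtain ⟨r, hr, e3⟩ : ∃ r ∈ R, h • v' = D.field (τ κ) (h • w) + r := by
      refine ⟨h • v' - D.field (τ κ) (h • w), ?_, by abel⟩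
      have e4 : h • v' - D.field (τ κ) (h • w) =
          h • ((((⟨v', hv'⟩ : V) - κ • (⟨w, hw⟩ : V) : V) : M)) +
            (h • ((κ • (⟨w, hw⟩ : V) : V) : M) - D.field (τ κ) (h • w)) := by
        rw [AddSubgroup.coe_sub, smul_sub]
        abel
      rw [e4]
      exact R.add_mem (D.HR h hh _ hκ) e1
    have e5 : (u * t0 * u⁻¹) • r - r ∈ R := by
      rw [htV r (D.RV hr)]
      have e6 := h1 ⟨r, D.RV hr⟩ hr
      change t0 • r = _ at e6
      rw [e6]
      exact R.sub_mem (D.RF μ ⟨r, D.RV hr⟩ hr) hr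
    have e7 : (u * t0 * u⁻¹) • D.field (τ κ) (h • w) - D.field (τ κ) (h • w) ∈ R := by
      rw [← D.toData.field_X (τ κ) htX, ← map_sub]
      have e8 := D.toData.field_V (τ κ) ⟨_, D.RV htw⟩
      change D.field (τ κ) ((u * t0 * u⁻¹) • h • w - h • w) = _ at e8
      rw [e8]
      exact D.RF _ _ htw
    have e9 : (u * t0 * u⁻¹) • h • v' - h • v' =
        ((u * t0 * u⁻¹) • D.field (τ κ) (h • w) - D.field (τ κ) (h • w)) + ((u * t0 * u⁻¹) • r - r) := by
      rw [e3, smul_add]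
      abel
    rw [e9]
    exact R.add_mem e7 e5
  · intro a
    obtain ⟨v2, hv2, h3⟩ := hspan (u⁻¹ • a)
    refine ⟨v2, hv2, ?_⟩
    have e1 : u • v2 = v2 := huV v2 hv2
    have e2 : a - v2 = u • (u⁻¹ • a - v2) := by rw [smul_sub, smul_inv_smul, e1]
    rw [e2, mul_smul, mul_smul, inv_smul_smul, h3]

/-- an element `s` acting as `μ ≠ 1` on `R` with `[v, s] ∈ R`: then `v + r` is centralised by `s` for some `r ∈ R` -/
theorem exists_fix {s : L} {μ : F} (hμ : μ ≠ 1) (h1 : ∀ v : V, (v : M) ∈ R → s • (v : M) = ((μ • v : V) : M)) {v : M}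
    (hv : s • v - v ∈ R) : ∃ r ∈ R, s • (v + r) = v + r := by
  have hμ' : 1 - μ ≠ 0 := sub_ne_zero.2 hμ.symm
  let r : V := (1 - μ)⁻¹ • ⟨_, D.RV hv⟩
  have hr : (r : M) ∈ R := D.RF _ _ hv
  refine ⟨r, hr, ?_⟩
  have e : r = μ • r + ⟨_, D.RV hv⟩ := by
    have e1 : (1 - μ) • r = ⟨_, D.RV hv⟩ := by
      change (1 - μ) • ((1 - μ)⁻¹ • (⟨_, D.RV hv⟩ : V)) = _
      rw [smul_smul, mul_inv_cancel₀ hμ', one_smul]
    rw [← e1, sub_smul, one_smul]
    abel
  have e2 : (r : M) = ((μ • r : V) : M) + (s • v - v) := by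
    conv_lhs => rw [e]
    rfl
  rw [smul_add, h1 r hr]
  calc s • v + ((μ • r : V) : M) = v + (((μ • r : V) : M) + (s • v - v)) := by abel
    _ = v + r := by rw [← e2]

/-- **one field**: `H` acts semilinearly -/
theorem field_H {h : L} (hh : h ∈ H) {τ : F ≃+* F} (hτ : ∀ (κ : F) (v w : V), (v : M) ∈ R → (w : M) = h • (v : M) →
    ((τ κ • w : V) : M) = h • ((κ • v : V) : M)) (κ : F) (a : M) :
    D.field (τ κ) (h • a) = h • D.field κ a := by
  by_cases hV : ∀ v ∈ V, h • v ∈ V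
  · -- `h` normalises `V`
    have hn := D.stab h hV
    obtain ⟨τ', hτ'⟩ := D.NF h hn
    have h1 : ∀ κ, τ' κ = τ κ := by
      intro κ
      obtain ⟨r, hr, hr0⟩ := D.R_ne
      have hrV := D.RV hr
      have e1 := hτ' κ ⟨r, hrV⟩ ⟨h • r, hV r hrV⟩ rfl
      have e2 := hτ κ ⟨r, hrV⟩ ⟨h • r, hV r hrV⟩ hr rfl
      rw [← e2] at e1
      have e3 : (τ' κ) • (⟨h • r, hV r hrV⟩ : V) = τ κ • (⟨h • r, hV r hrV⟩ : V) := Subtype.ext e1
      rw [← sub_eq_zero, ← sub_smul] at e3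
      rcases smul_or e3 with e3 | e3
      · exact sub_eq_zero.1 e3
      · exfalso
        apply hr0
        have := congrArg Subtype.val e3
        change h • r = 0 at this
        rwa [smul_eq_zero_iff_eq] at this
    have h2 := D.toData.field_N (n := h) (D.NX h hn) (τ := τ') hτ' κ a
    rwa [h1] at h2
  · have hV' : ¬ ∀ v ∈ V, h⁻¹ • v ∈ V := by
      intro h1
      apply hV
      have h2 := D.NV _ (N.inv_mem (D.stab _ h1))
      rwa [inv_inv] at h2
    obtain ⟨t, ht, μ, hμ, ht1, ht2, ht3⟩ := D.exists_torus hh hV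
    obtain ⟨s, hs, ν, hν, hs1, hs2, -⟩ := D.exists_torus (H.inv_mem hh) hV'
    -- `δ`
    let δ : M → M := fun a => h • D.field κ (h⁻¹ • a) - D.field (τ κ) a
    have δR : ∀ a, δ a ∈ R := by
      intro a
      have := D.delta_mem hh hτ κ (h⁻¹ • a)
      rwa [smul_inv_smul] at this
    have δadd : ∀ a b, δ (a + b) = δ a + δ b := by
      intro a b
      change h • D.field κ (h⁻¹ • (a + b)) - D.field (τ κ) (a + b) = _
      rw [smul_add, map_add, smul_add, map_add]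
      change _ = (h • D.field κ (h⁻¹ • a) - D.field (τ κ) a) + (h • D.field κ (h⁻¹ • b) - D.field (τ κ) b)
      abel
    have hR' : ∀ r ∈ R, h⁻¹ • r ∈ R := fun r hr => D.HR _ (H.inv_mem hh) r hr
    have δ0 : ∀ r ∈ R, δ r = 0 := by
      intro r hr
      have e1 := D.toData.field_V κ ⟨h⁻¹ • r, D.RV (hR' r hr)⟩
      have e2 := D.toData.field_V (τ κ) ⟨r, D.RV hr⟩
      have e3 := hτ κ ⟨h⁻¹ • r, D.RV (hR' r hr)⟩ ⟨r, D.RV hr⟩ (hR' r hr) (by
        change r = h • h⁻¹ • r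
        rw [smul_inv_smul])
      change h • D.field κ (h⁻¹ • r) - D.field (τ κ) r = 0
      change D.field κ (h⁻¹ • r) = _ at e1
      change D.field (τ κ) r = _ at e2
      rw [e1, e2, e3, sub_self]
    -- elements commuting with `δ` kill the fixed vectors
    have kill : ∀ y : L, (∃ μ : F, μ ≠ 1 ∧ ∀ v : V, (v : M) ∈ R → y • (v : M) = ((μ • v : V) : M)) →
        (∀ a, δ (y • a) = y • δ a) → ∀ a, y • a = a → δ a = 0 := by
      rintro y ⟨μ, hμ, hy1⟩ hy2 a ha
      have e1 := hy2 a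
      rw [ha] at e1
      have e2 := hy1 ⟨δ a, D.RV (δR a)⟩ (δR a)
      change y • δ a = _ at e2
      rw [e2] at e1
      have e3 : (1 - μ) • (⟨δ a, D.RV (δR a)⟩ : V) = 0 := by
        rw [sub_smul, one_smul, sub_eq_zero]
        exact Subtype.ext e1
      rcases smul_or e3 with e3 | e3
      · exact absurd (sub_eq_zero.1 e3).symm hμ
      · exact congrArg Subtype.val e3
    -- `t` commutes with `δ`
    have htδ : ∀ a, δ (t • a) = t • δ a := by
      intro a
      -- `t' = h⁻¹ t h` normalises `V`, is linear on `R`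
      have hn : h⁻¹ * t * h ∈ N := by
        apply D.stab
        intro v hv
        have h3 := ht2 v hv
        have e : (h⁻¹ * t * h) • v = v + h⁻¹ • (t • h • v - h • v) := by
          rw [smul_sub, inv_smul_smul, mul_smul, mul_smul]; abel
        rw [e]
        exact V.add_mem hv (D.RV (hR' _ h3))
      have hlin : ∀ (κ : F) (v w : V), (v : M) ∈ R → (w : M) = (h⁻¹ * t * h) • (v : M) →
          ((κ • w : V) : M) = (h⁻¹ * t * h) • ((κ • v : V) : M) := by
        intro κ v w hv hw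
        have hhv := D.HR h hh v hv
        have a1 := ht1 ⟨h • (v : M), D.RV hhv⟩ hhv
        change t • h • (v : M) = _ at a1
        -- `w = h⁻¹ (μ (h v))`
        have a2 : (w : M) = h⁻¹ • ((μ • (⟨h • (v : M), D.RV hhv⟩ : V) : V) : M) := by
          rw [hw, mul_smul, mul_smul, a1]
        have a3 : h • (w : M) = ((μ • (⟨h • (v : M), D.RV hhv⟩ : V) : V) : M) := by rw [a2, smul_inv_smul]
        have hwR : (w : M) ∈ R := by
          rw [a2]; exact hR' _ (D.RF _ _ hhv)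
        have b1 := hτ κ v ⟨h • (v : M), D.RV hhv⟩ hv rfl
        have hhw := D.HR h hh w hwR
        have b2 := hτ κ w ⟨h • (w : M), D.RV hhw⟩ hwR rfl
        -- `h (κ w) = τκ (h w) = τκ μ (h v) = μ τκ (h v) = t h (κ v)`
        have b3 : (⟨h • (w : M), D.RV hhw⟩ : V) = μ • (⟨h • (v : M), D.RV hhv⟩ : V) := Subtype.ext a3
        have b4 : h • ((κ • w : V) : M) = t • h • ((κ • v : V) : M) := by
          rw [← b2, b3, smul_smul, mul_comm, ← smul_smul, ← b1]
          exact (ht1 _ (D.RF _ _ hhv)).symm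
        rw [mul_smul, mul_smul, ← b4, inv_smul_smul]
      have e1 := D.field_comm hn hlin κ (h⁻¹ • a)
      have e2 : (h⁻¹ * t * h) • h⁻¹ • a = h⁻¹ • t • a := by
        rw [← mul_smul, ← mul_smul]
        congr 1
        group
      rw [e2] at e1
      have e3 : h • D.field κ (h⁻¹ • t • a) = t • h • D.field κ (h⁻¹ • a) := by
        rw [e1, mul_smul, mul_smul, smul_inv_smul]
      change h • D.field κ (h⁻¹ • t • a) - D.field (τ κ) (t • a) = t • (h • D.field κ (h⁻¹ • a) - D.field (τ κ) a)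
      rw [e3, D.toData.field_X _ ht, smul_sub]
    -- `y = h s h⁻¹` commutes with `δ`
    have hy1 : ∃ μ : F, μ ≠ 1 ∧ ∀ v : V, (v : M) ∈ R → (h * s * h⁻¹) • (v : M) = ((μ • v : V) : M) := by
      refine ⟨τ ν, fun h3 => hν (by rw [← map_one τ] at h3; exact τ.injective h3), ?_⟩
      intro v hv
      have hv' := hR' v hv
      have a1 := hs1 ⟨h⁻¹ • (v : M), D.RV hv'⟩ hv'
      change s • h⁻¹ • (v : M) = _ at a1
      rw [mul_smul, mul_smul, a1]
      exact (hτ ν ⟨h⁻¹ • (v : M), D.RV hv'⟩ v hv' (by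
        change (v : M) = h • h⁻¹ • (v : M)
        rw [smul_inv_smul])).symm
    have hyV : ∀ v ∈ V, (h * s * h⁻¹) • v - v ∈ R := by
      intro v hv
      have e : (h * s * h⁻¹) • v - v = h • (s • h⁻¹ • v - h⁻¹ • v) := by
        rw [smul_sub, smul_inv_smul, mul_smul, mul_smul]
      rw [e]
      exact D.HR h hh _ (hs2 v hv)
    have hyδ : ∀ a, δ ((h * s * h⁻¹) • a) = (h * s * h⁻¹) • δ a := by
      intro a
      have hn : h * s * h⁻¹ ∈ N := by
        apply D.stab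
        intro v hv
        have e : (h * s * h⁻¹) • v = v + ((h * s * h⁻¹) • v - v) := by abel
        rw [e]
        exact V.add_mem hv (D.RV (hyV v hv))
      obtain ⟨μ', hμ', hy1'⟩ := hy1
      have hlin : ∀ (κ : F) (v w : V), (v : M) ∈ R → (w : M) = (h * s * h⁻¹) • (v : M) →
          ((κ • w : V) : M) = (h * s * h⁻¹) • ((κ • v : V) : M) := by
        intro κ v w hv hw
        rw [hy1' v hv] at hw
        have hw' : w = μ' • v := Subtype.ext hw
        rw [hw', hy1' _ (D.RF κ v hv), smul_smul, smul_smul, mul_comm]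
      have e1 := D.field_comm hn hlin (τ κ) a
      have e2 : h • D.field κ (h⁻¹ • (h * s * h⁻¹) • a) = (h * s * h⁻¹) • h • D.field κ (h⁻¹ • a) := by
        have e3 : h⁻¹ • (h * s * h⁻¹) • a = s • h⁻¹ • a := by
          rw [← mul_smul, ← mul_smul]
          congr 1
          group
        rw [e3, D.toData.field_X _ hs, ← mul_smul, ← mul_smul]
        congr 1
        group
      change h • D.field κ (h⁻¹ • (h * s * h⁻¹) • a) - D.field (τ κ) ((h * s * h⁻¹) • a) =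
        (h * s * h⁻¹) • (h • D.field κ (h⁻¹ • a) - D.field (τ κ) a)
      rw [e1, e2, smul_sub]
    -- `δ = 0` on `V`
    have δV : ∀ v ∈ V, δ v = 0 := by
      intro v hv
      obtain ⟨μ', hμ', hy1'⟩ := hy1
      obtain ⟨r, hr, e1⟩ := D.exists_fix hμ' hy1' (hyV v hv)
      have e2 := kill _ ⟨μ', hμ', hy1'⟩ hyδ _ e1
      rw [δadd, δ0 r hr, add_zero] at e2
      exact e2
    have δall : ∀ a, δ a = 0 := by
      intro a
      obtain ⟨v, hv, e1⟩ := ht3 a
      have e2 := kill t ⟨μ, hμ, ht1⟩ htδ _ e1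
      have e3 : a = (a - v) + v := by abel
      rw [e3, δadd, e2, δV v hv, add_zero]
    have e := δall (h • a)
    change h • D.field κ (h⁻¹ • h • a) - D.field (τ κ) (h • a) = 0 at e
    rw [inv_smul_smul] at e
    exact (sub_eq_zero.1 e).symm

end Line

end Cfsg.Agent.Omega.Mix.OneField
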