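import Cfsg.Agent.Omega.BTwo.Basic

/-!
# Mixed mutual pairs (TEXT MIX, bb OMEGA #12374), steps (2) - (5): one side, field-free

`V` is a line with points `R i`; `B i = W₂(R i)` is generated by the lines of the other type on the point `R i`,
`C i = W₁(R i)` by the lines of the type of `V`; `B i`, `C i` are elementary abelian, `[C i, B i] ≤ R i`.

Main result: `Side.Y_eq` : `C_G(B i C i) = R i`.
-/

set_option autoImplicit false

namespace Cfsg.Agent.Omega.Mix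

open Subgroup Cfsg.Agent.Omega.BTwo

variable {G : Type*} [Group G] {ι : Type*}

/-- the stabiliser of `V` and of the set of its points `R i` -/
def ST (V : Subgroup G) (R : ι → Subgroup G) : Subgroup G where
  carrier := {g | cj g V = V ∧ (∀ i, ∃ j, cj g (R i) = R j) ∧ ∀ i, ∃ j, cj g⁻¹ (R i) = R j}
  one_mem' := by
    refine ⟨cj_one V, fun i => ⟨i, cj_one _⟩, fun i => ⟨i, ?_⟩⟩
    rw [inv_one, cj_one]
  mul_mem' := by
    rintro g h ⟨g1, g2, g3⟩ ⟨h1, h2, h3⟩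
    refine ⟨by rw [cj_mul, h1, g1], fun i => ?_, fun i => ?_⟩
    · obtain ⟨j, hj⟩ := h2 i
      obtain ⟨k, hk⟩ := g2 j
      exact ⟨k, by rw [cj_mul, hj, hk]⟩
    · obtain ⟨j, hj⟩ := g3 i
      obtain ⟨k, hk⟩ := h3 j
      exact ⟨k, by rw [mul_inv_rev, cj_mul, hj, hk]⟩
  inv_mem' := by
    rintro g ⟨g1, g2, g3⟩
    refine ⟨?_, g3, fun i => ?_⟩
    · have := congrArg (cj g⁻¹) g1
      rwa [cj_inv_cj, eq_comm] at this
    · rw [inv_inv]; exact g2 i

theorem ST_le (V : Subgroup G) (R : ι → Subgroup G) : ST V R ≤ normalizer (V : Set G) :=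
  fun _ hg => cj_eq_self_iff.1 hg.1

theorem mem_ST [Finite ι] {V : Subgroup G} {R : ι → Subgroup G} (hR : Function.Injective R) {g : G} :
    g ∈ ST V R ↔ g ∈ normalizer (V : Set G) ∧ ∀ i, ∃ j, cj g (R i) = R j := by
  constructor
  · intro hg
    exact ⟨ST_le V R hg, hg.2.1⟩
  · rintro ⟨h1, h2⟩
    refine ⟨cj_eq_self_iff.2 h1, h2, fun i => ?_⟩
    choose f hf using h2
    have hfi : Function.Injective f := by
      intro a b hab
      apply hR
      have h3 : cj g (R a) = cj g (R b) := by rw [hf a, hf b, hab]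
      have h4 := congrArg (cj g⁻¹) h3
      rwa [cj_inv_cj, cj_inv_cj] at h4
    obtain ⟨j, rfl⟩ := (Finite.injective_iff_surjective.1 hfi) i
    exact ⟨j, by rw [← hf j, cj_inv_cj]⟩

/-- the situation at a line `V` with points `R i` -/
structure Side (V : Subgroup G) (R B C : ι → Subgroup G) : Prop where
  third : ∀ i j : ι, ∃ k, k ≠ i ∧ k ≠ j
  V_C : ∀ i, V ≤ C i
  R_V : ∀ i, R i ≤ V
  R_B : ∀ i, R i ≤ B i
  R_ne : ∀ i, R i ≠ ⊥
  R_inf : ∀ i j, i ≠ j → R i ⊓ R j = ⊥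
  B_comm : ∀ i, ∀ a ∈ B i, ∀ b ∈ B i, a * b = b * a
  B_sq : ∀ i, ∀ a ∈ B i, a * a = 1
  C_comm : ∀ i, ∀ a ∈ C i, ∀ b ∈ C i, a * b = b * a
  C_sq : ∀ i, ∀ a ∈ C i, a * a = 1
  CB : ∀ i, ∀ c ∈ C i, ∀ b ∈ B i, c * b * c⁻¹ * b⁻¹ ∈ R i
  B_NV : ∀ i, B i ≤ normalizer (V : Set G)
  nB : ∀ i, normalizer (R i : Set G) ≤ normalizer (B i : Set G)
  nC : ∀ i, normalizer (R i : Set G) ≤ normalizer (C i : Set G)
  perm : ∀ m, ∀ g ∈ B m, ∀ i, ∃ j, cj g (R i) = R j
  cB : ∀ g i j, cj g (R i) = R j → cj g (B i) = B j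
  cC : ∀ g i j, cj g (R i) = R j → cj g (C i) = C j
  trans : ∀ i j k, j ≠ i → k ≠ i → ∃ b ∈ B i, cj b (R j) = R k
  free : ∀ i j, j ≠ i → ∀ b ∈ B i, cj b (R j) = R j → ∀ v ∈ V, b * v = v * b
  fix : ∀ K : Subgroup G, IsPGroup 2 K → ST V R ≤ normalizer (K : Set G) →
    ∀ i j, i ≠ j → (∀ k ∈ K, ∀ b ∈ B i, b * k = k * b) → (∀ k ∈ K, ∀ b ∈ B j, b * k = k * b) → K = ⊥

/-- `T = C_B(V)` -/
def TT (V B : Subgroup G) : Subgroup G := B ⊓ centralizer (V : Set G)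

/-- `Y = C_G(BC)` -/
def YY (B C : Subgroup G) : Subgroup G := centralizer ((B ⊔ C : Subgroup G) : Set G)

theorem mem_TT {V B : Subgroup G} {t : G} : t ∈ TT V B ↔ t ∈ B ∧ ∀ v ∈ V, t * v = v * t := by
  rw [TT, mem_inf, mem_centralizer_iff]
  exact and_congr_right fun _ => forall₂_congr fun v hv => eq_comm

theorem mem_YY {B C : Subgroup G} {y : G} : y ∈ YY B C ↔ (∀ b ∈ B, y * b = b * y) ∧ ∀ c ∈ C, y * c = c * y := by
  rw [YY, mem_centralizer_iff]
  constructor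
  · intro h
    exact ⟨fun b hb => (h b (le_sup_left (a := B) hb)).symm, fun c hc => (h c (le_sup_right (a := B) hc)).symm⟩
  · rintro ⟨h1, h2⟩ x hx
    have : (B ⊔ C : Subgroup G) ≤ centralizer ({y} : Set G) := by
      refine sup_le ?_ ?_
      · intro b hb
        rw [mem_centralizer_iff]
        intro z hz
        rw [Set.mem_singleton_iff.1 hz]
        exact h1 b hb
      · intro b hb
        rw [mem_centralizer_iff]
        intro z hz
        rw [Set.mem_singleton_iff.1 hz]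
        exact h2 b hb
    exact (mem_centralizer_iff.1 (this hx) y rfl).symm

theorem TT_le (V B : Subgroup G) : TT V B ≤ B := inf_le_left

theorem cj_TT {V B B' : Subgroup G} {g : G} (hV : cj g V = V) (hB : cj g B = B') : cj g (TT V B) = TT V B' := by
  rw [TT, TT, cj_inf, hB, ← centralizer_cj, hV]

theorem cj_YY {B B' C C' : Subgroup G} {g : G} (hB : cj g B = B') (hC : cj g C = C') :
    cj g (YY B C) = YY B' C' := by
  rw [YY, YY, ← centralizer_cj, cj_sup, hB, hC]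

/-- two elements commute iff their commutator is trivial -/
theorem comm_of_eq_one {a b : G} (h : a * b * a⁻¹ * b⁻¹ = 1) : a * b = b * a := by
  have := mul_inv_eq_one.1 h
  exact mul_inv_eq_iff_eq_mul.1 this

theorem eq_one_of_comm {a b : G} (h : a * b = b * a) : a * b * a⁻¹ * b⁻¹ = 1 := by
  rw [h]; group

/-- two elements with the same commutator with `b` differ by an element commuting with `b` -/
theorem comm_of_comm_eq {b t z : G} (h : b * t * b⁻¹ * t⁻¹ = b * z * b⁻¹ * z⁻¹) :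
    b * (z⁻¹ * t) = z⁻¹ * t * b := by
  have h3 : t * b⁻¹ * t⁻¹ = z * b⁻¹ * z⁻¹ := by
    have h4 : b * (t * b⁻¹ * t⁻¹) = b * (z * b⁻¹ * z⁻¹) := by
      calc b * (t * b⁻¹ * t⁻¹) = b * t * b⁻¹ * t⁻¹ := by group
        _ = b * z * b⁻¹ * z⁻¹ := h
        _ = b * (z * b⁻¹ * z⁻¹) := by group
    exact mul_left_cancel h4
  calc b * (z⁻¹ * t) = b * z⁻¹ * (t * b⁻¹ * t⁻¹) * (t * b) := by group
    _ = b * z⁻¹ * (z * b⁻¹ * z⁻¹) * (t * b) := by rw [h3]
    _ = z⁻¹ * t * b := by group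

namespace Side

variable {V : Subgroup G} {R B C : ι → Subgroup G} (s : Side V R B C)
include s

theorem R_index {i j : ι} (h : R i = R j) : i = j := by
  by_contra hne
  have := s.R_inf i j hne
  rw [h, inf_idem] at this
  exact s.R_ne j this

theorem cV_le_NR {g : G} (hg : ∀ v ∈ V, g * v = v * g) (i : ι) : g ∈ normalizer (R i : Set G) := by
  rw [mem_normalizer_iff]
  intro x
  constructor
  · intro hx
    rw [hg x (s.R_V i hx), mul_inv_cancel_right]
    exact hx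
  · intro hx
    have h1 := s.R_V i hx
    have h2 : g * (g * x * g⁻¹) * g⁻¹ = g * x * g⁻¹ := by
      rw [hg _ h1, mul_inv_cancel_right]
    have h3 : g * x * g⁻¹ = x := mul_left_cancel (mul_right_cancel h2)
    rwa [h3] at hx

theorem V_comm {a b : G} (ha : a ∈ V) (hb : b ∈ V) (i : ι) : a * b = b * a :=
  s.C_comm i a (s.V_C i ha) b (s.V_C i hb)

theorem C_V {i : ι} {c : G} (hc : c ∈ C i) : ∀ v ∈ V, c * v = v * c := fun v hv => s.C_comm i c hc v (s.V_C i hv)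

/-- `X` in the form `B i ⊔ B j` contains every `B k` -/
theorem B_le {i j : ι} (hij : i ≠ j) (k : ι) : B k ≤ B i ⊔ B j := by
  by_cases hk : k = i
  · subst hk; exact le_sup_left
  obtain ⟨w, hw, e⟩ := s.trans i j k (Ne.symm hij) hk
  rw [← s.cB w j k e, cj_le_iff]
  intro x hx
  have h1 : w ∈ B i ⊔ B j := (le_sup_left : B i ≤ _) hw
  exact mul_mem (mul_mem h1 ((le_sup_right : B j ≤ _) hx)) (inv_mem h1)

/-- an element commuting with `B i` and `B j` commutes with all `B k` -/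
theorem comm_all {i j : ι} (hij : i ≠ j) {x : G} (h1 : ∀ b ∈ B i, b * x = x * b) (h2 : ∀ b ∈ B j, b * x = x * b)
    (k : ι) : ∀ b ∈ B k, b * x = x * b := by
  have : B i ⊔ B j ≤ centralizer ({x} : Set G) := by
    refine sup_le ?_ ?_
    · intro b hb
      rw [mem_centralizer_iff]
      intro z hz
      rw [Set.mem_singleton_iff.1 hz]
      exact (h1 b hb).symm
    · intro b hb
      rw [mem_centralizer_iff]
      intro z hz
      rw [Set.mem_singleton_iff.1 hz]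
      exact (h2 b hb).symm
  intro b hb
  exact (mem_centralizer_iff.1 (this (s.B_le hij k hb)) x rfl).symm

/-- from any point to any other one by an element of some `B m` -/
theorem trans_B (i k : ι) : ∃ m, m ≠ i ∧ m ≠ k ∧ ∃ x ∈ B m, cj x (R i) = R k := by
  obtain ⟨m, hm1, hm2⟩ := s.third i k
  obtain ⟨w, hw, e⟩ := s.trans m i k (Ne.symm hm1) (Ne.symm hm2)
  exact ⟨m, hm1, hm2, w, hw, e⟩

theorem cjV {m : ι} {x : G} (hx : x ∈ B m) : cj x V = V := cj_eq_self_iff.2 (s.B_NV m hx)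

theorem B_le_ST (m : ι) : B m ≤ ST V R := fun g hg =>
  ⟨s.cjV hg, s.perm m g hg, s.perm m g⁻¹ (inv_mem hg)⟩

/-- the family `A` is permuted by the stabiliser of the set of points -/
theorem normalizer_iInf {A : ι → Subgroup G} (h : ∀ g ∈ normalizer (V : Set G), ∀ i j, cj g (R i) = R j → cj g (A i) = A j) :
    ST V R ≤ normalizer ((⨅ i, A i : Subgroup G) : Set G) := by
  have key : ∀ g ∈ ST V R, ∀ x ∈ (⨅ i, A i : Subgroup G), g * x * g⁻¹ ∈ (⨅ i, A i : Subgroup G) := by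
    intro g hg x hx
    rw [mem_iInf] at hx ⊢
    intro k
    obtain ⟨j, hj⟩ := hg.2.2 k
    have hj' : cj g (R j) = R k := by rw [← hj, cj_cj_inv]
    rw [← h g (ST_le V R hg) j k hj']
    exact conj_mem_cj (hx j)
  intro g hg
  rw [mem_normalizer_iff]
  intro x
  refine ⟨key g hg x, fun hx => ?_⟩
  have := key g⁻¹ (inv_mem hg) _ hx
  have e : g⁻¹ * (g * x * g⁻¹) * g⁻¹⁻¹ = x := by group
  rwa [e] at this

/-- the fixed point principle for a family `A` -/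
theorem inf_eq_bot {A : ι → Subgroup G} (h : ∀ g ∈ normalizer (V : Set G), ∀ i j, cj g (R i) = R j → cj g (A i) = A j)
    (hp : ∀ i, IsPGroup 2 (A i)) (hc : ∀ i, ∀ a ∈ A i, ∀ b ∈ B i, b * a = a * b) {i j : ι} (hij : i ≠ j) :
    A i ⊓ A j = ⊥ := by
  have h1 : A i ⊓ A j ≤ ⨅ k, A k := by
    rintro x ⟨hxi, hxj⟩
    rw [mem_iInf]
    intro k
    have hall := s.comm_all hij (hc i x hxi) (hc j x hxj)
    obtain ⟨m, -, -, w, hw, e⟩ := s.trans_B i k
    have e2 := h w (s.B_NV m hw) i k e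
    rw [← e2]
    have h3 := conj_mem_cj (g := w) hxi
    rwa [hall m w hw, mul_inv_cancel_right] at h3
  have h2 : (⨅ k, A k) = ⊥ := by
    refine s.fix _ ((hp i).to_le (iInf_le _ i)) (s.normalizer_iInf h) i j hij ?_ ?_
    · intro x hx b hb
      exact hc i x (mem_iInf.1 hx i) b hb
    · intro x hx b hb
      exact hc j x (mem_iInf.1 hx j) b hb
  exact le_bot_iff.1 (h1.trans h2.le)

theorem B_isPGroup (i : ι) : IsPGroup 2 (B i) := by
  intro x
  refine ⟨1, ?_⟩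
  apply Subtype.ext
  rw [pow_one, pow_two]
  exact s.B_sq i x x.2

/-- **(2)** `B i ∩ B j = 1` -/
theorem B_inf {i j : ι} (hij : i ≠ j) : B i ⊓ B j = ⊥ :=
  s.inf_eq_bot (fun g _ i j e => s.cB g i j e) s.B_isPGroup (fun i a ha b hb => s.B_comm i b hb a ha) hij

theorem B_eq_one {i j : ι} (hij : i ≠ j) {x : G} (h1 : x ∈ B i) (h2 : x ∈ B j) : x = 1 := by
  have : x ∈ B i ⊓ B j := ⟨h1, h2⟩
  rw [s.B_inf hij] at this
  exact mem_bot.1 this

/-- `[C(V), B j] ≤ T j` -/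
theorem comm_mem_T {g : G} (hg : ∀ v ∈ V, g * v = v * g) {j : ι} {b : G} (hb : b ∈ B j) :
    g * b * g⁻¹ * b⁻¹ ∈ TT V (B j) := by
  rw [mem_TT]
  refine ⟨mul_mem (conj_mem_of_normalizer (s.nB j (s.cV_le_NR hg j)) hb) (inv_mem hb), ?_⟩
  have h1 : g ∈ centralizer (V : Set G) := mem_centralizer_iff.2 fun v hv => (hg v hv).symm
  have h2 : b * g⁻¹ * b⁻¹ ∈ centralizer (V : Set G) :=
    conj_mem_of_normalizer (normalizer_le_normalizer_centralizer V (s.B_NV j hb)) (inv_mem h1)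
  have h3 : g * b * g⁻¹ * b⁻¹ ∈ centralizer (V : Set G) := by
    have e : g * b * g⁻¹ * b⁻¹ = g * (b * g⁻¹ * b⁻¹) := by group
    rw [e]; exact mul_mem h1 h2
  intro v hv
  exact (mem_centralizer_iff.1 h3 v hv).symm

theorem comm_mem_T' {g : G} (hg : ∀ v ∈ V, g * v = v * g) {j : ι} {b : G} (hb : b ∈ B j) :
    b * g * b⁻¹ * g⁻¹ ∈ TT V (B j) := by
  have := inv_mem (s.comm_mem_T hg hb)
  have e : (g * b * g⁻¹ * b⁻¹)⁻¹ = b * g * b⁻¹ * g⁻¹ := by group
  rwa [e] at this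

theorem T_comm {i j : ι} {t u : G} (ht : t ∈ TT V (B i)) (hu : u ∈ TT V (B j)) : t * u = u * t := by
  by_cases hij : i = j
  · subst hij
    exact s.B_comm i t (TT_le _ _ ht) u (TT_le _ _ hu)
  · have h1 := s.comm_mem_T (mem_TT.1 ht).2 (TT_le _ _ hu)
    have h2 := s.comm_mem_T' (mem_TT.1 hu).2 (TT_le _ _ ht)
    exact comm_of_eq_one (s.B_eq_one hij (TT_le _ _ h2) (TT_le _ _ h1))

theorem T_inv {i : ι} {t : G} (ht : t ∈ TT V (B i)) : t⁻¹ = t :=
  inv_eq_of_mul_eq_one_left (s.B_sq i t (TT_le _ _ ht))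

/-- for `b ∈ B i` outside `C(V)` the commutator map `T j → T i` is injective -/
theorem inj {i j : ι} (hij : i ≠ j) {b : G} (hb : b ∈ B i) (hbV : ¬ ∀ v ∈ V, b * v = v * b) {t : G}
    (ht : t ∈ B j) (h : b * t = t * b) : t = 1 := by
  obtain ⟨k, hk⟩ := s.perm i b hb j
  have hkj : k ≠ j := by
    rintro rfl
    exact hbV (s.free i k (Ne.symm hij) b hb hk)
  have h1 : t ∈ B k := by
    rw [← s.cB b j k hk]
    have := conj_mem_cj (g := b) ht
    rwa [h, mul_inv_cancel_right] at this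
  exact s.B_eq_one hkj h1 ht

theorem exists_move {i j : ι} (hij : i ≠ j) : ∃ b ∈ B i, ¬ ∀ v ∈ V, b * v = v * b := by
  obtain ⟨k, hk1, hk2⟩ := s.third i j
  obtain ⟨b, hb, e⟩ := s.trans i j k (Ne.symm hij) hk1
  refine ⟨b, hb, fun hall => ?_⟩
  have : cj b (R j) = R j := cj_eq_self_iff.2 (s.cV_le_NR hall j)
  rw [e] at this
  exact hk2 (s.R_index this)

theorem cj_T {g : G} (hg : g ∈ normalizer (V : Set G)) {i j : ι} (e : cj g (R i) = R j) :
    cj g (TT V (B i)) = TT V (B j) := cj_TT (cj_eq_self_iff.2 hg) (s.cB g i j e)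

theorem card_T [Finite G] (i j : ι) : Nat.card (TT V (B i)) = Nat.card (TT V (B j)) := by
  obtain ⟨m, -, -, x, hx, e⟩ := s.trans_B i j
  rw [← s.cj_T (s.B_NV m hx) e, card_cj]

/-- the commutator map `T j → T i` of `b ∈ B i` outside `C(V)` is surjective -/
theorem surj [Finite G] {i j : ι} (hij : i ≠ j) {b : G} (hb : b ∈ B i) (hbV : ¬ ∀ v ∈ V, b * v = v * b) {u : G}
    (hu : u ∈ TT V (B i)) : ∃ t ∈ TT V (B j), b * t * b⁻¹ * t⁻¹ = u := by
  let f : TT V (B j) → TT V (B i) := fun t => ⟨b * t * b⁻¹ * (t : G)⁻¹, s.comm_mem_T' (mem_TT.1 t.2).2 hb⟩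
  have hf : Function.Injective f := by
    intro x y hxy
    have h1 : b * (x : G) * b⁻¹ * (x : G)⁻¹ = b * (y : G) * b⁻¹ * (y : G)⁻¹ := congrArg Subtype.val hxy
    have h2 : b * ((y : G)⁻¹ * x) = (y : G)⁻¹ * x * b := comm_of_comm_eq h1
    have h4 := s.inj hij hb hbV (mul_mem (inv_mem (TT_le _ _ y.2)) (TT_le _ _ x.2)) h2
    exact Subtype.ext (inv_mul_eq_one.1 h4).symm
  have hfs : Function.Surjective f := (Nat.bijective_iff_injective_and_card f).2 ⟨hf, s.card_T j i⟩ |>.2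
  obtain ⟨t, ht⟩ := hfs ⟨u, hu⟩
  exact ⟨t, t.2, congrArg Subtype.val ht⟩

/-- `T k ≤ T i T j` -/
theorem T_sub {i j : ι} (hij : i ≠ j) (k : ι) {t : G} (ht : t ∈ TT V (B k)) :
    ∃ u ∈ TT V (B i), ∃ w ∈ TT V (B j), t = u * w := by
  by_cases hk : k = i
  · subst hk; exact ⟨t, ht, 1, one_mem _, (mul_one t).symm⟩
  obtain ⟨b, hb, e⟩ := s.trans i j k (Ne.symm hij) hk
  rw [← s.cj_T (s.B_NV i hb) e] at ht
  obtain ⟨w, hw, rfl⟩ := ht
  change w ∈ TT V (B j) at hw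
  refine ⟨b * w * b⁻¹ * w⁻¹, s.comm_mem_T' (mem_TT.1 hw).2 hb, w, hw, ?_⟩
  change b * w * b⁻¹ = _
  group

/-! ### (3) -/

theorem Y_V {i : ι} {y : G} (hy : y ∈ YY (B i) (C i)) : ∀ v ∈ V, y * v = v * y := fun v hv =>
  (mem_YY.1 hy).2 v (s.V_C i hv)

/-- `Y i` centralises `T j` -/
theorem Y_T {i j : ι} {y t : G} (hy : y ∈ YY (B i) (C i)) (ht : t ∈ TT V (B j)) : y * t = t * y := by
  by_cases hij : i = j
  · subst hij
    exact (mem_YY.1 hy).1 t (TT_le _ _ ht)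
  obtain ⟨b, hb, hbV⟩ := s.exists_move hij
  have hyN := s.nB j (s.cV_le_NR (s.Y_V hy) j)
  have h1 : y * t * y⁻¹ ∈ B j := conj_mem_of_normalizer hyN (TT_le _ _ ht)
  have hbt := s.comm_mem_T' (mem_TT.1 ht).2 hb
  have hyb := (mem_YY.1 hy).1 b hb
  have hyc := (mem_YY.1 hy).1 _ (TT_le _ _ hbt)
  have hu : b * (t⁻¹ * (y * t * y⁻¹)) = t⁻¹ * (y * t * y⁻¹) * b := by
    apply comm_of_comm_eq
    have hyb' : y * b * y⁻¹ = b := by rw [hyb, mul_inv_cancel_right]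
    calc b * (y * t * y⁻¹) * b⁻¹ * (y * t * y⁻¹)⁻¹
        = (y * b * y⁻¹) * (y * t * y⁻¹) * (y * b * y⁻¹)⁻¹ * (y * t * y⁻¹)⁻¹ := by rw [hyb']
      _ = y * (b * t * b⁻¹ * t⁻¹) * y⁻¹ := by group
      _ = b * t * b⁻¹ * t⁻¹ := by rw [hyc, mul_inv_cancel_right]
  have h2 := s.inj hij hb hbV (mul_mem (inv_mem (TT_le _ _ ht)) h1) hu
  rw [inv_mul_eq_one] at h2
  -- `t = y t y⁻¹`
  have : t * y = y * t := by
    calc t * y = y * t * y⁻¹ * y := by rw [← h2]
      _ = y * t := by group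
  exact this.symm

end Side

end Cfsg.Agent.Omega.Mix
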