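import Cfsg.Agent.Omega.Mix.Control
import Cfsg.Agent.Omega.Mix.Entry
import Cfsg.Prelude.Def_Transfer

/-!
# A mixed pair, `q ≥ 4`, `W₁ ≠ V₁`, satisfies the hypotheses of the closing by TI-subgroups

* `MixedN.exists_fin` : the input of (6), (7), (s3);
* `FIn.le_iff` : `W₁ ≤ V₁` iff `W₂ ≤ V₂`;
* `MixedN.exists_ti` : `A = W₁` or `A = W₂` is elementary abelian, `C_G(A) ≤ A`, `N_G(A)` is transitive on `A#`, and
  `C_G(a) ≤ N_G(A)` for one `a`.
-/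

set_option autoImplicit false
set_option linter.unusedSectionVars false

namespace Cfsg.Agent.Omega.Mix

open Subgroup Cfsg.Agent.Lib.SL2Mat Cfsg.Agent.Omega.BTwo
open Cfsg.Agent.Omega.NatPair (dt dt_smul dt_add exists_smul_of_dt exists_comb ap ap_smul ap_zero' ap_one' ap_mul
  ap_inv_ap ap_ap_inv ap_one)

universe u

variable {G : Type u} [Group G] {F₁ F₂ : Type*} [Field F₁] [Field F₂] {V₁ V₂ N₁ N₂ : Subgroup G} {M₁ : RMod F₁ V₁ N₁}
  {M₂ : RMod F₂ V₂ N₂} {R : Subgroup G}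

/-- `C_G(r)` is a local subgroup -/
theorem char2_cent [Finite G] {r : G} (hrr : r * r = 1) (hr1 : r ≠ 1)
    (hch : ∀ K : Subgroup G, IsPGroup 2 K → K ≠ ⊥ → Char2 (normalizer (K : Set G))) :
    Char2 (centralizer ({r} : Set G)) := by
  have hmem : ∀ x, x ∈ zpowers r ↔ x = 1 ∨ x = r := by
    intro x
    constructor
    · rintro ⟨k, rfl⟩
      rcases Int.even_or_odd' k with ⟨m, rfl | rfl⟩
      · left
        show r ^ (2 * m) = 1
        rw [zpow_mul, zpow_ofNat, pow_two, hrr, one_zpow]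
      · right
        show r ^ (2 * m + 1) = r
        rw [zpow_add, zpow_mul, zpow_ofNat, pow_two, hrr, one_zpow, one_mul, zpow_one]
    · rintro (rfl | rfl)
      · exact one_mem _
      · exact mem_zpowers _
  have h1 : normalizer (zpowers r : Set G) = centralizer ({r} : Set G) := by
    ext g
    constructor
    · intro hg
      have h1 := (mem_normalizer_iff.1 hg r).1 (mem_zpowers r)
      rw [mem_centralizer_iff]
      rintro x rfl
      rcases (hmem _).1 h1 with h | h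
      · exact absurd (conj_eq_one_iff.1 h) hr1
      · exact (mul_inv_eq_iff_eq_mul.1 h).symm
    · intro hg
      refine mem_normalizer_of_conj fun x hx => ?_
      rcases (hmem x).1 hx with rfl | rfl
      · rw [mul_one, mul_inv_cancel]; exact one_mem _
      · rw [← mem_centralizer_iff.1 hg x rfl, mul_inv_cancel_right]
        exact mem_zpowers _
  rw [← h1]
  refine hch _ ?_ fun h0 => hr1 (zpowers_eq_bot.1 h0)
  rintro ⟨x, hx⟩
  refine ⟨1, ?_⟩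
  rw [pow_one, pow_two]
  apply Subtype.ext
  rcases (hmem x).1 hx with rfl | rfl
  · exact mul_one _
  · exact hrr

namespace FIn

variable [Finite G] {w₁ : Fin 2 → F₁} {w₂ : Fin 2 → F₂} (f : FIn M₁ M₂ R w₁ w₂)
include f

/-- `W₁ = V₁` implies `W₂ = V₂` -/
theorem le_of_le (h : LL V₁ R R ≤ V₁) : LL V₂ R R ≤ V₂ := by
  intro b hb
  have h1R : (1 : G) ∈ normalizer (R : Set G) := one_mem _
  refine f.symm.perp hb fun a ha => ?_
  -- `a ∈ C_{W₁}(V₂)`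
  obtain ⟨haW, haV⟩ := mem_TT.1 ha
  have haR : a ∈ R := by
    by_contra haR
    -- `V₂` centralises `V₁ = W₁`
    have h2 : ∀ v ∈ V₂, v ∈ R := by
      intro v hv
      have hvW := V_le_LL V₂ R hv
      refine f.pai.nd' v hvW fun a' ha' => ?_
      have h3 := comm_line M₁ f.ne₁ f.line₁ (f.W₂_ZZ hvW) h1R (a := a)
        (by rw [cj_one]; exact h haW) haR (haV v hv) a' (by rw [cj_one]; exact h ha')
      exact h3
    have h4 := not_le_line M₂ f.ne₂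
    rw [← f.line₂] at h4
    exact h4 h2
  exact (f.symm.pai.R_comm haR hb).symm

theorem le_iff : LL V₁ R R ≤ V₁ ↔ LL V₂ R R ≤ V₂ := ⟨f.le_of_le, f.symm.le_of_le⟩

variable [Finite F₁] [Finite F₂] [CharP F₁ 2] [CharP F₂ 2]

theorem trans (hC₁ : ∀ i, LL V₁ R (pt M₁ i) = LL V₁ R R) :
    ∀ x ∈ LL V₁ R R, ∀ y ∈ LL V₁ R R, x ≠ 1 → y ≠ 1 →
      ∃ n ∈ normalizer (LL V₁ R R : Set G), n * x * n⁻¹ = y := by
  intro x hx y hy hx1 hy1
  obtain ⟨n, hn, h1⟩ := f.trans_W₁ hC₁ hx hx1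
  obtain ⟨k, hk, h2⟩ := f.trans_W₁ hC₁ hy hy1
  refine ⟨k⁻¹ * n, mul_mem (inv_mem hk) hn, ?_⟩
  calc k⁻¹ * n * x * (k⁻¹ * n)⁻¹ = k⁻¹ * (n * x * n⁻¹) * k := by group
    _ = k⁻¹ * (k * y * k⁻¹) * k := by rw [h1, h2]
    _ = y := by group

end FIn

/-- the output -/
structure TIOut (A : Subgroup G) : Prop where
  elem : Cfsg.IsElementaryAbelian 2 A
  cent : centralizer (A : Set G) ≤ A
  trans : ∀ x ∈ A, ∀ y ∈ A, x ≠ 1 → y ≠ 1 → ∃ n ∈ normalizer (A : Set G), n * x * n⁻¹ = y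
  ctl : ∃ a ∈ A, a ≠ 1 ∧ centralizer ({a} : Set G) ≤ normalizer (A : Set G)

namespace MixedN

variable (m : MixedN M₁ M₂ R) [Finite G] [Finite F₁] [Finite F₂] [CharP F₁ 2] [CharP F₂ 2]
include m

/-- the input of (6), (7), (s3) -/
theorem exists_fin : ∃ w₁ w₂, FIn M₁ M₂ R w₁ w₂ := by
  obtain ⟨w₁, hw₁, hR₁⟩ := m.line₁
  obtain ⟨w₂, hw₂, hR₂⟩ := m.line₂
  exact ⟨w₁, w₂,
    { ne₁ := hw₁
      ne₂ := hw₂
      line₁ := hR₁
      line₂ := hR₂
      Q₁ := m.QQ_le_UW hw₁ hR₁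
      Q₂ := m.symm.QQ_le_UW hw₂ hR₂
      VQ₁ := m.V_le_QQ
      VQ₂ := m.symm.V_le_QQ
      comm₁ := m.comm₁
      comm₂ := m.comm₂
      cen := m.center.le
      side₁ := m.side
      side₂ := m.symm.side }⟩

/-- **(8)** -/
theorem W_pt (hF : ∃ l : F₁, l ≠ 0 ∧ l ≠ 1) (i : Pt M₁) : LL V₁ R (pt M₁ i) = LL V₁ R R := by
  obtain ⟨j, hj⟩ := m.exists_pt
  have h1 := m.side.C_eq_of_cen hF (fun i x hx hx' => ?_) i j
  · have h2 : LL V₁ R (pt M₁ i) = LL V₁ R (pt M₁ j) := h1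
    rwa [hj] at h2
  · have h3 : x ∈ YY (LL V₂ R (pt M₁ i)) (LL V₁ R (pt M₁ i)) :=
      mem_YY.2 ⟨fun b hb => (m.facts_at i).B_comm x hx b hb, fun c hc => (m.facts_at i).C_comm x hx' c hc⟩
    rwa [m.center_at i] at h3

/-- a central involution of a Sylow 2-subgroup in `R` -/
theorem exists_r : ∃ r ∈ R, r ≠ 1 ∧ r * r = 1 ∧ ∃ S : Sylow 2 G, (S : Subgroup G) ≤ N₁ ∧ (S : Subgroup G) ≤ N₂ ∧
    (S : Subgroup G) ≤ normalizer (R : Set G) ∧ ∀ s ∈ (S : Subgroup G), s * r = r * s := by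
  obtain ⟨S, h1, h2, h3, h4⟩ := m.sylow
  obtain ⟨z, hz, -, hz1, hzz, hzc⟩ := exists_central m.R_pGroup h3 m.R_ne
  exact ⟨z, hz, hz1, hzz, S, h1, h2, h3, hzc⟩

theorem tiOut (hF : ∃ l : F₁, l ≠ 0 ∧ l ≠ 1)
    (h : ∃ r ∈ R, r ≠ 1 ∧ centralizer ({r} : Set G) ≤ normalizer (LL V₁ R R : Set G)) : TIOut (LL V₁ R R) where
  elem := ⟨⟨⟨fun a b => Subtype.ext (m.comm₁ a a.2 b b.2)⟩⟩, fun a ha => by rw [pow_two]; exact m.facts.C_sq a ha⟩
  cent := by
    obtain ⟨w₁, w₂, f⟩ := m.exists_fin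
    exact f.cen_W₁
  trans := by
    obtain ⟨w₁, w₂, f⟩ := m.exists_fin
    exact f.trans (m.W_pt hF)
  ctl := by
    obtain ⟨r, hr, hr1, h⟩ := h
    exact ⟨r, (m.RV.trans (V_le_LL V₁ R)) hr, hr1, h⟩

/-- the fields have the same order -/
theorem field₂ (hF : ∃ l : F₁, l ≠ 0 ∧ l ≠ 1) : ∃ l : F₂, l ≠ 0 ∧ l ≠ 1 := by
  have h1 := m.card_eq
  by_contra hcon
  push Not at hcon
  have h2 : Nat.card F₂ ≤ 2 := by
    have h3 : ∀ x : F₂, x = 0 ∨ x = 1 := fun x => by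
      by_cases hx : x = 0
      · exact Or.inl hx
      · exact Or.inr (hcon x hx)
    have h4 : Function.Surjective (fun i : Fin 2 => if i = 0 then (0 : F₂) else 1) := by
      intro x
      rcases h3 x with h | h
      · exact ⟨0, by rw [h]; rfl⟩
      · exact ⟨1, by rw [h]; rfl⟩
    have h5 := Nat.card_le_card_of_surjective _ h4
    simpa using h5
  obtain ⟨l, hl0, hl1⟩ := hF
  have h6 : Function.Injective (fun i : Fin 3 => if i = 0 then (0 : F₁) else if i = 1 then 1 else l) := by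
    intro i j h
    fin_cases i <;> fin_cases j <;> simp_all
  have h7 := Nat.card_le_card_of_injective _ h6
  simp at h7
  omega

/-- **`q ≥ 4`, `W₁ ≠ V₁`** -/
theorem exists_ti (hF : ∃ l : F₁, l ≠ 0 ∧ l ≠ 1) (hW : ¬ LL V₁ R R ≤ V₁) :
    ∃ A : Subgroup G, (A = LL V₁ R R ∨ A = LL V₂ R R) ∧ TIOut A := by
  obtain ⟨w₁, w₂, f⟩ := m.exists_fin
  obtain ⟨r, hr, hr1, hrr, S, -, -, hS, hSr⟩ := m.exists_r
  have hW₂ : ¬ LL V₂ R R ≤ V₂ := fun h => hW (f.le_iff.2 h)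
  rcases f.control hW hW₂ (m.W_pt hF) (m.symm.W_pt (m.field₂ hF)) hF hr S hS hSr
    (char2_cent hrr hr1 m.char) with h | h
  · exact ⟨_, Or.inl rfl, m.tiOut hF ⟨r, hr, hr1, h⟩⟩
  · exact ⟨_, Or.inr rfl, m.symm.tiOut (m.field₂ hF) ⟨r, hr, hr1, h⟩⟩

end MixedN

end Cfsg.Agent.Omega.Mix
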