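import Cfsg.Agent.Omega.Mix.Hua

/-!
# TEXT MIX (2): `N = T₁ × T₂` is a tensor product `k² ⊗ U`

Two elementary abelian 2-groups `B₁`, `B₂` with homomorphisms `p₁ : B₁ → k`, `p₂ : B₂ → k` onto the
finite field `k` of characteristic 2 (the actions on a natural `SL₂(k)`-module `V`), kernels `T₁`,
`T₂`, such that `T₂` acts on `B₁` trivially modulo `T₁` and conversely, `B₁ ⊓ B₂ = 1` and
`b c b` interchanges `T₁`, `T₂` whenever `p₂ c = (p₁ b)⁻¹`.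

Then `N = T₁ × T₂` is `k² ⊗ U`: there are a `k`-space `U` and `n : U → U → G` with
`T₁ = n(U,0)`, `T₂ = n(0,U)`, `b n(s,t) b⁻¹ = n(s + p₁(b) t, t)`, `c n(s,t) c⁻¹ = n(s, t + p₂(c) s)`.
-/

set_option autoImplicit false

namespace Cfsg.Agent.Omega.Mix.Tensor

variable {G : Type*} [Group G] {F : Type*} [Field F]

/-- The hypotheses of the tensor lemma. -/
structure Blk (F : Type*) [Field F] (B₁ B₂ : Subgroup G) (p₁ p₂ : G → F) : Prop where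
  ab₁ : ∀ b ∈ B₁, ∀ c ∈ B₁, b * c = c * b
  ab₂ : ∀ b ∈ B₂, ∀ c ∈ B₂, b * c = c * b
  sq₁ : ∀ b ∈ B₁, b * b = 1
  sq₂ : ∀ b ∈ B₂, b * b = 1
  mul₁ : ∀ b ∈ B₁, ∀ c ∈ B₁, p₁ (b * c) = p₁ b + p₁ c
  mul₂ : ∀ b ∈ B₂, ∀ c ∈ B₂, p₂ (b * c) = p₂ b + p₂ c
  sur₁ : ∀ a, ∃ b ∈ B₁, p₁ b = a
  sur₂ : ∀ a, ∃ b ∈ B₂, p₂ b = a
  nor₁ : ∀ t ∈ B₂, p₂ t = 0 → ∀ b ∈ B₁, t * b * t⁻¹ ∈ B₁ ∧ p₁ (t * b * t⁻¹) = p₁ b
  nor₂ : ∀ t ∈ B₁, p₁ t = 0 → ∀ b ∈ B₂, t * b * t⁻¹ ∈ B₂ ∧ p₂ (t * b * t⁻¹) = p₂ b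
  inf : ∀ g, g ∈ B₁ → g ∈ B₂ → g = 1
  swap₁ : ∀ b ∈ B₁, ∀ c ∈ B₂, p₁ b ≠ 0 → p₂ c = (p₁ b)⁻¹ → ∀ t ∈ B₁, p₁ t = 0 →
    (b * c * b) * t * (b * c * b)⁻¹ ∈ B₂
  swap₂ : ∀ b ∈ B₁, ∀ c ∈ B₂, p₁ b ≠ 0 → p₂ c = (p₁ b)⁻¹ → ∀ t ∈ B₂, p₂ t = 0 →
    (b * c * b) * t * (b * c * b)⁻¹ ∈ B₁

/-- The conclusion of the tensor lemma. -/
structure Ten (F : Type*) [Field F] (B₁ B₂ : Subgroup G) (p₁ p₂ : G → F) (U : Type*)
    [AddCommGroup U] [Module F U] where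
  n : U → U → G
  n_add : ∀ s s' t t', n (s + s') (t + t') = n s t * n s' t'
  n_inj : ∀ s s' t t', n s t = n s' t' → s = s' ∧ t = t'
  mem₁ : ∀ g, (g ∈ B₁ ∧ p₁ g = 0) ↔ ∃ s, g = n s 0
  mem₂ : ∀ g, (g ∈ B₂ ∧ p₂ g = 0) ↔ ∃ t, g = n 0 t
  act₁ : ∀ b ∈ B₁, ∀ s t, b * n s t * b⁻¹ = n (s + p₁ b • t) t
  act₂ : ∀ c ∈ B₂, ∀ s t, c * n s t * c⁻¹ = n s (t + p₂ c • s)

variable {B₁ B₂ : Subgroup G} {p₁ p₂ : G → F}

namespace Blk

theorem p₁_one (h : Blk F B₁ B₂ p₁ p₂) : p₁ 1 = 0 := by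
  have := h.mul₁ 1 (one_mem _) 1 (one_mem _)
  rw [mul_one] at this
  exact left_eq_add.mp this

theorem p₂_one (h : Blk F B₁ B₂ p₁ p₂) : p₂ 1 = 0 := by
  have := h.mul₂ 1 (one_mem _) 1 (one_mem _)
  rw [mul_one] at this
  exact left_eq_add.mp this

theorem inv₁ (h : Blk F B₁ B₂ p₁ p₂) {b : G} (hb : b ∈ B₁) : b⁻¹ = b :=
  inv_eq_of_mul_eq_one_right (h.sq₁ b hb)

theorem inv₂ (h : Blk F B₁ B₂ p₁ p₂) {b : G} (hb : b ∈ B₂) : b⁻¹ = b :=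
  inv_eq_of_mul_eq_one_right (h.sq₂ b hb)

/-- `T₁`. -/
def T₁ (h : Blk F B₁ B₂ p₁ p₂) : Subgroup G where
  carrier := {b | b ∈ B₁ ∧ p₁ b = 0}
  mul_mem' := by
    rintro a b ⟨ha, ha'⟩ ⟨hb, hb'⟩
    exact ⟨mul_mem ha hb, by rw [h.mul₁ a ha b hb, ha', hb', add_zero]⟩
  one_mem' := ⟨one_mem _, h.p₁_one⟩
  inv_mem' := by
    rintro a ⟨ha, ha'⟩
    exact ⟨inv_mem ha, by rw [h.inv₁ ha, ha']⟩

/-- `T₂`. -/
def T₂ (h : Blk F B₁ B₂ p₁ p₂) : Subgroup G where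
  carrier := {b | b ∈ B₂ ∧ p₂ b = 0}
  mul_mem' := by
    rintro a b ⟨ha, ha'⟩ ⟨hb, hb'⟩
    exact ⟨mul_mem ha hb, by rw [h.mul₂ a ha b hb, ha', hb', add_zero]⟩
  one_mem' := ⟨one_mem _, h.p₂_one⟩
  inv_mem' := by
    rintro a ⟨ha, ha'⟩
    exact ⟨inv_mem ha, by rw [h.inv₂ ha, ha']⟩

theorem mem_T₁ (h : Blk F B₁ B₂ p₁ p₂) {g : G} : g ∈ h.T₁ ↔ g ∈ B₁ ∧ p₁ g = 0 := Iff.rfl
theorem mem_T₂ (h : Blk F B₁ B₂ p₁ p₂) {g : G} : g ∈ h.T₂ ↔ g ∈ B₂ ∧ p₂ g = 0 := Iff.rfl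

/-- `[b,t] ∈ T₁` for `b ∈ B₁`, `t ∈ T₂`. -/
theorem com₁ (h : Blk F B₁ B₂ p₁ p₂) {b t : G} (hb : b ∈ B₁) (ht : t ∈ h.T₂) :
    b * t * b⁻¹ * t⁻¹ ∈ h.T₁ := by
  have h1 := h.nor₁ t ht.1 ht.2 b⁻¹ (inv_mem hb)
  have e : b * t * b⁻¹ * t⁻¹ = b * (t * b⁻¹ * t⁻¹) := by group
  rw [e]
  refine ⟨mul_mem hb h1.1, ?_⟩
  rw [h.mul₁ _ hb _ h1.1, h1.2, ← h.mul₁ _ hb _ (inv_mem hb), mul_inv_cancel, h.p₁_one]

theorem com₂ (h : Blk F B₁ B₂ p₁ p₂) {c s : G} (hc : c ∈ B₂) (hs : s ∈ h.T₁) :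
    c * s * c⁻¹ * s⁻¹ ∈ h.T₂ := by
  have h1 := h.nor₂ s hs.1 hs.2 c⁻¹ (inv_mem hc)
  have e : c * s * c⁻¹ * s⁻¹ = c * (s * c⁻¹ * s⁻¹) := by group
  rw [e]
  refine ⟨mul_mem hc h1.1, ?_⟩
  rw [h.mul₂ _ hc _ h1.1, h1.2, ← h.mul₂ _ hc _ (inv_mem hc), mul_inv_cancel, h.p₂_one]

/-- `T₁` and `T₂` commute. -/
theorem comm (h : Blk F B₁ B₂ p₁ p₂) {s t : G} (hs : s ∈ h.T₁) (ht : t ∈ h.T₂) :
    s * t = t * s := by
  have h1 := h.com₁ hs.1 ht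
  have h2 := h.com₂ ht.1 hs
  have e : t * s * t⁻¹ * s⁻¹ = (s * t * s⁻¹ * t⁻¹)⁻¹ := by group
  rw [e] at h2
  have h3 : s * t * s⁻¹ * t⁻¹ ∈ B₂ := by
    have := inv_mem h2.1
    rwa [inv_inv] at this
  have h4 := h.inf _ h1.1 h3
  calc s * t = (s * t * s⁻¹ * t⁻¹) * (t * s) := by group
    _ = t * s := by rw [h4, one_mul]

instance instT₁ (h : Blk F B₁ B₂ p₁ p₂) : CommGroup h.T₁ :=
  { (inferInstance : Group h.T₁) with
    mul_comm := fun a b => Subtype.ext (h.ab₁ a a.2.1 b b.2.1) }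

instance instT₂ (h : Blk F B₁ B₂ p₁ p₂) : CommGroup h.T₂ :=
  { (inferInstance : Group h.T₂) with
    mul_comm := fun a b => Subtype.ext (h.ab₂ a a.2.1 b b.2.1) }

/-- `t ↦ [b,t]`, `T₂ → T₁`. -/
def al (h : Blk F B₁ B₂ p₁ p₂) (b : B₁) : h.T₂ →* h.T₁ where
  toFun t := ⟨b * t * (b : G)⁻¹ * (t : G)⁻¹, h.com₁ b.2 t.2⟩
  map_one' := Subtype.ext (by
    show (b : G) * ((1 : h.T₂) : G) * (b : G)⁻¹ * ((1 : h.T₂) : G)⁻¹ = 1
    rw [Subgroup.coe_one]; group)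
  map_mul' s t := Subtype.ext (by
    have h1 := h.comm (h.com₁ b.2 t.2) s.2
    show (b : G) * ((s * t : h.T₂) : G) * (b : G)⁻¹ * ((s * t : h.T₂) : G)⁻¹ =
      ((b : G) * s * (b : G)⁻¹ * (s : G)⁻¹) * ((b : G) * t * (b : G)⁻¹ * (t : G)⁻¹)
    rw [Subgroup.coe_mul]
    calc (b : G) * (s * t) * (b : G)⁻¹ * ((s : G) * t)⁻¹
        = ((b : G) * s * (b : G)⁻¹) * (((b : G) * t * (b : G)⁻¹ * (t : G)⁻¹)) * (s : G)⁻¹ := by group
      _ = ((b : G) * s * (b : G)⁻¹) * ((s : G)⁻¹ * (s * (((b : G) * t * (b : G)⁻¹ * (t : G)⁻¹))) *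
            (s : G)⁻¹) := by group
      _ = ((b : G) * s * (b : G)⁻¹) * ((s : G)⁻¹ * ((((b : G) * t * (b : G)⁻¹ * (t : G)⁻¹)) * s) *
            (s : G)⁻¹) := by
          rw [← h1]
      _ = _ := by group)

/-- `s ↦ [c,s]`, `T₁ → T₂`. -/
def be (h : Blk F B₁ B₂ p₁ p₂) (c : B₂) : h.T₁ →* h.T₂ where
  toFun t := ⟨c * t * (c : G)⁻¹ * (t : G)⁻¹, h.com₂ c.2 t.2⟩
  map_one' := Subtype.ext (by
    show (c : G) * ((1 : h.T₁) : G) * (c : G)⁻¹ * ((1 : h.T₁) : G)⁻¹ = 1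
    rw [Subgroup.coe_one]; group)
  map_mul' s t := Subtype.ext (by
    have h1 := h.comm s.2 (h.com₂ c.2 t.2)
    show (c : G) * ((s * t : h.T₁) : G) * (c : G)⁻¹ * ((s * t : h.T₁) : G)⁻¹ =
      ((c : G) * s * (c : G)⁻¹ * (s : G)⁻¹) * ((c : G) * t * (c : G)⁻¹ * (t : G)⁻¹)
    rw [Subgroup.coe_mul]
    calc (c : G) * (s * t) * (c : G)⁻¹ * ((s : G) * t)⁻¹
        = ((c : G) * s * (c : G)⁻¹) * (((c : G) * t * (c : G)⁻¹ * (t : G)⁻¹)) * (s : G)⁻¹ := by group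
      _ = ((c : G) * s * (c : G)⁻¹) * ((s : G)⁻¹ * (s * (((c : G) * t * (c : G)⁻¹ * (t : G)⁻¹))) *
            (s : G)⁻¹) := by group
      _ = ((c : G) * s * (c : G)⁻¹) * ((s : G)⁻¹ * ((((c : G) * t * (c : G)⁻¹ * (t : G)⁻¹)) * s) *
            (s : G)⁻¹) := by
          rw [h1]
      _ = _ := by group)

theorem al_mul (h : Blk F B₁ B₂ p₁ p₂) (b c : B₁) (t : h.T₂) :
    h.al (b * c) t = h.al b t * h.al c t := by
  apply Subtype.ext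
  have h1 := h.com₁ c.2 t.2
  have h2 := h.ab₁ b b.2 _ h1.1
  show ((b * c : B₁) : G) * t * ((b * c : B₁) : G)⁻¹ * (t : G)⁻¹ =
    ((b : G) * t * (b : G)⁻¹ * (t : G)⁻¹) * ((c : G) * t * (c : G)⁻¹ * (t : G)⁻¹)
  have h3 := h.ab₁ _ (h.com₁ b.2 t.2).1 _ h1.1
  rw [h3, Subgroup.coe_mul]
  calc (b : G) * c * t * ((b : G) * c)⁻¹ * (t : G)⁻¹
      = (b * ((c : G) * t * (c : G)⁻¹ * (t : G)⁻¹)) * t * (b : G)⁻¹ * (t : G)⁻¹ := by group
    _ = (((c : G) * t * (c : G)⁻¹ * (t : G)⁻¹) * b) * t * (b : G)⁻¹ * (t : G)⁻¹ := by rw [h2]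
    _ = _ := by group

theorem be_mul (h : Blk F B₁ B₂ p₁ p₂) (b c : B₂) (t : h.T₁) :
    h.be (b * c) t = h.be b t * h.be c t := by
  apply Subtype.ext
  have h1 := h.com₂ c.2 t.2
  have h2 := h.ab₂ b b.2 _ h1.1
  show ((b * c : B₂) : G) * t * ((b * c : B₂) : G)⁻¹ * (t : G)⁻¹ =
    ((b : G) * t * (b : G)⁻¹ * (t : G)⁻¹) * ((c : G) * t * (c : G)⁻¹ * (t : G)⁻¹)
  have h3 := h.ab₂ _ (h.com₂ b.2 t.2).1 _ h1.1
  rw [h3, Subgroup.coe_mul]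
  calc (b : G) * c * t * ((b : G) * c)⁻¹ * (t : G)⁻¹
      = (b * ((c : G) * t * (c : G)⁻¹ * (t : G)⁻¹)) * t * (b : G)⁻¹ * (t : G)⁻¹ := by group
    _ = (((c : G) * t * (c : G)⁻¹ * (t : G)⁻¹) * b) * t * (b : G)⁻¹ * (t : G)⁻¹ := by rw [h2]
    _ = _ := by group

theorem al_T₁ (h : Blk F B₁ B₂ p₁ p₂) (b : B₁) (hb : p₁ b = 0) (t : h.T₂) : h.al b t = 1 := by
  apply Subtype.ext
  show (b : G) * t * (b : G)⁻¹ * (t : G)⁻¹ = 1
  rw [h.comm ⟨b.2, hb⟩ t.2]; group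

theorem be_T₂ (h : Blk F B₁ B₂ p₁ p₂) (b : B₂) (hb : p₂ b = 0) (t : h.T₁) : h.be b t = 1 := by
  apply Subtype.ext
  show (b : G) * t * (b : G)⁻¹ * (t : G)⁻¹ = 1
  rw [← h.comm t.2 ⟨b.2, hb⟩]; group

/-- `[b,t]` depends only on `p₁ b`. -/
theorem al_congr (h : Blk F B₁ B₂ p₁ p₂) (b c : B₁) (hbc : p₁ b = p₁ c) (t : h.T₂) :
    h.al b t = h.al c t := by
  have h1 : p₁ ((b * c⁻¹ : B₁) : G) = 0 := by
    rw [Subgroup.coe_mul, Subgroup.coe_inv, h.mul₁ _ b.2 _ (inv_mem c.2), hbc,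
      ← h.mul₁ _ c.2 _ (inv_mem c.2), mul_inv_cancel, h.p₁_one]
  have h2 : b = (b * c⁻¹) * c := by group
  rw [h2, al_mul, h.al_T₁ _ h1, one_mul]

theorem be_congr (h : Blk F B₁ B₂ p₁ p₂) (b c : B₂) (hbc : p₂ b = p₂ c) (t : h.T₁) :
    h.be b t = h.be c t := by
  have h1 : p₂ ((b * c⁻¹ : B₂) : G) = 0 := by
    rw [Subgroup.coe_mul, Subgroup.coe_inv, h.mul₂ _ b.2 _ (inv_mem c.2), hbc,
      ← h.mul₂ _ c.2 _ (inv_mem c.2), mul_inv_cancel, h.p₂_one]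
  have h2 : b = (b * c⁻¹) * c := by group
  rw [h2, be_mul, h.be_T₂ _ h1, one_mul]

/-- conjugation by `b ∈ B₁` -/
theorem conj₁ (h : Blk F B₁ B₂ p₁ p₂) (b : B₁) (s : h.T₁) (t : h.T₂) :
    (b : G) * ((s : G) * t) * (b : G)⁻¹ = ((s * h.al b t : h.T₁) : G) * t := by
  have h1 := h.ab₁ b b.2 s s.2.1
  show (b : G) * ((s : G) * t) * (b : G)⁻¹ = (s : G) * ((b : G) * t * (b : G)⁻¹ * (t : G)⁻¹) * t
  calc (b : G) * ((s : G) * t) * (b : G)⁻¹ = (b * s) * t * (b : G)⁻¹ := by group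
    _ = (s * b) * t * (b : G)⁻¹ := by rw [h1]
    _ = _ := by group

/-- conjugation by `c ∈ B₂` -/
theorem conj₂ (h : Blk F B₁ B₂ p₁ p₂) (c : B₂) (s : h.T₁) (t : h.T₂) :
    (c : G) * ((s : G) * t) * (c : G)⁻¹ = (s : G) * ((t * h.be c s : h.T₂) : G) := by
  have h1 := h.ab₂ c c.2 t t.2.1
  have h2 : (c : G) * s * (c : G)⁻¹ = ((h.be c s : h.T₂) : G) * s := by
    show (c : G) * s * (c : G)⁻¹ = ((c : G) * s * (c : G)⁻¹ * (s : G)⁻¹) * s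
    group
  have h3 : ((h.be c s : h.T₂) : G) * s = s * ((h.be c s : h.T₂) : G) :=
    (h.comm s.2 (h.be c s).2).symm
  have h4 : ((h.be c s : h.T₂) : G) * t = t * ((h.be c s : h.T₂) : G) :=
    h.ab₂ _ (h.be c s).2.1 _ t.2.1
  show (c : G) * ((s : G) * t) * (c : G)⁻¹ = (s : G) * (t * ((h.be c s : h.T₂) : G))
  calc (c : G) * ((s : G) * t) * (c : G)⁻¹ = ((c : G) * s * (c : G)⁻¹) * ((c * t) * (c : G)⁻¹) := by
        group
    _ = (((h.be c s : h.T₂) : G) * s) * ((t * c) * (c : G)⁻¹) := by rw [h2, h1]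
    _ = (s * ((h.be c s : h.T₂) : G)) * t := by rw [h3]; group
    _ = s * (((h.be c s : h.T₂) : G) * t) := by group
    _ = s * (t * ((h.be c s : h.T₂) : G)) := by rw [h4]

theorem sqT₁ (h : Blk F B₁ B₂ p₁ p₂) (s : h.T₁) : s * s = 1 := Subtype.ext (h.sq₁ s s.2.1)
theorem sqT₂ (h : Blk F B₁ B₂ p₁ p₂) (s : h.T₂) : s * s = 1 := Subtype.ext (h.sq₂ s s.2.1)

/-- the swap relation, first half: `[b,[c,s]] = s`. -/
theorem al_be (h : Blk F B₁ B₂ p₁ p₂) (b : B₁) (c : B₂) (hb : p₁ b ≠ 0)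
    (hc : p₂ c = (p₁ b)⁻¹) (s : h.T₁) : h.al b (h.be c s) = s := by
  have h1 := h.swap₁ b b.2 c c.2 hb hc s s.2.1 s.2.2
  have e1 : (b : G) * ((s : G) * ((1 : h.T₂) : G)) * (b : G)⁻¹ = (s : G) * ((1 : h.T₂) : G) := by
    rw [h.conj₁, map_one, mul_one]
  have e2 := h.conj₂ c s 1
  rw [one_mul] at e2
  have e3 := h.conj₁ b s (h.be c s)
  have e4 : (b * c * b : G) * s * (b * c * b : G)⁻¹ =
      ((s * h.al b (h.be c s) : h.T₁) : G) * (h.be c s : h.T₂) := by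
    rw [← e3, ← e2, ← e1, Subgroup.coe_one, mul_one]; group
  rw [e4] at h1
  have h2 : ((s * h.al b (h.be c s) : h.T₁) : G) ∈ B₂ := by
    have := mul_mem h1 (inv_mem (h.be c s).2.1)
    rwa [mul_inv_cancel_right] at this
  have h3 := h.inf _ (s * h.al b (h.be c s)).2.1 h2
  have h4 : s * h.al b (h.be c s) = 1 := Subtype.ext h3
  have h5 : h.al b (h.be c s) = s⁻¹ := eq_inv_of_mul_eq_one_right h4
  rw [h5]
  exact inv_eq_of_mul_eq_one_right (h.sqT₁ s)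

/-- the swap relation, second half: `[c,[b,t]] = t`. -/
theorem be_al (h : Blk F B₁ B₂ p₁ p₂) (b : B₁) (c : B₂) (hb : p₁ b ≠ 0)
    (hc : p₂ c = (p₁ b)⁻¹) (t : h.T₂) : h.be c (h.al b t) = t := by
  have h1 := h.swap₂ b b.2 c c.2 hb hc t t.2.1 t.2.2
  have e1 := h.conj₁ b 1 t
  rw [one_mul] at e1
  have e2 := h.conj₂ c (h.al b t) t
  have e3 := h.conj₁ b (h.al b t) (t * h.be c (h.al b t))
  have e4 : (b * c * b : G) * t * (b * c * b : G)⁻¹ =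
      ((h.al b t * h.al b (t * h.be c (h.al b t)) : h.T₁) : G) *
        ((t * h.be c (h.al b t) : h.T₂) : G) := by
    rw [← e3, ← e2, ← e1, Subgroup.coe_one, one_mul]; group
  rw [e4] at h1
  have h2 : ((t * h.be c (h.al b t) : h.T₂) : G) ∈ B₁ := by
    have := mul_mem (inv_mem (h.al b t * h.al b (t * h.be c (h.al b t))).2.1) h1
    rwa [inv_mul_cancel_left] at this
  have h3 := h.inf _ h2 (t * h.be c (h.al b t)).2.1
  have h4 : t * h.be c (h.al b t) = 1 := Subtype.ext h3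
  have h5 : h.be c (h.al b t) = t⁻¹ := eq_inv_of_mul_eq_one_right h4
  rw [h5]
  exact inv_eq_of_mul_eq_one_right (h.sqT₂ t)

/-! ### The ring homomorphism -/

/-- a chosen element of `B₁` over `a` -/
noncomputable def b₁ (h : Blk F B₁ B₂ p₁ p₂) (a : F) : B₁ :=
  ⟨(h.sur₁ a).choose, (h.sur₁ a).choose_spec.1⟩

theorem p_b₁ (h : Blk F B₁ B₂ p₁ p₂) (a : F) : p₁ (h.b₁ a : G) = a := (h.sur₁ a).choose_spec.2

/-- a chosen element of `B₂` over `a` -/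
noncomputable def b₂ (h : Blk F B₁ B₂ p₁ p₂) (a : F) : B₂ :=
  ⟨(h.sur₂ a).choose, (h.sur₂ a).choose_spec.1⟩

theorem p_b₂ (h : Blk F B₁ B₂ p₁ p₂) (a : F) : p₂ (h.b₂ a : G) = a := (h.sur₂ a).choose_spec.2

/-- `α'_a = α_a β_1` -/
noncomputable def A (h : Blk F B₁ B₂ p₁ p₂) (a : F) : AddMonoid.End (Additive h.T₁) :=
  MonoidHom.toAdditive ((h.al (h.b₁ a)).comp (h.be (h.b₂ 1)))

/-- `β'_a = α_1 β_a` -/
noncomputable def B (h : Blk F B₁ B₂ p₁ p₂) (a : F) : AddMonoid.End (Additive h.T₁) :=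
  MonoidHom.toAdditive ((h.al (h.b₁ 1)).comp (h.be (h.b₂ a)))

theorem A_apply (h : Blk F B₁ B₂ p₁ p₂) (a : F) (s : h.T₁) :
    h.A a (Additive.ofMul s) = Additive.ofMul (h.al (h.b₁ a) (h.be (h.b₂ 1) s)) := rfl

theorem B_apply (h : Blk F B₁ B₂ p₁ p₂) (a : F) (s : h.T₁) :
    h.B a (Additive.ofMul s) = Additive.ofMul (h.al (h.b₁ 1) (h.be (h.b₂ a) s)) := rfl

theorem al_be_one (h : Blk F B₁ B₂ p₁ p₂) (s : h.T₁) : h.al (h.b₁ 1) (h.be (h.b₂ 1) s) = s :=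
  h.al_be _ _ (by rw [h.p_b₁]; exact one_ne_zero) (by rw [h.p_b₁, h.p_b₂, inv_one]) s

theorem be_al_one (h : Blk F B₁ B₂ p₁ p₂) (t : h.T₂) : h.be (h.b₂ 1) (h.al (h.b₁ 1) t) = t :=
  h.be_al _ _ (by rw [h.p_b₁]; exact one_ne_zero) (by rw [h.p_b₁, h.p_b₂, inv_one]) t

theorem add_self (h : Blk F B₁ B₂ p₁ p₂) (x : Additive h.T₁) : x + x = 0 :=
  congrArg Additive.ofMul (h.sqT₁ x.toMul)

theorem hua [Finite F] [CharP F 2] (h : Blk F B₁ B₂ p₁ p₂) :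
    (∀ a, h.B a = h.A a) ∧ ∀ a b, h.A (a * b) = h.A a * h.A b := by
  refine Cfsg.Agent.Omega.Mix.Hua.hua ?_ h.A h.B ?_ ?_ ?_ ?_
  · intro r
    refine AddMonoidHom.ext fun s => ?_
    exact h.add_self (r s)
  · intro a b
    refine AddMonoidHom.ext fun s => ?_
    show Additive.ofMul (h.al (h.b₁ (a + b)) (h.be (h.b₂ 1) s.toMul)) =
      Additive.ofMul (h.al (h.b₁ a) (h.be (h.b₂ 1) s.toMul) * h.al (h.b₁ b) (h.be (h.b₂ 1) s.toMul))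
    rw [← h.al_mul]
    refine congrArg Additive.ofMul (h.al_congr _ _ ?_ _)
    rw [h.p_b₁, Subgroup.coe_mul, h.mul₁ _ (h.b₁ a).2 _ (h.b₁ b).2, h.p_b₁, h.p_b₁]
  · intro a b
    refine AddMonoidHom.ext fun s => ?_
    show Additive.ofMul (h.al (h.b₁ 1) (h.be (h.b₂ (a + b)) s.toMul)) =
      Additive.ofMul (h.al (h.b₁ 1) (h.be (h.b₂ a) s.toMul) * h.al (h.b₁ 1) (h.be (h.b₂ b) s.toMul))
    rw [← map_mul, ← h.be_mul]
    refine congrArg Additive.ofMul (congrArg (h.al (h.b₁ 1)) (h.be_congr _ _ ?_ _))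
    rw [h.p_b₂, Subgroup.coe_mul, h.mul₂ _ (h.b₂ a).2 _ (h.b₂ b).2, h.p_b₂, h.p_b₂]
  · refine AddMonoidHom.ext fun s => ?_
    show Additive.ofMul (h.al (h.b₁ 1) (h.be (h.b₂ 1) s.toMul)) = s
    rw [h.al_be_one]; rfl
  · intro a ha
    constructor
    · refine AddMonoidHom.ext fun s => ?_
      show Additive.ofMul (h.al (h.b₁ a) (h.be (h.b₂ 1) (h.al (h.b₁ 1) (h.be (h.b₂ a⁻¹) s.toMul)))) = s
      rw [h.be_al_one, h.al_be _ _ (by rw [h.p_b₁]; exact ha) (by rw [h.p_b₁, h.p_b₂])]; rfl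
    · refine AddMonoidHom.ext fun s => ?_
      show Additive.ofMul (h.al (h.b₁ 1) (h.be (h.b₂ a⁻¹) (h.al (h.b₁ a) (h.be (h.b₂ 1) s.toMul)))) = s
      rw [h.be_al _ _ (by rw [h.p_b₁]; exact ha) (by rw [h.p_b₁, h.p_b₂]), h.al_be_one]; rfl

/-- the ring homomorphism `F → End(T₁)` -/
noncomputable def ringHom [Finite F] [CharP F 2] (h : Blk F B₁ B₂ p₁ p₂) :
    F →+* AddMonoid.End (Additive h.T₁) where
  toFun := h.A
  map_one' := by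
    refine AddMonoidHom.ext fun s => ?_
    show Additive.ofMul (h.al (h.b₁ 1) (h.be (h.b₂ 1) s.toMul)) = s
    rw [h.al_be_one]; rfl
  map_mul' := h.hua.2
  map_zero' := by
    refine AddMonoidHom.ext fun s => ?_
    show Additive.ofMul (h.al (h.b₁ 0) (h.be (h.b₂ 1) s.toMul)) = 0
    rw [h.al_T₁ _ (h.p_b₁ 0)]; rfl
  map_add' a b := by
    refine AddMonoidHom.ext fun s => ?_
    show Additive.ofMul (h.al (h.b₁ (a + b)) (h.be (h.b₂ 1) s.toMul)) =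
      Additive.ofMul (h.al (h.b₁ a) (h.be (h.b₂ 1) s.toMul) * h.al (h.b₁ b) (h.be (h.b₂ 1) s.toMul))
    rw [← h.al_mul]
    refine congrArg Additive.ofMul (h.al_congr _ _ ?_ _)
    rw [h.p_b₁, Subgroup.coe_mul, h.mul₁ _ (h.b₁ a).2 _ (h.b₁ b).2, h.p_b₁, h.p_b₁]

end Blk

/-- **The tensor lemma.** -/
theorem exists_ten.{u} {G : Type u} [Group G] {F : Type*} [Field F] [Finite F] [CharP F 2]
    {B₁ B₂ : Subgroup G} {p₁ p₂ : G → F} (h : Blk F B₁ B₂ p₁ p₂) :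
    ∃ (U : Type u) (_ : AddCommGroup U) (_ : Module F U), Nonempty (Ten F B₁ B₂ p₁ p₂ U) := by
  let M : Module F (Additive h.T₁) := Module.compHom (Additive h.T₁) h.ringHom
  have smul_def : ∀ (a : F) (x : Additive h.T₁), (a • x : Additive h.T₁) =
      Additive.ofMul (h.al (h.b₁ a) (h.be (h.b₂ 1) x.toMul)) := fun a x => rfl
  let n : Additive h.T₁ → Additive h.T₁ → G := fun s t =>
    ((s.toMul : h.T₁) : G) * ((h.be (h.b₂ 1) t.toMul : h.T₂) : G)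
  have hn : ∀ s t, n s t = ((s.toMul : h.T₁) : G) * ((h.be (h.b₂ 1) t.toMul : h.T₂) : G) :=
    fun s t => rfl
  refine ⟨Additive h.T₁, inferInstance, M, ⟨⟨n, ?_, ?_, ?_, ?_, ?_, ?_⟩⟩⟩
  · intro s s' t t'
    have h1 : (((h.be (h.b₂ 1) t.toMul : h.T₂) : G)) * ((s'.toMul : h.T₁) : G) =
      ((s'.toMul : h.T₁) : G) * (((h.be (h.b₂ 1) t.toMul : h.T₂) : G)) :=
      (h.comm s'.toMul.2 (h.be (h.b₂ 1) t.toMul).2).symm
    rw [hn, hn, hn, toMul_add, toMul_add, map_mul, Subgroup.coe_mul, Subgroup.coe_mul]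
    calc ((s.toMul : h.T₁) : G) * ((s'.toMul : h.T₁) : G) *
          (((h.be (h.b₂ 1) t.toMul : h.T₂) : G) * ((h.be (h.b₂ 1) t'.toMul : h.T₂) : G))
        = ((s.toMul : h.T₁) : G) * (((s'.toMul : h.T₁) : G) *
          (((h.be (h.b₂ 1) t.toMul : h.T₂) : G))) * ((h.be (h.b₂ 1) t'.toMul : h.T₂) : G) := by group
      _ = ((s.toMul : h.T₁) : G) * ((((h.be (h.b₂ 1) t.toMul : h.T₂) : G)) *
          ((s'.toMul : h.T₁) : G)) * ((h.be (h.b₂ 1) t'.toMul : h.T₂) : G) := by rw [h1]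
      _ = _ := by group
  · intro s s' t t' he
    rw [hn, hn] at he
    have h1 : ((s'.toMul⁻¹ * s.toMul : h.T₁) : G) =
        ((h.be (h.b₂ 1) t'.toMul * (h.be (h.b₂ 1) t.toMul)⁻¹ : h.T₂) : G) := by
      rw [Subgroup.coe_mul, Subgroup.coe_inv, Subgroup.coe_mul, Subgroup.coe_inv]
      rw [eq_mul_inv_iff_mul_eq, mul_assoc, he, inv_mul_cancel_left]
    have h2 : ((s'.toMul⁻¹ * s.toMul : h.T₁) : G) = 1 :=
      h.inf _ (s'.toMul⁻¹ * s.toMul).2.1 (by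
        rw [h1]; exact (h.be (h.b₂ 1) t'.toMul * (h.be (h.b₂ 1) t.toMul)⁻¹).2.1)
    have h3 : s'.toMul⁻¹ * s.toMul = 1 := Subtype.ext h2
    have h4 : s.toMul = s'.toMul := (inv_mul_eq_one.mp h3).symm
    rw [h2] at h1
    have h5 : h.be (h.b₂ 1) t'.toMul * (h.be (h.b₂ 1) t.toMul)⁻¹ = 1 := Subtype.ext h1.symm
    have h6 : h.be (h.b₂ 1) t.toMul = h.be (h.b₂ 1) t'.toMul := (mul_inv_eq_one.mp h5).symm
    have h7 : t.toMul = t'.toMul := by rw [← h.al_be_one t.toMul, h6, h.al_be_one]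
    exact ⟨h4, h7⟩
  · intro g
    constructor
    · intro hg
      refine ⟨Additive.ofMul ⟨g, hg⟩, ?_⟩
      rw [hn, toMul_zero, map_one, Subgroup.coe_one, mul_one]; rfl
    · rintro ⟨s, rfl⟩
      rw [hn, toMul_zero, map_one, Subgroup.coe_one, mul_one]
      exact s.toMul.2
  · intro g
    constructor
    · intro hg
      refine ⟨Additive.ofMul (h.al (h.b₁ 1) ⟨g, hg⟩), ?_⟩
      rw [hn, toMul_zero, Subgroup.coe_one, one_mul, toMul_ofMul, h.be_al_one]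
    · rintro ⟨s, rfl⟩
      rw [hn, toMul_zero, Subgroup.coe_one, one_mul]
      exact (h.be (h.b₂ 1) s.toMul).2
  · intro b hb s t
    have h1 := h.conj₁ ⟨b, hb⟩ s.toMul (h.be (h.b₂ 1) t.toMul)
    have h2 : h.al ⟨b, hb⟩ (h.be (h.b₂ 1) t.toMul) =
        h.al (h.b₁ (p₁ b)) (h.be (h.b₂ 1) t.toMul) := h.al_congr _ _ (h.p_b₁ _).symm _
    rw [h2] at h1
    exact h1
  · intro c hc s t
    have h1 := h.conj₂ ⟨c, hc⟩ s.toMul (h.be (h.b₂ 1) t.toMul)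
    have h2 : h.be ⟨c, hc⟩ s.toMul = h.be (h.b₂ (p₂ c)) s.toMul :=
      h.be_congr _ _ (h.p_b₂ _).symm _
    have h3 : h.be (h.b₂ (p₂ c)) s.toMul =
        h.be (h.b₂ 1) (h.al (h.b₁ (p₂ c)) (h.be (h.b₂ 1) s.toMul)) := by
      have h4 : h.B (p₂ c) s = h.A (p₂ c) s := by rw [h.hua.1]
      have h5 : h.al (h.b₁ 1) (h.be (h.b₂ (p₂ c)) s.toMul) =
        h.al (h.b₁ (p₂ c)) (h.be (h.b₂ 1) s.toMul) := congrArg Additive.toMul h4
      rw [← h5, h.be_al_one]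
    have h6 : n s (t + p₂ c • s) = ((s.toMul : h.T₁) : G) *
        ((h.be (h.b₂ 1) t.toMul * h.be (h.b₂ 1) (h.al (h.b₁ (p₂ c)) (h.be (h.b₂ 1) s.toMul)) :
          h.T₂) : G) := by
      rw [hn, toMul_add, map_mul, smul_def, toMul_ofMul]
    rw [h6, ← h3, ← h2]
    exact h1

namespace Ten

variable {U : Type*} [AddCommGroup U] [Module F U] (N : Ten F B₁ B₂ p₁ p₂ U)

theorem n_zero : N.n 0 0 = 1 := by
  have := N.n_add 0 0 0 0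
  rw [add_zero] at this
  exact left_eq_mul.mp this

theorem n_split (s t : U) : N.n s t = N.n s 0 * N.n 0 t := by
  rw [← N.n_add, add_zero, zero_add]

theorem n_comm (s t s' t' : U) : N.n s t * N.n s' t' = N.n s' t' * N.n s t := by
  rw [← N.n_add, ← N.n_add, add_comm s, add_comm t]

theorem n_inv (s t : U) : (N.n s t)⁻¹ = N.n (-s) (-t) := by
  rw [inv_eq_iff_mul_eq_one, ← N.n_add, add_neg_cancel, add_neg_cancel, N.n_zero]

include N in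
theorem two_smul_eq_zero [CharP F 2] (x : U) : x + x = 0 := by
  have : (2 : F) • x = 0 := by rw [CharTwo.two_eq_zero, zero_smul]
  rwa [two_smul] at this

/-- The subgroup `X = ⟨B₁,B₂⟩` acts as `SL₂(F)`. -/
theorem act_closure {g : G} (hg : g ∈ B₁ ⊔ B₂) : ∃ a b c d : F, a * d - b * c = 1 ∧
    ∀ s t, g * N.n s t * g⁻¹ = N.n (a • s + b • t) (c • s + d • t) := by
  rw [Subgroup.sup_eq_closure] at hg
  induction hg using Subgroup.closure_induction with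
  | mem x hx =>
    rcases hx with hx | hx
    · refine ⟨1, p₁ x, 0, 1, by ring, fun s t => ?_⟩
      rw [N.act₁ x hx]
      simp
    · refine ⟨1, 0, p₂ x, 1, by ring, fun s t => ?_⟩
      rw [N.act₂ x hx]
      simp [add_comm]
  | one =>
    refine ⟨1, 0, 0, 1, by ring, fun s t => ?_⟩
    simp
  | mul x y _ _ hx hy =>
    obtain ⟨a, b, c, d, h1, h2⟩ := hx
    obtain ⟨a', b', c', d', h1', h2'⟩ := hy
    refine ⟨a * a' + b * c', a * b' + b * d', c * a' + d * c', c * b' + d * d', ?_, fun s t => ?_⟩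
    · linear_combination (a' * d' - b' * c') * h1 + h1'
    · have e : x * y * N.n s t * (x * y)⁻¹ = x * (y * N.n s t * y⁻¹) * x⁻¹ := by group
      rw [e, h2', h2]
      congr 1 <;> simp only [smul_add, smul_smul, add_smul] <;> abel
  | inv x _ hx =>
    obtain ⟨a, b, c, d, h1, h2⟩ := hx
    refine ⟨d, -b, -c, a, by linear_combination h1, fun s t => ?_⟩
    have h3 := h2 (d • s + (-b) • t) ((-c) • s + a • t)
    have e1 : a • (d • s + (-b) • t) + b • ((-c) • s + a • t) = s := by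
      have : a • (d • s + (-b) • t) + b • ((-c) • s + a • t) =
        (a * d - b * c) • s + (b * a - a * b) • t := by module
      rw [this, h1, mul_comm b a, sub_self, one_smul, zero_smul, add_zero]
    have e2 : c • (d • s + (-b) • t) + d • ((-c) • s + a • t) = t := by
      have : c • (d • s + (-b) • t) + d • ((-c) • s + a • t) =
        (c * d - d * c) • s + (a * d - b * c) • t := by module
      rw [this, h1, mul_comm c d, sub_self, one_smul, zero_smul, zero_add]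
    rw [e1, e2] at h3
    rw [inv_inv, ← h3]; group

/-- An element which normalises `B₁`, `B₂` and respects `p₁`, `p₂` (e.g. an element of `C(V)`) acts
`F`-linearly on `U`, in the same way on `T₁` and `T₂`. -/
theorem exists_lin {y : G} (h₁ : ∀ b ∈ B₁, y * b * y⁻¹ ∈ B₁ ∧ p₁ (y * b * y⁻¹) = p₁ b)
    (h₂ : ∀ b ∈ B₂, y * b * y⁻¹ ∈ B₂ ∧ p₂ (y * b * y⁻¹) = p₂ b)
    (hsur : ∀ a, ∃ b ∈ B₁, p₁ b = a) :
    ∃ φ : U →ₗ[F] U, Function.Injective φ ∧ ∀ s t, y * N.n s t * y⁻¹ = N.n (φ s) (φ t) := by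
  have k1 : ∀ s, ∃ s', y * N.n s 0 * y⁻¹ = N.n s' 0 := by
    intro s
    have h3 := (N.mem₁ (N.n s 0)).mpr ⟨s, rfl⟩
    have h4 := h₁ _ h3.1
    exact (N.mem₁ _).mp ⟨h4.1, by rw [h4.2, h3.2]⟩
  have k2 : ∀ s, ∃ s', y * N.n 0 s * y⁻¹ = N.n 0 s' := by
    intro s
    have h3 := (N.mem₂ (N.n 0 s)).mpr ⟨s, rfl⟩
    have h4 := h₂ _ h3.1
    exact (N.mem₂ _).mp ⟨h4.1, by rw [h4.2, h3.2]⟩
  choose f hf using k1
  choose g hg using k2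
  have key : ∀ (a : F) (t : U), f (a • t) = a • g t := by
    intro a t
    obtain ⟨b, hb, hba⟩ := hsur a
    have e1 := N.act₁ b hb 0 t
    rw [zero_add, hba, N.n_split (a • t) t] at e1
    have h4 := h₁ b hb
    have e2 := N.act₁ _ h4.1 0 (g t)
    rw [zero_add, h4.2, hba] at e2
    have e3 : (y * b * y⁻¹) * N.n 0 (g t) * (y * b * y⁻¹)⁻¹ = N.n (f (a • t)) (g t) := by
      rw [← hg t]
      calc (y * b * y⁻¹) * (y * N.n 0 t * y⁻¹) * (y * b * y⁻¹)⁻¹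
          = y * (b * N.n 0 t * b⁻¹) * y⁻¹ := by group
        _ = (y * N.n (a • t) 0 * y⁻¹) * (y * N.n 0 t * y⁻¹) := by rw [e1]; group
        _ = N.n (f (a • t)) (g t) := by rw [hf, hg, ← N.n_split]
    rw [e3] at e2
    exact (N.n_inj _ _ _ _ e2).1
  have hfg : ∀ t, f t = g t := by
    intro t
    have := key 1 t
    rwa [one_smul, one_smul] at this
  have hadd : ∀ s t, f (s + t) = f s + f t := by
    intro s t
    have e : N.n (f (s + t)) 0 = N.n (f s + f t) (0 + 0) := by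
      rw [N.n_add, ← hf, ← hf, ← hf, show N.n (s + t) 0 = N.n s 0 * N.n t 0 by
        rw [← N.n_add, add_zero]]
      group
    rw [add_zero] at e
    exact (N.n_inj _ _ _ _ e).1
  let φ : U →ₗ[F] U :=
    { toFun := f
      map_add' := hadd
      map_smul' := fun a t => by
        show f (a • t) = a • f t
        rw [key, hfg] }
  refine ⟨φ, ?_, fun s t => ?_⟩
  · intro s t hst
    have hst' : f s = f t := hst
    have e1 : y * N.n s 0 * y⁻¹ = y * N.n t 0 * y⁻¹ := by rw [hf, hf, hst']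
    have e2 : N.n s 0 = N.n t 0 := mul_left_cancel (mul_right_cancel e1)
    exact (N.n_inj _ _ _ _ e2).1
  · show y * N.n s t * y⁻¹ = N.n (f s) (f t)
    have e : y * N.n s t * y⁻¹ = (y * N.n s 0 * y⁻¹) * (y * N.n 0 t * y⁻¹) := by
      rw [N.n_split s t]; group
    rw [e, hf, hg, ← N.n_split, ← hfg t]

/-- The natural module `V = k² ⊗ f₀` inside `N`. -/
theorem exists_f₀ (e : F → F → G) (he₁ : ∀ x, e x 0 ∈ B₁ ∧ p₁ (e x 0) = 0)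
    (he₂ : ∀ y, e 0 y ∈ B₂ ∧ p₂ (e 0 y) = 0)
    (hadd : ∀ x y, e x y = e x 0 * e 0 y)
    (hact : ∀ b ∈ B₁, ∀ x y, b * e x y * b⁻¹ = e (x + p₁ b * y) y)
    (hsur : ∀ a, ∃ b ∈ B₁, p₁ b = a) :
    ∃ f₀ : U, ∀ x y, e x y = N.n (x • f₀) (y • f₀) := by
  have k1 : ∀ x, ∃ s, e x 0 = N.n s 0 := fun x => (N.mem₁ _).mp (he₁ x)
  have k2 : ∀ x, ∃ s, e 0 x = N.n 0 s := fun x => (N.mem₂ _).mp (he₂ x)
  choose f hf using k1
  choose g hg using k2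
  have key : ∀ a y, f (a * y) = a • g y := by
    intro a y
    obtain ⟨b, hb, hba⟩ := hsur a
    have e1 := hact b hb 0 y
    rw [hg, N.act₁ b hb, zero_add, zero_add, hba, hadd, hf, hg, ← N.n_split] at e1
    exact ((N.n_inj _ _ _ _ e1).1).symm
  have h1 : ∀ y, f y = g y := by
    intro y
    have := key 1 y
    rwa [one_mul, one_smul] at this
  refine ⟨f 1, fun x y => ?_⟩
  have h2 : ∀ x, f x = x • f 1 := by
    intro x
    have := key x 1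
    rwa [mul_one, ← h1] at this
  rw [hadd, hf, hg, ← N.n_split, ← h1, h2 x, h2 y]

end Ten

end Cfsg.Agent.Omega.Mix.Tensor
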