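import Cfsg.Agent.Omega.Mix.Form
import Cfsg.Agent.Omega.Mix.AtV

/-!
# The torus of a line and its action on `R`, `V / R`, `C_{W'}(V) / R`

`exists_g₀` : if `C i = C j` there is a torus element of `B i ⊔ B j` acting trivially on `C i / V`;
`tor_line` : its conjugate under `h ∈ N(R)` acts on `R` as a scalar `μ`, on `V^h / R` as `μ⁻¹` and on `C_{W'}(V^h) / R` as
`μ`.
-/

set_option autoImplicit false
set_option linter.unusedSectionVars false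

namespace Cfsg.Agent.Omega.Mix

open Subgroup Cfsg.Agent.Lib.SL2Mat Cfsg.Agent.Omega.BTwo
open Cfsg.Agent.Omega.NatPair (dt dt_smul dt_add exists_smul_of_dt exists_comb ap ap_smul ap_zero' ap_one' ap_mul
  ap_inv_ap ap_ap_inv ap_one)

universe u

variable {G : Type u} [Group G]

/-- a torus element -/
theorem SideM.exists_g₀ [Finite G] {F : Type*} [Field F] [Finite F] [CharP F 2] {V H₀ : Subgroup G} {M : RMod F V H₀}
    {B C : Pt M → Subgroup G} (s : SideM M B C) {i j : Pt M} {w u : Fin 2 → F} (hi : i.1 = M.line w)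
    (hj : j.1 = M.line u) (hwu : dt w u ≠ 0) (hC : C j = C i) {c : F} (hc : c ≠ 0) :
    ∃ g : G, (∀ x y : F, g * M.e (x • w + y • u) * g⁻¹ = M.e ((c * x) • w + (c⁻¹ * y) • u)) ∧
      ∀ a ∈ C i, g * a * g⁻¹ * a⁻¹ ∈ V := by
  obtain ⟨U, hU1, hU2, ⟨N⟩⟩ := s.exists_atV hi hj hwu
  have huw : dt u w ≠ 0 := by rw [dt_swap]; exact neg_ne_zero.2 hwu
  obtain ⟨g, hg, -, h2⟩ := N.exists_torus (fun a => s.pp_surj hi hj hwu a) (fun a => s.pp_surj hj hi huw a) hc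
  refine ⟨g, h2, ?_⟩
  have hle : B i ⊔ B j ≤ normalizer (V : Set G) := sup_le (s.B_NV i) (s.B_NV j)
  let X : Subgroup G :=
    { carrier := {g | g ∈ normalizer (V : Set G) ∧ ∀ a ∈ C i, g * a * g⁻¹ * a⁻¹ ∈ V}
      one_mem' := ⟨one_mem _, fun a _ => by
        have e : 1 * a * 1⁻¹ * a⁻¹ = 1 := by group
        rw [e]; exact one_mem _⟩
      mul_mem' := by
        rintro g h ⟨g1, g2⟩ ⟨h1, h2⟩
        refine ⟨mul_mem g1 h1, fun a ha => ?_⟩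
        have e : g * h * a * (g * h)⁻¹ * a⁻¹ = g * (h * a * h⁻¹ * a⁻¹) * g⁻¹ * (g * a * g⁻¹ * a⁻¹) := by group
        rw [e]
        exact mul_mem (conj_mem_of_normalizer g1 (h2 a ha)) (g2 a ha)
      inv_mem' := by
        rintro g ⟨g1, g2⟩
        refine ⟨inv_mem g1, fun a ha => ?_⟩
        have h6 := conj_inv_mem_of_normalizer g1 (inv_mem (g2 a ha))
        have e : g⁻¹ * (g * a * g⁻¹ * a⁻¹)⁻¹ * g = g⁻¹ * a * g⁻¹⁻¹ * a⁻¹ := by group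
        rwa [e] at h6 }
  have hX : B i ⊔ B j ≤ X := by
    refine sup_le ?_ ?_
    · intro b hb
      exact ⟨s.B_NV i hb, fun a ha => s.R_V i (s.CB' hb ha)⟩
    · intro b hb
      refine ⟨s.B_NV j hb, fun a ha => s.R_V j (s.CB' hb ?_)⟩
      rw [hC]; exact ha
  exact (hX hg).2

/-- the torus element at the line `V^h` -/
theorem tor_line [Finite G] {F : Type*} [Field F] {V H₀ : Subgroup G} (M : RMod F V H₀) {w u : Fin 2 → F} (hw : w ≠ 0)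
    (hwu : dt w u ≠ 0) {R : Subgroup G} (hR : R = M.line w) {K : Type*} [Field K] {κ : K → G} {W' : Subgroup G}
    (p : Pai κ (LL V R R) W' R) (hZ : (W' : Set G) ⊆ ZZ M w R)
    (hnW' : normalizer (R : Set G) ≤ normalizer (W' : Set G)) {h : G} (hh : h ∈ normalizer (R : Set G))
    {T : K → F} {T' : F → K} (hT : ∀ z, M.e (T z • w) = h⁻¹ * κ z * h) (hTT' : ∀ c, T (T' c) = c)
    (hT'T : ∀ z, T' (T z) = z) (hsc : ∀ c : F, ∃ μ : K, ∀ z, T' (c * T z) = μ * z) {c : F} (hc : c ≠ 0) {g₀ : G}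
    (hg₀ : ∀ x y : F, g₀ * M.e (x • w + y • u) * g₀⁻¹ = M.e ((c * x) • w + (c⁻¹ * y) • u))
    (hgV : ∀ a ∈ LL V R R, g₀ * a * g₀⁻¹ * a⁻¹ ∈ V) {μ : K} (hμ : ∀ z, T' (c * T z) = μ * z) :
    ∃ g ∈ normalizer (R : Set G), (∀ z, g * κ z * g⁻¹ = κ (μ * z)) ∧
      (∀ a ∈ cj h V, g * a * g⁻¹ ∈ cj h V ∧ ∀ b ∈ W', fm κ (g * a * g⁻¹) b = μ⁻¹ * fm κ a b) ∧
      ∀ b ∈ W', (∀ a ∈ cj h V, a * b = b * a) → ∀ a ∈ LL V R R, fm κ a (g * b * g⁻¹) = μ * fm κ a b := by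
  have hg₀R : g₀ ∈ normalizer (R : Set G) := by
    refine mem_normalizer_of_conj fun r hr => ?_
    rw [hR] at hr ⊢
    obtain ⟨d, rfl⟩ := hr
    have h1 := hg₀ d 0
    rw [zero_smul, mul_zero, zero_smul, add_zero, add_zero] at h1
    rw [h1]
    exact ⟨c * d, rfl⟩
  have hκ : ∀ d : F, κ (T' d) = h * M.e (d • w) * h⁻¹ := by
    intro d
    have h1 := hT (T' d)
    rw [hTT'] at h1
    rw [h1]; group
  have hgN : h * g₀ * h⁻¹ ∈ normalizer (R : Set G) := mul_mem (mul_mem hh hg₀R) (inv_mem hh)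
  have hg1 : ∀ z, h * g₀ * h⁻¹ * κ z * (h * g₀ * h⁻¹)⁻¹ = κ (μ * z) := by
    intro z
    have h1 := hg₀ (T z) 0
    rw [zero_smul, mul_zero, zero_smul, add_zero, add_zero] at h1
    calc h * g₀ * h⁻¹ * κ z * (h * g₀ * h⁻¹)⁻¹ = h * (g₀ * (h⁻¹ * κ z * h) * g₀⁻¹) * h⁻¹ := by group
      _ = h * (g₀ * M.e (T z • w) * g₀⁻¹) * h⁻¹ := by rw [hT]
      _ = h * M.e ((c * T z) • w) * h⁻¹ := by rw [h1]
      _ = κ (μ * z) := by rw [← hκ, hμ]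
  obtain ⟨μ', hμ'⟩ := hsc c⁻¹
  have hμμ' : μ' = μ⁻¹ := by
    have h1 := hμ' (T' (c * T 1))
    rw [hTT', ← mul_assoc, inv_mul_cancel₀ hc, one_mul, hT'T, hμ, mul_one] at h1
    exact eq_inv_of_mul_eq_one_left h1.symm
  refine ⟨h * g₀ * h⁻¹, hgN, hg1, ?_, ?_⟩
  · rintro _ ⟨v, hv, rfl⟩
    obtain ⟨x, rfl⟩ := (M.mem_iff v).1 hv
    obtain ⟨α, β, rfl⟩ := exists_comb hwu x
    have e1 : h * g₀ * h⁻¹ * (h * M.e (α • w + β • u) * h⁻¹) * (h * g₀ * h⁻¹)⁻¹ =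
        h * M.e ((c * α) • w + (c⁻¹ * β) • u) * h⁻¹ := by
      rw [← hg₀]; group
    refine ⟨?_, fun b hb => ?_⟩
    · show h * g₀ * h⁻¹ * (h * M.e (α • w + β • u) * h⁻¹) * (h * g₀ * h⁻¹)⁻¹ ∈ cj h V
      rw [e1]
      exact conj_mem_cj (M.e_mem _)
    · show fm κ (h * g₀ * h⁻¹ * (h * M.e (α • w + β • u) * h⁻¹) * (h * g₀ * h⁻¹)⁻¹) b =
        μ⁻¹ * fm κ (h * M.e (α • w + β • u) * h⁻¹) b
      rw [e1]
      obtain ⟨B, hB, hB'⟩ := hZ hb h hh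
      obtain ⟨t, ht⟩ := fix_sub hw hB u
      have h3 : (α • w + β • u) - ap B (α • w + β • u) = (β * t) • w := by
        have e2 : (α • w + β • u) - ap B (α • w + β • u) = β • (u - ap B u) := by
          rw [NatPair.ap_add, ap_smul, ap_smul, hB, smul_sub]
          abel
        rw [e2, ht, smul_smul]
      have h4 : ((c * α) • w + (c⁻¹ * β) • u) - ap B ((c * α) • w + (c⁻¹ * β) • u) = (c⁻¹ * β * t) • w := by
        have e2 : ((c * α) • w + (c⁻¹ * β) • u) - ap B ((c * α) • w + (c⁻¹ * β) • u) = (c⁻¹ * β) • (u - ap B u) := by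
          rw [NatPair.ap_add, ap_smul, ap_smul, hB, smul_sub]
          abel
        rw [e2, ht, smul_smul]
      have h5 := T_fm M hw hR p hh hT (hZ hb) hB' h3
      have h6 := T_fm M hw hR p hh hT (hZ hb) hB' h4
      rw [← hT'T (fm κ (h * M.e ((c * α) • w + (c⁻¹ * β) • u) * h⁻¹) b), h6, mul_assoc, ← h5, hμ', hμμ']
  · intro b hb hbV a ha
    have hinv : (h * g₀ * h⁻¹)⁻¹ * a * (h * g₀ * h⁻¹) ∈ LL V R R :=
      conj_inv_mem_of_normalizer (normalizer_le_LL V R R hgN) ha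
    have h1 : g₀⁻¹ * (h⁻¹ * a * h) * g₀ ∈ LL V R R :=
      conj_inv_mem_of_normalizer (normalizer_le_LL V R R hg₀R)
        (conj_inv_mem_of_normalizer (normalizer_le_LL V R R hh) ha)
    have h2 := inv_mem (hgV _ h1)
    have e1 : (g₀ * (g₀⁻¹ * (h⁻¹ * a * h) * g₀) * g₀⁻¹ * (g₀⁻¹ * (h⁻¹ * a * h) * g₀)⁻¹)⁻¹ =
        h⁻¹ * ((h * g₀ * h⁻¹)⁻¹ * a * (h * g₀ * h⁻¹) * a⁻¹) * h := by group
    rw [e1] at h2
    have h3 : (h * g₀ * h⁻¹)⁻¹ * a * (h * g₀ * h⁻¹) * a⁻¹ ∈ cj h V := mem_cj.2 h2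
    have h3W : (h * g₀ * h⁻¹)⁻¹ * a * (h * g₀ * h⁻¹) * a⁻¹ ∈ LL V R R := mul_mem hinv (inv_mem ha)
    have h4 : fm κ ((h * g₀ * h⁻¹)⁻¹ * a * (h * g₀ * h⁻¹)) b = fm κ a b := by
      have e2 : (h * g₀ * h⁻¹)⁻¹ * a * (h * g₀ * h⁻¹) = ((h * g₀ * h⁻¹)⁻¹ * a * (h * g₀ * h⁻¹) * a⁻¹) * a := by group
      rw [e2, p.mul_left h3W ha (p.tst hb), (p.fm_eq_zero h3W (p.tst hb)).2 (hbV _ h3), zero_add]
    have hgb : h * g₀ * h⁻¹ * b * (h * g₀ * h⁻¹)⁻¹ ∈ W' := conj_mem_of_normalizer (hnW' hgN) hb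
    apply p.κ_inj
    rw [p.spec ha (p.tst hgb), ← hg1, ← h4, p.spec hinv (p.tst hb)]
    group

end Cfsg.Agent.Omega.Mix
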